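import Mathlib
import Cfsg.Agent.Omega.Lie.End.KTrFree
import Cfsg.Agent.OddHalf.NI.Mult.Torus

/-!
# The torus of a central extension of odd degree is abelian

* `comm_of_cyc` : `T` acts on the elementary abelian 2-group `A` as an abelian group transitive on `A \ 1`, the kernel of
  the action is central in `T`: `T` is abelian (the image is cyclic);
* `fix_eq_one` : an element of `T ∩ ⟨A, B⟩` centralising `A` is trivial (`One`, `T` abelian).
-/

set_option autoImplicit false
set_option linter.unusedSectionVars false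

namespace Cfsg.Agent.Omega.CR.Ab

open Subgroup Cfsg.Agent.Omega.Lie.End.KTrFree

section cyc

variable {Y : Type*} [Group Y] {A T : Subgroup Y}

theorem comm_of_sq (hsq : ∀ x ∈ A, x * x = 1) {x y : Y} (hx : x ∈ A) (hy : y ∈ A) : x * y = y * x := by
  have h1 := hsq _ (A.mul_mem hx hy)
  have h4 : x⁻¹ = x := inv_eq_of_mul_eq_one_left (hsq x hx)
  have h5 : y⁻¹ = y := inv_eq_of_mul_eq_one_left (hsq y hy)
  have h6 : (x * y)⁻¹ = x * y := inv_eq_of_mul_eq_one_left h1
  rw [← h6, mul_inv_rev, h4, h5]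

/-- **The torus of rank one is abelian.** -/
theorem comm_of_cyc [Finite Y] (hsq : ∀ x ∈ A, x * x = 1) (hA : A ≠ ⊥) (TA : ∀ t ∈ T, ∀ x ∈ A, t * x * t⁻¹ ∈ A)
    (hab : ∀ s ∈ T, ∀ t ∈ T, ∀ x ∈ A, (s * t) * x * (s * t)⁻¹ = (t * s) * x * (t * s)⁻¹)
    (htr : ∀ x ∈ A, ∀ y ∈ A, x ≠ 1 → y ≠ 1 → ∃ t ∈ T, t * x * t⁻¹ = y)
    (hc : ∀ c ∈ T, (∀ x ∈ A, c * x * c⁻¹ = x) → ∀ t ∈ T, c * t = t * c) : ∀ s ∈ T, ∀ t ∈ T, s * t = t * s := by
  classical
  let _ : CommGroup A := { (inferInstance : Group A) with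
    mul_comm := fun a b => Subtype.ext (comm_of_sq hsq a.2 b.2) }
  obtain ⟨a₀, ha₀, ha01⟩ := (A.bot_or_exists_ne_one).resolve_left hA
  -- the action
  let φ : T →* AddMonoid.End (Additive A) :=
    { toFun := fun t =>
        { toFun := fun x => Additive.ofMul ⟨(t : Y) * (x.toMul : Y) * (t : Y)⁻¹, TA t t.2 _ x.toMul.2⟩
          map_zero' := by
            apply Additive.toMul.injective
            apply Subtype.ext
            change (t : Y) * 1 * (t : Y)⁻¹ = 1
            group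
          map_add' := fun x y => by
            apply Additive.toMul.injective
            apply Subtype.ext
            change (t : Y) * ((x.toMul : Y) * (y.toMul : Y)) * (t : Y)⁻¹ =
              (t : Y) * (x.toMul : Y) * (t : Y)⁻¹ * ((t : Y) * (y.toMul : Y) * (t : Y)⁻¹)
            group }
      map_one' := by
        ext x
        change (1 : Y) * (x.toMul : Y) * (1 : Y)⁻¹ = (x.toMul : Y)
        group
      map_mul' := fun s t => by
        ext x
        change ((s : Y) * (t : Y)) * (x.toMul : Y) * ((s : Y) * (t : Y))⁻¹ =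
          (s : Y) * ((t : Y) * (x.toMul : Y) * (t : Y)⁻¹) * (s : Y)⁻¹
        group }
  have hφ : ∀ (t : T) (x : Additive A), ((φ t x).toMul : Y) = (t : Y) * (x.toMul : Y) * (t : Y)⁻¹ := fun _ _ => rfl
  -- the commutant
  let R := Subring.centralizer (Set.range φ)
  have hmem : ∀ r : AddMonoid.End (Additive A), r ∈ R ↔ ∀ t : T, φ t * r = r * φ t := by
    intro r
    rw [Subring.mem_centralizer_iff]
    constructor
    · intro h t
      exact h _ ⟨t, rfl⟩
    · rintro h _ ⟨t, rfl⟩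
      exact h t
  -- a nonzero element of the commutant is injective
  have hinj : ∀ r ∈ R, ∀ x : Additive A, x ≠ 0 → r x = 0 → r = 0 := by
    intro r hr x hx h0
    ext1 y
    by_cases hy : y = 0
    · rw [hy, map_zero, map_zero]
    obtain ⟨t, ht, e⟩ := htr (x.toMul : Y) x.toMul.2 (y.toMul : Y) y.toMul.2
      (fun e => hx (Additive.toMul.injective (Subtype.ext e))) (fun e => hy (Additive.toMul.injective (Subtype.ext e)))
    have h1 : φ ⟨t, ht⟩ x = y := Additive.toMul.injective (Subtype.ext e)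
    have h2 := congrArg (fun f : AddMonoid.End (Additive A) => f x) ((hmem r).1 hr ⟨t, ht⟩)
    change φ ⟨t, ht⟩ (r x) = r (φ ⟨t, ht⟩ x) at h2
    rw [h0, map_zero, h1] at h2
    rw [← h2]
    rfl
  have hx₀ : Additive.ofMul (⟨a₀, ha₀⟩ : A) ≠ 0 := by
    intro e
    exact ha01 (congrArg Subtype.val (Additive.ofMul.injective e))
  have hnt : Nontrivial R := by
    refine ⟨⟨0, 1, fun e => hx₀ ?_⟩⟩
    have h1 : (0 : AddMonoid.End (Additive A)) = 1 := congrArg Subtype.val e
    have h2 := congrArg (fun f : AddMonoid.End (Additive A) => f (Additive.ofMul (⟨a₀, ha₀⟩ : A))) h1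
    exact h2.symm
  have hnzd : NoZeroDivisors R := by
    refine ⟨fun {r s} hrs => ?_⟩
    by_contra hcon
    push Not at hcon
    obtain ⟨hr, hs⟩ := hcon
    have h1 : (s : AddMonoid.End (Additive A)) (Additive.ofMul (⟨a₀, ha₀⟩ : A)) ≠ 0 := fun e =>
      hs (Subtype.ext (hinj _ s.2 _ hx₀ e))
    have h2 : (r : AddMonoid.End (Additive A)) ((s : AddMonoid.End (Additive A)) (Additive.ofMul (⟨a₀, ha₀⟩ : A))) = 0 := by
      have h3 := congrArg (fun f : R => (f : AddMonoid.End (Additive A)) (Additive.ofMul (⟨a₀, ha₀⟩ : A))) hrs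
      exact h3
    exact hr (Subtype.ext (hinj _ r.2 _ h1 h2))
  have hdom : IsDomain R := NoZeroDivisors.to_isDomain R
  have hfinE : Finite (AddMonoid.End (Additive A)) :=
    Finite.of_injective (fun f : AddMonoid.End (Additive A) => (f : Additive A → Additive A)) DFunLike.coe_injective
  have hfin : Finite R := Subtype.finite
  have hfield := Finite.isDomain_to_isField R
  let _ : CommRing R := { (inferInstance : Ring R) with mul_comm := hfield.mul_comm }
  have hdom' : IsDomain R := hdom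
  -- the homomorphism to the units
  let f : T →* R :=
    { toFun := fun t => ⟨φ t, (hmem _).2 fun s => by
        rw [← map_mul, ← map_mul]
        ext x
        exact hab s s.2 t t.2 _ x.toMul.2⟩
      map_one' := Subtype.ext (map_one φ)
      map_mul' := fun s t => Subtype.ext (map_mul φ s t) }
  have hcyc : IsCyclic Rˣ := inferInstance
  have hker : f.toHomUnits.ker ≤ Subgroup.center T := by
    intro c hc'
    rw [MonoidHom.mem_ker] at hc'
    have h1 : f c = 1 := congrArg Units.val hc'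
    have h2 : φ c = 1 := congrArg Subtype.val h1
    rw [Subgroup.mem_center_iff]
    intro t
    have h3 := hc c c.2 (fun x hx => by
      have h4 := congrArg (fun g : AddMonoid.End (Additive A) => ((g (Additive.ofMul ⟨x, hx⟩)).toMul : Y)) h2
      exact h4) t t.2
    exact Subtype.ext h3.symm
  intro s hs t ht
  exact congrArg Subtype.val (commutative_of_cyclic_center_quotient f.toHomUnits hker ⟨s, hs⟩ ⟨t, ht⟩)

end cyc

section one

variable {Y : Type*} [Group Y] {A B T : Subgroup Y} {n : Y} (D : One A B T n)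
include D

/-- the involution `m = s n ∈ ⟨A, B⟩` -/
theorem exists_m (hA : A ≠ ⊥) : ∃ s ∈ T, s * n ∈ A ⊔ B ∧ s * n * (s * n) = 1 := by
  obtain ⟨x, hx, hx1⟩ := (A.bot_or_exists_ne_one).resolve_left hA
  obtain ⟨a, ha, s, hs, e⟩ := D.exists_mu (D.nA x hx) (One.conj_ne hx1)
  refine ⟨s, hs, ?_, ?_⟩
  · rw [e]
    exact mul_mem (mul_mem (mem_sup_left ha) (mem_sup_right (D.nA x hx))) (inv_mem (mem_sup_left ha))
  · rw [e]
    have h1 := D.symm.sq _ (D.nA x hx)
    calc a * (n * x * n⁻¹) * a⁻¹ * (a * (n * x * n⁻¹) * a⁻¹) = a * (n * x * n⁻¹ * (n * x * n⁻¹)) * a⁻¹ := by group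
      _ = 1 := by rw [h1]; group

/-- the elements of the rank one torus are inverted by `m` -/
theorem inverted (hA : A ≠ ⊥) {s : Y} (hs : s ∈ T) (hmm : s * n * (s * n) = 1) {c : Y}
    (hc : c ∈ T) (hcL : c ∈ A ⊔ B) : s * n * c * (s * n)⁻¹ = c⁻¹ := by
  obtain ⟨m, hmd⟩ : ∃ m, m = s * n := ⟨_, rfl⟩
  rw [← hmd] at hmm ⊢
  have hmi : m⁻¹ = m := inv_eq_of_mul_eq_one_left hmm
  have hmT : ∀ t ∈ T, m * t * m⁻¹ ∈ T := by
    intro t ht
    have e : m * t * m⁻¹ = s * (n * t * n⁻¹) * s⁻¹ := by rw [hmd]; group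
    rw [e]
    exact T.mul_mem (T.mul_mem hs (D.nT t ht)) (T.inv_mem hs)
  have hmA : ∀ x ∈ A, m * x * m⁻¹ ∈ B := by
    intro x hx
    have e : m * x * m⁻¹ = s * (n * x * n⁻¹) * s⁻¹ := by rw [hmd]; group
    rw [e]
    exact D.TB s hs _ (D.nA x hx)
  have hmB : ∀ x ∈ B, m * x * m⁻¹ ∈ A := by
    intro x hx
    have e : m * x * m⁻¹ = s * (n * x * n⁻¹) * s⁻¹ := by rw [hmd]; group
    rw [e]
    exact D.TA s hs _ (D.nB x hx)
  -- the inverted elements
  let TI : Subgroup Y :=
    { carrier := {t | t ∈ T ∧ m * t * m⁻¹ = t⁻¹}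
      one_mem' := ⟨T.one_mem, by group⟩
      mul_mem' := by
        rintro a b ⟨ha, ha'⟩ ⟨hb, hb'⟩
        refine ⟨T.mul_mem ha hb, ?_⟩
        have e : m * (a * b) * m⁻¹ = (m * a * m⁻¹) * (m * b * m⁻¹) := by group
        rw [e, ha', hb', mul_inv_rev, D.ab _ (T.inv_mem ha) _ (T.inv_mem hb)]
      inv_mem' := by
        rintro a ⟨ha, ha'⟩
        refine ⟨T.inv_mem ha, ?_⟩
        have e : m * a⁻¹ * m⁻¹ = (m * a * m⁻¹)⁻¹ := by group
        rw [e, ha'] }
  have hTI : TI ≤ T := fun t ht => ht.1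
  have D' : One A B TI m :=
    { ab := fun s hs t ht => D.ab s (hTI hs) t (hTI ht)
      odd := Odd.of_dvd_nat D.odd (card_dvd_of_le hTI)
      sq := D.sq
      TA := fun t ht => D.TA t (hTI ht)
      TB := fun t ht => D.TB t (hTI ht)
      nA := hmA
      nA' := fun x hx => by
        have := hmA x hx
        rw [hmi] at this ⊢
        exact this
      nB := hmB
      nB' := fun x hx => by
        have := hmB x hx
        rw [hmi] at this ⊢
        exact this
      nT := fun t ht => by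
        rw [ht.2]
        exact TI.inv_mem ht
      nT' := fun t ht => by
        have h1 := ht.2
        rw [hmi] at h1 ⊢
        rw [h1]
        exact TI.inv_mem ht
      nn := by
        rw [hmm]
        exact TI.one_mem
      rk := fun u hu hu1 => by
        obtain ⟨a, ha, r, hr, e⟩ := D.exists_mu hu hu1
        have hrr : r * n * (r * n) = 1 := by
          rw [e]
          have h1 := D.symm.sq u hu
          calc a * u * a⁻¹ * (a * u * a⁻¹) = a * (u * u) * a⁻¹ := by group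
            _ = 1 := by rw [h1]; group
        have hri : (r * n)⁻¹ = r * n := inv_eq_of_mul_eq_one_left hrr
        refine ⟨a⁻¹, A.inv_mem ha, r * n * m⁻¹, ⟨?_, ?_⟩, a, ha, ?_⟩
        · have e1 : r * n * m⁻¹ = r * s⁻¹ := by rw [hmd]; group
          rw [e1]
          exact T.mul_mem hr (T.inv_mem hs)
        · have e1 : (r * n * m⁻¹)⁻¹ = m * (r * n) := by rw [mul_inv_rev, inv_inv, hri]
          rw [e1]
          calc m * (r * n * m⁻¹) * m⁻¹ = m * (r * n) * (m * m)⁻¹ := by group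
            _ = m * (r * n) := by rw [hmm]; group
        · have e1 : u = a⁻¹ * (a * u * a⁻¹) * a := by group
          rw [e1, ← e]
          group
      inf := fun x hx a ha t ht e => D.inf x hx a ha t (hTI ht) e }
  rcases D'.bruhat hcL with ⟨a, ha, t, ht, e⟩ | ⟨a, ha, t, ht, b, hb, e⟩
  · have h1 : n * a * n⁻¹ = 1 := by
      -- `a ∈ A ∩ T`
      have haT : a ∈ T := by
        have e1 : a = c * t⁻¹ := by rw [e]; group
        rw [e1]
        exact T.mul_mem hc (T.inv_mem ht.1)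
      refine D.inf _ (D.nA a ha) 1 A.one_mem _ (D.nT a haT) ?_
      rw [one_mul]
    have h2 : a = 1 := by
      by_contra h3
      exact One.conj_ne h3 h1
    rw [e, h2, one_mul]
    exact ht.2
  · exfalso
    obtain ⟨x, hx, hx1⟩ := (A.bot_or_exists_ne_one).resolve_left hA
    have h1 : m * x * m⁻¹ ∈ B := hmA x hx
    have hme : m = t⁻¹ * a⁻¹ * c * b⁻¹ := by rw [e]; group
    have hbx : b⁻¹ * x * b⁻¹⁻¹ ∈ A := A.mul_mem (A.mul_mem (A.inv_mem hb) hx) (A.inv_mem (A.inv_mem hb))
    have h2 : m * x * m⁻¹ ∈ A := by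
      have e1 : m * x * m⁻¹ = t⁻¹ * (a⁻¹ * (c * (b⁻¹ * x * b⁻¹⁻¹) * c⁻¹) * a) * t⁻¹⁻¹ := by rw [hme]; group
      rw [e1]
      exact D.TA _ (T.inv_mem ht.1) _ (A.mul_mem (A.mul_mem (A.inv_mem ha) (D.TA c hc _ hbx)) ha)
    exact One.conj_ne hx1 (D.inf' h2 h1)

/-- **An element of the rank one torus centralising `A` is trivial.** -/
theorem fix_eq_one (hA : A ≠ ⊥) {c : Y} (hc : c ∈ T) (hcL : c ∈ A ⊔ B) (hfix : ∀ x ∈ A, c * x * c⁻¹ = x) : c = 1 := by
  obtain ⟨s, hs, hm, hmm⟩ := exists_m D hA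
  have h1 := inverted D hA hs hmm hc hcL
  obtain ⟨m, hmd⟩ : ∃ m, m = s * n := ⟨_, rfl⟩
  rw [← hmd] at hm hmm h1
  have hcA : A ≤ centralizer {c} := by
    intro x hx
    rw [mem_centralizer_singleton_iff]
    exact (mul_inv_eq_iff_eq_mul.1 (hfix x hx)).symm
  have hcB : B ≤ centralizer {c} := by
    intro x hx
    rw [mem_centralizer_singleton_iff]
    -- `x = m y m⁻¹`
    have hy : m⁻¹ * x * m ∈ A := by
      have e : m⁻¹ * x * m = (s * n)⁻¹ * x * (s * n) := by rw [hmd]
      have e1 : (s * n)⁻¹ * x * (s * n) = n⁻¹ * (s⁻¹ * x * s⁻¹⁻¹) * n := by group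
      rw [e, e1]
      exact D.nB' _ (D.TB _ (T.inv_mem hs) x hx)
    have h2 := hfix _ hy
    have h3 : m * c⁻¹ * m⁻¹ = c := by
      have e : m * c⁻¹ * m⁻¹ = (m * c * m⁻¹)⁻¹ := by group
      rw [e, h1, inv_inv]
    have h4 : c * x * c⁻¹ = x := by
      calc c * x * c⁻¹ = (m * c⁻¹ * m⁻¹) * x * (m * c⁻¹ * m⁻¹)⁻¹ := by rw [h3]
        _ = m * (c⁻¹ * (m⁻¹ * x * m) * c) * m⁻¹ := by group
        _ = m * (c⁻¹ * (c * (m⁻¹ * x * m) * c⁻¹) * c) * m⁻¹ := by rw [h2]
        _ = x := by group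
    exact (mul_inv_eq_iff_eq_mul.1 h4).symm
  have h5 : m * c = c * m := mem_centralizer_singleton_iff.1 ((sup_le hcA hcB) hm)
  have h6 : c⁻¹ = c := by rw [← h1, h5, mul_inv_cancel_right]
  refine D.t_one hc ?_
  calc c * c = c * c⁻¹ := by rw [h6]
    _ = 1 := mul_inv_cancel c

end one

end Cfsg.Agent.Omega.CR.Ab
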