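import Cfsg.Agent.Omega.CR.Fam

/-!
# The theorem of Curtis and Richen for actions on elementary abelian groups

`M` an additive group of exponent `p` on which `Y` acts, without proper subgroups invariant under the group of the family.

* `Fam.act_le` : a nonzero subgroup fixed by `U`, invariant under `T`, is `C_M(U)`;
* `Fam.act_le'` : a nonzero subgroup invariant under `U` and `T` contains `C_M(U)`;
* `Fam.act_gen` : `M` is generated by the `U⁻`-conjugates of `C_M(U)`;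
* `Fam.act_inter` : `[M, U⁻] ∩ C_M(U) = 0`;
* `Fam.act_n` : `n_i C_M(U) ⊆ ⟨X_{-i}-conjugates of C_M(U)⟩`.
-/

set_option autoImplicit false
set_option linter.unusedSectionVars false

namespace Cfsg.Agent.Omega.CR

open CoxeterSystem Cfsg.Agent.ChevalleyStructure.CoxeterGeom Cfsg.Agent.Tits.Roots Cfsg.Agent.Tits.Core
  Cfsg.Agent.Tits.Exchange Cfsg.Agent.Nodes.Reps Cfsg.Agent.Nodes.BNOf Cfsg.Agent.Nodes.StabComb
  Cfsg.Agent.Nodes.Bruhat Cfsg.Agent.Nodes.OppDec Cfsg.Agent.Nodes.LeviDec Cfsg.Agent.KFacts.RgdOpp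

variable {κ : Type*} [Fintype κ] {I W : κ → Type*} {Y : Type*} [∀ l, Fintype (I l)] [∀ l, DecidableEq (I l)]
  [∀ l, Group (W l)] [Group Y] {M : ∀ l, CoxeterMatrix (I l)}
  {cs : ∀ l, CoxeterSystem (M l) (W l)} {A : ∀ l, I l → I l → ℤ} {h : ∀ l, IsCartan (M l) (A l)} {p : ℕ}
  {T : Subgroup Y} {n : ∀ l, I l → Y} {X : ∀ l, (I l → ℤ) → Subgroup Y} {C : κ → Subgroup Y}

section

variable {E : Type*} [AddCommGroup E] [DistribMulAction Y E]

/-- the representation over `F_p` -/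
def rep_of (Y : Type*) [Group Y] {E : Type*} [AddCommGroup E] [DistribMulAction Y E] (p : ℕ) [Module (ZMod p) E] :
    Y →* Module.End (ZMod p) E where
  toFun g := (DistribSMul.toAddMonoidHom E g).toZModLinearMap p
  map_one' := by ext v; exact one_smul Y v
  map_mul' a b := by ext v; exact mul_smul a b v

theorem rep_of_apply [Module (ZMod p) E] (g : Y) (v : E) : rep_of Y p g v = g • v := rfl

/-- the additive subgroup as a subspace -/
def toSub [Module (ZMod p) E] (L : AddSubgroup E) : Submodule (ZMod p) E := AddSubgroup.toZModSubmodule p L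

theorem mem_toSub [Module (ZMod p) E] {L : AddSubgroup E} {v : E} : v ∈ toSub (p := p) L ↔ v ∈ L := Iff.rfl

theorem toSub_ne [Module (ZMod p) E] {L : AddSubgroup E} (hL : L ≠ ⊥) : toSub (p := p) L ≠ ⊥ := by
  intro h0
  apply hL
  rw [eq_bot_iff]
  intro v hv
  have h1 : v ∈ toSub (p := p) L := hv
  rw [h0, Submodule.mem_bot] at h1
  exact AddSubgroup.mem_bot.2 h1

end

theorem hirr' [Fact p.Prime] {E : Type*} [AddCommGroup E] [DistribMulAction Y E] {G : Subgroup Y}
    (hirr : ∀ L : AddSubgroup E, (∀ g ∈ G, ∀ v ∈ L, g • v ∈ L) → L = ⊥ ∨ L = ⊤) [Module (ZMod p) E]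
    (L : Submodule (ZMod p) E) (hL : Ivt (rep_of Y p (E := E)) G L) :
    L = ⊥ ∨ L = ⊤ := by
  rcases hirr L.toAddSubgroup hL with h1 | h1
  · left
    rw [eq_bot_iff]
    intro v hv
    have h2 : v ∈ L.toAddSubgroup := hv
    rw [h1, AddSubgroup.mem_bot] at h2
    exact (Submodule.mem_bot _).2 h2
  · right
    rw [eq_top_iff]
    intro v _
    have h2 : v ∈ L.toAddSubgroup := by rw [h1]; trivial
    exact h2

namespace Fam

variable (F : Fam cs h p T n X C) [Finite Y] [∀ l, Finite (W l)] [Fact p.Prime] {E : Type*} [AddCommGroup E]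
  [DistribMulAction Y E] [Finite E] (hp : ∀ v : E, p • v = 0)
  (hirr : ∀ L : AddSubgroup E, (∀ g ∈ GGt cs h T X, ∀ v ∈ L, g • v ∈ L) → L = ⊥ ∨ L = ⊤)
include F hp hirr

/-- a nonzero subgroup fixed by `U`, invariant under `T`, is `C(U)` -/
theorem act_le {e : AddSubgroup E} (he : e ≠ ⊥) (hU : ∀ u ∈ Ut cs h X, ∀ x ∈ e, u • x = x)
    (hT : ∀ t ∈ T, ∀ x ∈ e, t • x ∈ e) {x : E} (hx : ∀ u ∈ Ut cs h X, u • x = x) : x ∈ e := by
  let _ : Module (ZMod p) E := AddCommGroup.zmodModule (n := p) hp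
  have _ : FiniteDimensional (ZMod p) E := Module.Finite.of_finite
  have h1 := F.eq_of_le (k := ZMod p) (V := E) (rep_of Y p (E := E)) (hirr' hirr) (N := toSub e) (toSub_ne he) (fun v hv u hu => hU u hu v hv)
    (fun t ht v hv => hT t ht v hv)
  have h2 : x ∈ fx (rep_of Y p (E := E)) (Ut cs h X) := hx
  rw [← h1] at h2
  exact h2

/-- a nonzero subgroup invariant under `U` and `T` contains `C(U)` -/
theorem act_le' {N : AddSubgroup E} (hN : N ≠ ⊥) (hU : ∀ u ∈ Ut cs h X, ∀ x ∈ N, u • x ∈ N)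
    (hT : ∀ t ∈ T, ∀ x ∈ N, t • x ∈ N) {x : E} (hx : ∀ u ∈ Ut cs h X, u • x = x) : x ∈ N := by
  let _ : Module (ZMod p) E := AddCommGroup.zmodModule (n := p) hp
  have _ : FiniteDimensional (ZMod p) E := Module.Finite.of_finite
  have h1 := F.fx_le (k := ZMod p) (V := E) (rep_of Y p (E := E)) (hirr' hirr) (N := toSub N) (toSub_ne hN) (fun u hu v hv => hU u hu v hv)
    (fun t ht v hv => hT t ht v hv)
  exact h1 (show x ∈ fx (rep_of Y p (E := E)) (Ut cs h X) from hx)

/-- `E` is generated by the `U⁻`-conjugates of `C(U)` -/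
theorem act_gen [Nontrivial E] {L : AddSubgroup E} (hL : ∀ x, (∀ u ∈ Ut cs h X, u • x = x) → ∀ u ∈ UNt cs h X, u • x ∈ L) :
    L = ⊤ := by
  let _ : Module (ZMod p) E := AddCommGroup.zmodModule (n := p) hp
  have _ : FiniteDimensional (ZMod p) E := Module.Finite.of_finite
  have h1 := (F.main (k := ZMod p) (V := E) (rep_of Y p (E := E)) (hirr' hirr)).gen (hirr' hirr)
  rw [eq_top_iff]
  intro v _
  have h2 : v ∈ Sp (rep_of Y p (E := E)) (UNt cs h X) (fx (rep_of Y p (E := E)) (Ut cs h X)) := by rw [h1]; trivial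
  have h3 : Sp (rep_of Y p (E := E)) (UNt cs h X) (fx (rep_of Y p (E := E)) (Ut cs h X)) ≤ toSub (p := p) L := by
    unfold Sp
    rw [Submodule.span_le]
    rintro _ ⟨u, hu, x, hx, rfl⟩
    exact hL x hx u hu
  exact h3 h2

/-- `[E, U⁻] ∩ C(U) = 0` -/
theorem act_inter {x : E} (hx : ∀ u ∈ Ut cs h X, u • x = x)
    (hx' : x ∈ AddSubgroup.closure {y : E | ∃ u ∈ UNt cs h X, ∃ z : E, u • z - z = y}) : x = 0 := by
  let _ : Module (ZMod p) E := AddCommGroup.zmodModule (n := p) hp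
  have _ : FiniteDimensional (ZMod p) E := Module.Finite.of_finite
  by_contra h0
  have : Nontrivial E := nontrivial_of_ne x 0 h0
  obtain ⟨φ, hφ, hφx⟩ := (F.eq_fx (k := ZMod p) (V := E) (rep_of Y p (E := E)) (hirr' hirr) (F.main (k := ZMod p) (V := E) (rep_of Y p (E := E)) (hirr' hirr))).2 x hx h0
  apply hφx
  rw [mem_fx_dual] at hφ
  have h1 : AddSubgroup.closure {y : E | ∃ u ∈ UNt cs h X, ∃ z : E, u • z - z = y} ≤ (φ : E →+ ZMod p).ker := by
    rw [AddSubgroup.closure_le]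
    rintro _ ⟨u, hu, z, rfl⟩
    change φ (u • z - z) = 0
    rw [map_sub, sub_eq_zero]
    exact hφ u hu z
  exact h1 hx'

/-- `n_i C(U) ⊆ ⟨X_{-i}-conjugates of C(U)⟩` -/
theorem act_n [Nontrivial E] (l : κ) (i : I l) {L : AddSubgroup E}
    (hL : ∀ x, (∀ u ∈ Ut cs h X, u • x = x) → ∀ u ∈ X l (-sr i), u • x ∈ L) {x : E}
    (hx : ∀ u ∈ Ut cs h X, u • x = x) : n l i • x ∈ L := by
  let _ : Module (ZMod p) E := AddCommGroup.zmodModule (n := p) hp
  have _ : FiniteDimensional (ZMod p) E := Module.Finite.of_finite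
  have h1 := (F.main (k := ZMod p) (V := E) (rep_of Y p (E := E)) (hirr' hirr)).n_mem l i (v := x) hx
  have h3 : Sp (rep_of Y p (E := E)) (X l (-sr i)) (fx (rep_of Y p (E := E)) (Ut cs h X)) ≤ toSub (p := p) L := by
    unfold Sp
    rw [Submodule.span_le]
    rintro _ ⟨u, hu, x, hx, rfl⟩
    exact hL x hx u hu
  exact h3 h1

end Fam

end Cfsg.Agent.Omega.CR
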