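import Cfsg.Agent.Omega.CR.Hecke
import Cfsg.Agent.Omega.ML.LieRow.Bld

/-!
# The theorem of Curtis and Richen for all split (B,N)-pairs, in the language of buildings (helper818)

`S : Sys Δ G p` (a finite group with a split (B,N)-pair of characteristic `p`, seen through its building), `ρ` a
representation of `G` over a field of characteristic `p`.

* `Vx x` : the fixed space of `U x`;  `tr y x : Vx x → Vx y` : the Hecke operators, `tr_comp`, `Syst.sq`;
* `Syst N` : an equivariant system of subspaces `N x ≤ Vx x`;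
* `Syst.star` : `N y ≤ ∑ N z`, over the other chambers of a panel (`N` simple and stable under the Hecke operators);
* `Syst.le_opp` : `N z ≤ ∑ N x`, over the chambers `x` opposite to a fixed chamber.
-/

set_option autoImplicit false
set_option linter.unusedSectionVars false

namespace Cfsg.Agent.Omega.CR.Bl

open Cfsg.Agent.Tits.Core Cfsg.Agent.Tits.Core.Bldg Cfsg.Agent.Tits.Exchange Cfsg.Agent.Tits
open Cfsg.Agent.FixBN Cfsg.Agent.FixBN.Cox

variable {I : Type*} {M : CoxeterMatrix I} {W : Type*} [Group W] {cs : CoxeterSystem M W} {C : Type*}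
  {Δ : Bldg cs C}

local prefix:100 "ℓ" => cs.length

omit Δ in
theorem length_le_w0 [F : OppRes.Cox cs] (w : W) : ℓ w ≤ ℓ (w0 cs) := by
  have := F.len_mul_w0 w
  omega

theorem eq_w0_of_forall [F : OppRes.Cox cs] {w : W} (h : ∀ i, ℓ (w * cs.simple i) ≤ ℓ w) : w = w0 cs := by
  by_contra hne
  have h1 : w0 cs * w ≠ 1 := by
    intro h2
    apply hne
    have h3 : w = w0 cs * (w0 cs * w) := by rw [← mul_assoc, F.w0_mul_self, one_mul]
    rw [h3, h2, mul_one]
  obtain ⟨j, -, hj⟩ := F.exists_descent (J := Set.univ) (by rw [WJ_univ]; trivial) h1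
  have h2 := F.len_w0_mul w
  have h3 := F.len_w0_mul (w * cs.simple j)
  have h4 := h j
  rw [mul_assoc] at hj
  omega

variable {G : Type*} [Group G] [MulAction G C] {p : ℕ} (S : Sys Δ G p) [F : OppRes.Cox cs]
  {k V : Type*} [Field k] [AddCommGroup V] [Module k V] (ρ : G →* Module.End k V)

/-- the fixed space of `U x` -/
def Vx (x : C) : Submodule k V := fx ρ (S.U x)

omit F in
theorem mem_Vx {x : C} {v : V} : v ∈ Vx S ρ x ↔ ∀ u ∈ S.U x, ρ u v = v := Iff.rfl

omit F in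
theorem rho_mem_Vx (g : G) {x : C} {v : V} (hv : v ∈ Vx S ρ x) : ρ g v ∈ Vx S ρ (g • x) := by
  intro u hu
  have h1 : g⁻¹ * u * g ∈ S.U x := by
    have := S.conj_mem_U hu g⁻¹
    rwa [inv_smul_smul, inv_inv] at this
  have h2 : u * g = g * (g⁻¹ * u * g) := by group
  rw [← rho_mul, h2, rho_mul, hv _ h1]

omit F in
/-- the values do not depend on the choice -/
theorem val {x y : C} {v : V} (hv : v ∈ Vx S ρ x) {u u' : G} (hu : u ∈ S.U y) (hu' : u' ∈ S.U y)
    (h : u • x = u' • x) : ρ u v = ρ u' v := by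
  have h1 : u'⁻¹ * u ∈ S.U x := by
    refine S.mem_U_of_fix (mul_mem (inv_mem hu') hu) ?_
    rw [mul_smul, h, inv_smul_smul]
  have h2 : u = u' * (u'⁻¹ * u) := by group
  rw [h2, rho_mul, hv _ h1]

/-- an element of `U y` which moves `x` to `z` -/
noncomputable def mv (y x z : C) : G := by
  classical
  exact if h : Δ.δ y x = Δ.δ y z then (S.exists_move h).choose else 1

theorem mv_mem (y x z : C) : mv S y x z ∈ S.U y := by
  classical
  unfold mv
  split_ifs with h
  · exact (S.exists_move h).choose_spec.1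
  · exact one_mem _

theorem mv_smul {y x z : C} (h : Δ.δ y z = Δ.δ y x) : mv S y x z • x = z := by
  classical
  unfold mv
  rw [dif_pos h.symm]
  exact (S.exists_move h.symm).choose_spec.2

section fin

variable [Fintype C]

/-- the sphere -/
noncomputable def sph (Δ : Bldg cs C) (y : C) (w : W) : Finset C := by
  classical
  exact Finset.univ.filter fun z => Δ.δ y z = w

theorem mem_sph {y z : C} {w : W} : z ∈ sph Δ y w ↔ Δ.δ y z = w := by
  classical
  unfold sph
  simp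

/-- the Hecke operator -/
noncomputable def tr (y x : C) : Module.End k V := ∑ z ∈ sph Δ y (Δ.δ y x), ρ (mv S y x z)

theorem tr_apply (y x : C) (v : V) : tr S ρ y x v = ∑ z ∈ sph Δ y (Δ.δ y x), ρ (mv S y x z) v := by
  unfold tr
  rw [LinearMap.sum_apply]

theorem tr_eq {x y : C} {v : V} (hv : v ∈ Vx S ρ x) (f : C → G)
    (hf : ∀ z, Δ.δ y z = Δ.δ y x → f z ∈ S.U y ∧ f z • x = z) :
    tr S ρ y x v = ∑ z ∈ sph Δ y (Δ.δ y x), ρ (f z) v := by
  rw [tr_apply]
  refine Finset.sum_congr rfl fun z hz => ?_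
  rw [mem_sph] at hz
  obtain ⟨h1, h2⟩ := hf z hz
  exact val S ρ hv (mv_mem S y x z) h1 (by rw [mv_smul S hz, h2])

theorem tr_mem {x y : C} {v : V} (hv : v ∈ Vx S ρ x) : tr S ρ y x v ∈ Vx S ρ y := by
  intro a ha
  rw [tr_apply, map_sum]
  refine Finset.sum_bij (fun z _ => a • z) ?_ ?_ ?_ ?_
  · intro z hz
    rw [mem_sph] at hz ⊢
    rw [S.δ_smul ha, hz]
  · intro z _ z' _ h
    exact smul_left_cancel a h
  · intro z hz
    rw [mem_sph] at hz
    refine ⟨a⁻¹ • z, ?_, smul_inv_smul a z⟩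
    rw [mem_sph, S.δ_smul (inv_mem ha), hz]
  · intro z hz
    rw [mem_sph] at hz
    rw [← rho_mul]
    refine val S ρ hv (mul_mem ha (mv_mem S y x z)) (mv_mem S y x _) ?_
    rw [mul_smul, mv_smul S hz, mv_smul S (by rw [S.δ_smul ha, hz])]

theorem rho_tr (g : G) {x y : C} {v : V} (hv : v ∈ Vx S ρ x) :
    ρ g (tr S ρ y x v) = tr S ρ (g • y) (g • x) (ρ g v) := by
  rw [tr_apply, tr_apply, map_sum]
  refine Finset.sum_bij (fun z _ => g • z) ?_ ?_ ?_ ?_
  · intro z hz
    rw [mem_sph] at hz ⊢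
    rw [S.iso, S.iso, hz]
  · intro z _ z' _ h
    exact smul_left_cancel g h
  · intro z hz
    rw [mem_sph] at hz
    refine ⟨g⁻¹ • z, ?_, smul_inv_smul g z⟩
    rw [mem_sph, ← S.iso g, smul_inv_smul, hz, S.iso]
  · intro z hz
    rw [mem_sph] at hz
    have h1 : g * mv S y x z = g * mv S y x z * g⁻¹ * g := by group
    rw [← rho_mul, h1, rho_mul]
    refine val S ρ (rho_mem_Vx S ρ g hv) (S.conj_mem_U (mv_mem S y x z) g) (mv_mem S _ _ _) ?_
    rw [mv_smul S (by rw [S.iso, S.iso, hz]), mul_smul, inv_smul_smul, mul_smul, mv_smul S hz]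

/-- **Composition.** -/
theorem tr_comp {x y z : C} (hl : ℓ (Δ.δ y z * Δ.δ z x) = ℓ (Δ.δ y z) + ℓ (Δ.δ z x)) {v : V}
    (hv : v ∈ Vx S ρ x) : tr S ρ y x v = tr S ρ y z (tr S ρ z x v) := by
  have hyx : Δ.δ y x = Δ.δ y z * Δ.δ z x := Δ.δ_mul_of rfl rfl hl
  have hd : ∀ x', Δ.δ z x' = Δ.δ z x → Δ.δ y x' = Δ.δ y x := by
    intro x' h
    rw [hyx, ← h]
    exact Δ.δ_mul_of rfl rfl (by rw [h]; exact hl)
  have hb : ∀ x', Δ.δ z x' = Δ.δ z x → mv S y x x' ∈ S.U z ∧ mv S y x x' • x = x' := by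
    intro x' h
    have h1 := mv_smul S (hd x' h)
    refine ⟨S.mem_U_of_fix (mv_mem S y x x') ?_, h1⟩
    refine Δ.between_unique hl (x := y) (z := x') ?_ ?_ rfl h
    · exact S.δ_smul (mv_mem S y x x')
    · have h2 : Δ.δ (mv S y x x' • z) (mv S y x x' • x) = Δ.δ z x := S.iso _ _ _
      rwa [h1] at h2
  rw [tr_eq S ρ (y := z) hv (fun x' => mv S y x x') hb, map_sum]
  have h1 : ∀ x' ∈ sph Δ z (Δ.δ z x), tr S ρ y z (ρ (mv S y x x') v) =
      ∑ z' ∈ sph Δ y (Δ.δ y z), ρ (mv S y z z' * mv S y x x') v := by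
    intro x' _
    rw [tr_apply]
    exact Finset.sum_congr rfl fun z' _ => by rw [rho_mul]
  rw [Finset.sum_congr rfl h1, ← Finset.sum_product', tr_apply]
  symm
  refine Finset.sum_bij (fun q _ => mv S y z q.2 • q.1) ?_ ?_ ?_ ?_
  · rintro ⟨x', z'⟩ h
    rw [Finset.mem_product, mem_sph, mem_sph] at h
    rw [mem_sph]
    exact (S.δ_smul (mv_mem S y z z')).trans (hd x' h.1)
  · rintro ⟨x₁, z₁⟩ h₁ ⟨x₂, z₂⟩ h₂ h
    rw [Finset.mem_product, mem_sph, mem_sph] at h₁ h₂
    obtain ⟨a₁, b₁⟩ := h₁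
    obtain ⟨a₂, b₂⟩ := h₂
    simp only at h a₁ b₁ a₂ b₂
    have e1 : Δ.δ z₁ (mv S y z z₁ • x₁) = Δ.δ z x := by
      have h2 : Δ.δ (mv S y z z₁ • z) (mv S y z z₁ • x₁) = Δ.δ z x₁ := S.iso _ _ _
      rwa [mv_smul S b₁, a₁] at h2
    have e2 : Δ.δ z₂ (mv S y z z₂ • x₂) = Δ.δ z x := by
      have h2 : Δ.δ (mv S y z z₂ • z) (mv S y z z₂ • x₂) = Δ.δ z x₂ := S.iso _ _ _
      rwa [mv_smul S b₂, a₂] at h2
    have e3 : z₁ = z₂ := Δ.between_unique hl (x := y) (z := mv S y z z₁ • x₁) b₁ e1 b₂ (by rw [h]; exact e2)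
    subst e3
    have e4 : x₁ = x₂ := smul_left_cancel _ h
    rw [e4]
  · intro x'' hx''
    rw [mem_sph, hyx] at hx''
    obtain ⟨z', h2, h3⟩ := Δ.exists_between hx'' hl
    refine ⟨((mv S y z z')⁻¹ • x'', z'), ?_, smul_inv_smul _ _⟩
    rw [Finset.mem_product, mem_sph, mem_sph]
    refine ⟨?_, h2⟩
    rw [← S.iso (mv S y z z'), smul_inv_smul, mv_smul S h2, h3]
  · rintro ⟨x', z'⟩ h
    rw [Finset.mem_product, mem_sph, mem_sph] at h
    obtain ⟨a, b⟩ := h
    simp only at a b ⊢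
    refine val S ρ hv (mul_mem (mv_mem S y z z') (mv_mem S y x x')) (mv_mem S y x _) ?_
    rw [mul_smul, mv_smul S (hd x' a), mv_smul S ((S.δ_smul (mv_mem S y z z')).trans (hd x' a))]

/-- in a panel the operators do not depend on the second chamber -/
theorem tr_panel {x y z : C} {i : I} (hxy : Δ.δ x y = cs.simple i) (hxz : Δ.δ x z = cs.simple i) {m : V}
    (hm : m ∈ Vx S ρ z) : tr S ρ x y m = tr S ρ x z m := by
  classical
  rw [tr_apply, tr_apply, hxy, hxz]
  have hinj : Set.InjOn (fun y' => mv S x y y' • z) (sph Δ x (cs.simple i) : Set C) := by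
    intro y₁ h₁ y₂ h₂ h
    rw [Finset.mem_coe, mem_sph] at h₁ h₂
    have h1 : ((mv S x y y₂)⁻¹ * mv S x y y₁) • z = z := by
      rw [mul_smul, show mv S x y y₁ • z = mv S x y y₂ • z from h, inv_smul_smul]
    have h2 := S.pan x z i hxz _ (mul_mem (inv_mem (mv_mem S x y y₂)) (mv_mem S x y y₁)) h1 y (Δ.mem_Pan_of_δ hxy)
    rw [mul_smul, inv_smul_eq_iff, mv_smul S (h₁.trans hxy.symm), mv_smul S (h₂.trans hxy.symm)] at h2
    exact h2
  have himg : (sph Δ x (cs.simple i)).image (fun y' => mv S x y y' • z) = sph Δ x (cs.simple i) := by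
    refine Finset.eq_of_subset_of_card_le ?_ ?_
    · intro a ha
      obtain ⟨y', hy', rfl⟩ := Finset.mem_image.1 ha
      rw [mem_sph, S.δ_smul (mv_mem S x y y'), hxz]
    · rw [Finset.card_image_of_injOn hinj]
  conv_rhs => rw [← himg]
  rw [Finset.sum_image hinj]
  refine Finset.sum_congr rfl fun y' hy' => ?_
  refine val S ρ hm (mv_mem S x y y') (mv_mem S x z _) ?_
  rw [mv_smul S]
  rw [S.δ_smul (mv_mem S x y y')]

omit [Fintype C] F in
/-- an equivariant system of subspaces of the `Vx x` -/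
structure Syst (S : Sys Δ G p) (ρ : G →* Module.End k V) (N : C → Submodule k V) : Prop where
  fix : ∀ x, N x ≤ Vx S ρ x
  eqv : ∀ (g : G) x v, v ∈ N x → ρ g v ∈ N (g • x)

omit [Fintype C] F in
/-- simple systems -/
structure Smp (S : Sys Δ G p) (ρ : G →* Module.End k V) (N : C → Submodule k V) : Prop extends Syst S ρ N where
  ne : ∀ x, N x ≠ ⊥
  simple : ∀ x, ∀ L ≤ N x, (∀ g : G, g • x = x → ∀ v ∈ L, ρ g v ∈ L) → L = ⊥ ∨ L = N x

/-- stability under the Hecke operators -/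
def Stb (N : C → Submodule k V) : Prop :=
  ∀ x y i, Δ.δ x y = cs.simple i → ∀ v ∈ N y, tr S ρ x y v ∈ N x

variable [Fact p.Prime] [CharP k p] (hth : Δ.Thick)
include hth

theorem tr_self_zero {x y : C} {i : I} (hxy : Δ.δ x y = cs.simple i) {m : V} (hm : m ∈ Vx S ρ x) :
    tr S ρ x y m = 0 := by
  classical
  rw [tr_apply, Finset.sum_congr rfl fun z _ => hm _ (mv_mem S x y z), Finset.sum_const, hxy]
  have h1 : ((sph Δ x (cs.simple i)).card : ZMod p) = 0 := by
    have h2 := S.card_Pan_eq hth x i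
    have h3 : Nat.card (Δ.Pan i x) = (sph Δ x (cs.simple i)).card + 1 := by
      have h4 : Δ.Pan i x = insert x ((sph Δ x (cs.simple i) : Finset C) : Set C) := by
        ext z
        rw [Set.mem_insert_iff, Finset.mem_coe, mem_sph]
        rfl
      have h5 : x ∉ ((sph Δ x (cs.simple i) : Finset C) : Set C) := by
        rw [Finset.mem_coe, mem_sph, Δ.δ_self]
        exact fun h => Trace.simple_ne_one i h.symm
      rw [h4, Nat.card_coe_set_eq, Set.ncard_insert_of_notMem h5, Set.ncard_coe_finset]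
    rw [h3] at h2
    push_cast at h2
    exact add_eq_right.1 h2
  have h2 : (((sph Δ x (cs.simple i)).card : ℕ) : k) = 0 := by
    rw [CharP.cast_eq_zero_iff k p]
    exact (ZMod.natCast_eq_zero_iff _ _).1 h1
  rw [← Nat.cast_smul_eq_nsmul k, h2, zero_smul]

variable {S ρ} {N : C → Submodule k V}

omit [Fact p.Prime] [CharP k p] hth in
theorem Syst.map_le (h : Syst S ρ N) {y x x' : C} (hx : Δ.δ y x = Δ.δ y x') :
    (N x).map (tr S ρ y x) ≤ (N x').map (tr S ρ y x') := by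
  rintro _ ⟨v, hv, rfl⟩
  obtain ⟨b, hb, rfl⟩ := S.exists_move hx
  refine ⟨ρ b v, h.eqv b x v hv, ?_⟩
  have h1 := rho_tr S ρ b (y := y) (h.fix x hv)
  rw [S.fix y b hb] at h1
  rw [← h1]
  exact tr_mem S ρ (h.fix x hv) b hb

omit [Fact p.Prime] [CharP k p] hth in
theorem Syst.map_eq (h : Syst S ρ N) {y x x' : C} (hx : Δ.δ y x = Δ.δ y x') :
    (N x).map (tr S ρ y x) = (N x').map (tr S ρ y x') := le_antisymm (h.map_le hx) (h.map_le hx.symm)

/-- `T T N ⊆ T N` -/
theorem Syst.sq (h : Syst S ρ N) {x y : C} {i : I} (hxy : Δ.δ x y = cs.simple i) {v : V} (hv : v ∈ N x) :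
    tr S ρ x y (tr S ρ y x v) ∈ (N y).map (tr S ρ x y) := by
  have hyx := Δ.δ_symm_simple hxy
  rw [tr_apply S ρ y x, map_sum, hyx]
  refine Submodule.sum_mem _ fun z hz => ?_
  rw [mem_sph] at hz
  have hm : ρ (mv S y x z) v ∈ N z := by
    have := h.eqv (mv S y x z) x v hv
    rwa [mv_smul S (hz.trans hyx.symm)] at this
  by_cases hzx : z = x
  · subst hzx
    rw [tr_self_zero S ρ hth hxy (h.fix _ hm)]
    exact Submodule.zero_mem _
  · have hxz : Δ.δ x z = cs.simple i := Δ.δ_eq_of_mem_Pan (x := y) (Δ.mem_Pan_of_δ hyx) (Δ.mem_Pan_of_δ hz)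
      (Ne.symm hzx)
    rw [tr_panel S ρ hxy hxz (h.fix _ hm)]
    exact h.map_le (hxz.trans hxy.symm) ⟨_, hm, rfl⟩

omit [Fact p.Prime] [CharP k p] in
/-- **`N y` is in the sum over the other chambers of the panel.** -/
theorem Smp.star (h : Smp S ρ N) (hs : Stb S ρ N) (y : C) (i : I) {w : V} (hw : w ∈ N y) :
    w ∈ ⨆ z ∈ sph Δ y (cs.simple i), N z := by
  classical
  obtain ⟨x, hyx⟩ := Δ.exists_δ y (cs.simple i)
  have hxy := Δ.δ_symm_simple hyx
  have hle : ∀ z, Δ.δ y z = cs.simple i → N z ≤ ⨆ z ∈ sph Δ y (cs.simple i), N z := by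
    intro z hz
    exact le_iSup₂ (f := fun z (_ : z ∈ sph Δ y (cs.simple i)) => N z) z (mem_sph.2 hz)
  have h1 : (N y).map (tr S ρ x y) ≤ N x := by
    rintro _ ⟨v, hv, rfl⟩
    exact hs x y i hxy v hv
  rcases h.simple x _ h1 (by
    rintro g hg _ ⟨v, hv, rfl⟩
    rw [rho_tr S ρ g (h.fix y hv), hg]
    refine h.toSyst.map_le (x := g • y) (x' := y) ?_ ⟨_, h.eqv g y v hv, rfl⟩
    have := S.iso g x y
    rwa [hg] at this) with h0 | h0
  · -- the trace is zero
    have h2 : tr S ρ x y w = 0 := by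
      rw [← Submodule.mem_bot k, ← h0]
      exact ⟨w, hw, rfl⟩
    have hyS : y ∈ sph Δ x (Δ.δ x y) := mem_sph.2 rfl
    rw [tr_apply, ← Finset.add_sum_erase _ _ hyS] at h2
    have h3 : ρ (mv S x y y) w = w :=
      h.fix y hw _ (S.mem_U_of_fix (mv_mem S x y y) (mv_smul S rfl))
    rw [h3] at h2
    rw [eq_neg_of_add_eq_zero_left h2]
    refine Submodule.neg_mem _ (Submodule.sum_mem _ fun z hz => ?_)
    obtain ⟨hzy, hz⟩ := Finset.mem_erase.1 hz
    rw [mem_sph] at hz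
    have h4 := h.eqv (mv S x y z) y w hw
    rw [mv_smul S hz] at h4
    refine hle z ?_ h4
    exact Δ.δ_eq_of_mem_Pan (x := x) (Δ.mem_Pan_of_δ hxy) (Δ.mem_Pan_of_δ (hz.trans hxy)) (Ne.symm hzy)
  · -- the trace is onto
    obtain ⟨g, hgx⟩ := ML.LieRow.exists_smul_top S hth x y
    obtain ⟨u, hu, huy⟩ := S.exists_move (x := y) (z := g • y) (z' := x) (by
      have h2 : Δ.δ (g • x) (g • y) = Δ.δ x y := S.iso g x y
      rw [hgx] at h2
      rw [h2, hxy, hyx])
    have e1 : (u * g) • x = y := by rw [mul_smul, hgx, S.fix y u hu]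
    have e2 : (u * g) • y = x := by rw [mul_smul, huy]
    have h2 : ρ (u * g)⁻¹ w ∈ N x := by
      have := h.eqv (u * g)⁻¹ y w hw
      rwa [inv_smul_eq_iff.2 e1.symm] at this
    rw [← h0] at h2
    obtain ⟨v, hv, hv'⟩ := h2
    have h3 : w = tr S ρ y x (ρ (u * g) v) := by
      have h4 := rho_tr S ρ (u * g) (y := x) (h.fix y hv)
      rw [hv', rho_rho_inv, e1, e2] at h4
      exact h4
    have hv2 : ρ (u * g) v ∈ N x := by
      have := h.eqv (u * g) y v hv
      rwa [e2] at this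
    rw [h3, tr_apply]
    refine Submodule.sum_mem _ fun z hz => ?_
    rw [mem_sph] at hz
    have h4 := h.eqv (mv S y x z) x _ hv2
    rw [mv_smul S hz] at h4
    exact hle z (hz.trans hyx) h4

omit [Fact p.Prime] [CharP k p] in
/-- **`N z` is in the sum over the chambers opposite to `d`.** -/
theorem Smp.le_opp (h : Smp S ρ N) (hs : Stb S ρ N) (d z : C) :
    N z ≤ ⨆ x : {x // Δ.Opp d x}, N x.1 := by
  have key : ∀ n : ℕ, ∀ z, ℓ (w0 cs) - ℓ (Δ.δ d z) = n → N z ≤ ⨆ x : {x // Δ.Opp d x}, N x.1 := by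
    intro n
    induction n using Nat.strong_induction_on with
    | _ n ih =>
      intro z hn
      by_cases h1 : Δ.δ d z = w0 cs
      · exact le_iSup (fun x : {x // Δ.Opp d x} => N x.1) ⟨z, h1⟩
      · obtain ⟨i, hi⟩ : ∃ i, ℓ (Δ.δ d z) < ℓ (Δ.δ d z * cs.simple i) := by
          by_contra hcon
          push Not at hcon
          apply h1
          exact eq_w0_of_forall hcon
        intro w hw
        have h2 := h.star hth hs z i hw
        refine (?_ : (⨆ z' ∈ sph Δ z (cs.simple i), N z') ≤ _) h2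
        refine iSup₂_le fun z' hz' => ?_
        rw [mem_sph] at hz'
        have h3 := Δ.step_lt d z z' i hz' hi
        refine ih _ ?_ z' rfl
        have h4 : ℓ (Δ.δ d z * cs.simple i) ≤ ℓ (w0 cs) := length_le_w0 _
        rw [h3]
        omega
  exact key _ z rfl

end fin

end Cfsg.Agent.Omega.CR.Bl
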