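import Cfsg.Agent.Omega.CR.BlMain
import Cfsg.Agent.Omega.ML.LieRow.Lie

/-!
# The theorem of Curtis and Richen for all split (B,N)-pairs of characteristic two, group form (helper818)

* `cr_split` : `K` with a split (B,N)-pair of characteristic two (`²F₄(q)` and `Sz(q)` included), `S` a Sylow
  2-subgroup, `M` an irreducible `F₂K`-module: `C_M(S)` is an irreducible module for `N_K(S)`;
* **`cr_lie`** : the same for `K ⊴ H`, `K` simple of Lie type in characteristic two, `T` a Sylow 2-subgroup of `H`.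
-/

set_option autoImplicit false
set_option linter.unusedSectionVars false

namespace Cfsg.Agent.Omega.CR.Bl

open Subgroup Cfsg
open Cfsg.Agent.Tits.Core Cfsg.Agent.Tits.OfBN Cfsg.Agent.Schreier.BNSch Cfsg.Agent.FixBN

universe u v

section rep

variable {K : Type u} [Group K] {M : Type v} [CommGroup M] [MulDistribMulAction K M] [Module (ZMod 2) (Additive M)]

/-- the representation over `F₂` -/
def repM (K : Type u) [Group K] (M : Type v) [CommGroup M] [MulDistribMulAction K M] [Module (ZMod 2) (Additive M)] :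
    K →* Module.End (ZMod 2) (Additive M) where
  toFun g := (MonoidHom.toAdditive (MulDistribMulAction.toMonoidHom M g)).toZModLinearMap 2
  map_one' := by
    refine LinearMap.ext fun v => ?_
    change Additive.ofMul ((1 : K) • v.toMul) = v
    rw [one_smul]
    rfl
  map_mul' a b := by
    refine LinearMap.ext fun v => ?_
    change Additive.ofMul ((a * b) • v.toMul) = Additive.ofMul (a • b • v.toMul)
    rw [mul_smul]

theorem repM_apply (g : K) (v : Additive M) : repM K M g v = Additive.ofMul (g • v.toMul) := rfl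

/-- the subspace of a subgroup -/
def subM (W : Subgroup M) : Submodule (ZMod 2) (Additive M) := AddSubgroup.toZModSubmodule 2 (Subgroup.toAddSubgroup W)

theorem mem_subM {W : Subgroup M} {v : Additive M} : v ∈ subM W ↔ v.toMul ∈ W := Iff.rfl

/-- the subgroup of a subspace -/
def grpM (L : Submodule (ZMod 2) (Additive M)) : Subgroup M := AddSubgroup.toSubgroup' L.toAddSubgroup

theorem mem_grpM {L : Submodule (ZMod 2) (Additive M)} {m : M} : m ∈ grpM L ↔ Additive.ofMul m ∈ L := Iff.rfl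

end rep

/-- **Curtis–Richen for split (B,N)-pairs of characteristic two.** -/
theorem cr_split {K : Type u} [Group K] [Finite K] (h : HasSplit 2 K) {S : Subgroup K} (hS : IsPGroup 2 S)
    (hSi : ¬ 2 ∣ S.index) {M : Type v} [Group M] [Finite M] [MulDistribMulAction K M] (sq : ∀ m : M, m * m = 1)
    (irr : ∀ W : Subgroup M, (∀ k : K, ∀ w ∈ W, k • w ∈ W) → W = ⊥ ∨ W = ⊤) {W : Subgroup M}
    (hW : ∀ w ∈ W, ∀ s ∈ S, s • w = w) (hN : ∀ n ∈ normalizer (S : Set K), ∀ w ∈ W, n • w ∈ W) (hne : W ≠ ⊥) :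
    ∀ m : M, (∀ s ∈ S, s • m = m) → m ∈ W := by
  classical
  have : Fact (Nat.Prime 2) := ⟨Nat.prime_two⟩
  obtain ⟨P, U, hPne, h⟩ := h
  have hN' : ((P.B ⊓ P.N).subgroupOf P.N).Normal := normal_subgroupOf P
  obtain ⟨M', cs, hcs⟩ := S0320.result P
  have hI : Finite P.S := OfBN.finite_I (Equiv.refl P.S)
  have hIn : Nonempty P.S := hPne.to_subtype
  have Sy := OfBN.sys (Equiv.refl P.S) cs hcs h
  have hth := thick P (Equiv.refl P.S) cs hcs
  -- the chamber
  obtain ⟨c, hc⟩ := Sy.exists_fix _ hS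
  have h1 : S ≤ Sy.U c := Sy.max c _ hS hc
  have hUc : Sy.U c = S := (hS.toSylow hSi : Sylow 2 K).is_maximal' (Sy.isP c) h1
  -- the module
  have hinv : ∀ z : M, z⁻¹ = z := fun z => inv_eq_of_mul_eq_one_right (sq z)
  have hcomm : ∀ x y : M, x * y = y * x := fun x y => by
    calc x * y = (x * y)⁻¹ := (hinv _).symm
      _ = y⁻¹ * x⁻¹ := mul_inv_rev _ _
      _ = y * x := by rw [hinv, hinv]
  let _ : CommGroup M := { (inferInstance : Group M) with mul_comm := hcomm }
  let _ : Module (ZMod 2) (Additive M) := AddCommGroup.zmodModule (n := 2) (fun v => by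
    change Additive.ofMul (v.toMul ^ 2) = 0
    rw [pow_two, sq]; rfl)
  have _ : Finite (Additive M) := inferInstanceAs (Finite M)
  have _ : FiniteDimensional (ZMod 2) (Additive M) := Module.Finite.of_finite
  have _ : Finite (K ⧸ P.B) := inferInstance
  let _ : Fintype (K ⧸ P.B) := Fintype.ofFinite _
  have key := simple_Vx (S := Sy) (ρ := repM K M) (k := ZMod 2) hth (by
    intro L hL
    rcases irr (grpM L) (fun k w hw => by
      rw [mem_grpM] at hw ⊢
      exact hL k trivial _ hw) with h2 | h2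
    · left
      rw [eq_bot_iff]
      intro v hv
      have h3 : v.toMul ∈ grpM L := hv
      rw [h2, mem_bot] at h3
      rw [Submodule.mem_bot]
      exact h3
    · right
      rw [eq_top_iff]
      intro v _
      have h3 : v.toMul ∈ grpM L := by rw [h2]; trivial
      exact h3) c (L := subM W) (by
    intro v hv u hu
    rw [hUc] at hu
    rw [repM_apply]
    exact congrArg Additive.ofMul (hW v.toMul hv u hu)) (by
    intro g hg v hv
    rw [repM_apply]
    refine hN g ?_ _ hv
    rw [← hUc, mem_normalizer_iff]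
    intro x
    have h2 : g * x * g⁻¹ ∈ Sy.U (g • c) ↔ x ∈ Sy.U c := Sy.conj_mem_U_iff
    rw [hg] at h2
    exact h2.symm)
  rcases key with h2 | h2
  · exfalso
    apply hne
    rw [eq_bot_iff]
    intro w hw
    have h3 : (Additive.ofMul w) ∈ subM W := hw
    rw [h2, Submodule.mem_bot] at h3
    rw [mem_bot]
    exact h3
  · intro m hm
    have h3 : (Additive.ofMul m) ∈ Vx Sy (repM K M) c := by
      intro u hu
      rw [hUc] at hu
      rw [repM_apply]
      exact congrArg Additive.ofMul (hm u hu)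
    rw [← h2] at h3
    exact h3

/-- **Curtis–Richen for a normal simple subgroup of Lie type in characteristic two.** -/
theorem cr_lie {H : Type u} [Group H] [Finite H] {M : Type v} [Group M] [Finite M] [MulDistribMulAction H M]
    {K T : Subgroup H} (hK : K.Normal) (hs : IsSimpleGroup K) (hl : IsLieTypeChar 2 K) (hT : IsPGroup 2 T)
    (hTi : ¬ 2 ∣ T.index) (sq : ∀ m : M, m * m = 1)
    (irr : ∀ W : Subgroup M, (∀ k ∈ K, ∀ w ∈ W, k • w ∈ W) → W = ⊥ ∨ W = ⊤) {W : Subgroup M}
    (hW : ∀ w ∈ W, ∀ s ∈ T ⊓ K, s • w = w)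
    (hN : ∀ n ∈ normalizer ((T ⊓ K : Subgroup H) : Set H), n ∈ K → ∀ w ∈ W, n • w ∈ W) (hne : W ≠ ⊥) :
    ∀ m : M, (∀ s ∈ T ⊓ K, s • m = m) → m ∈ W := by
  have : Fact (Nat.Prime 2) := ⟨Nat.prime_two⟩
  have hV : IsPGroup 2 (T.subgroupOf K) := hT.comap_of_injective _ K.subtype_injective
  have h2 : ¬ 2 ∣ (T.subgroupOf K).index := Lib.SylowNormalInf.not_dvd_relIndex (hT.toSylow hTi) K
  intro m hm
  refine cr_split (ML.LieRow.hasSplit_of_lie hl) hV h2 sq (fun W hW => irr W fun k hk w hw => hW ⟨k, hk⟩ w hw)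
    (W := W) ?_ ?_ hne m ?_
  · rintro w hw ⟨s, hs'⟩ hsT
    exact hW w hw s ⟨hsT, hs'⟩
  · rintro ⟨n, hn⟩ hnN w hw
    refine hN n ?_ hn w hw
    rw [mem_normalizer_iff] at hnN ⊢
    intro x
    constructor
    · rintro ⟨hx, hxK⟩
      exact ⟨(hnN ⟨x, hxK⟩).1 hx, hK.conj_mem x hxK n⟩
    · rintro ⟨hx, hxK⟩
      have hxK' : x ∈ K := by
        have := hK.conj_mem _ hxK n⁻¹
        have e : n⁻¹ * (n * x * n⁻¹) * n⁻¹⁻¹ = x := by group
        rwa [e] at this
      exact ⟨(hnN ⟨x, hxK'⟩).2 hx, hxK'⟩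
  · rintro ⟨s, hs'⟩ hsT
    exact hm s ⟨hsT, hs'⟩

end Cfsg.Agent.Omega.CR.Bl
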