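import Cfsg.Agent.Omega.CR.Bl

/-!
# The theorem of Curtis and Richen for all split (B,N)-pairs, part 2 (helper818)

* `exists_stb` : inside a system stable under the Hecke operators there is a simple stable one;
* `eq_Vx` : `V` simple: a simple stable system is `Vx`; the pairing with the fixed functionals of an opposite chamber;
* **`simple_Vx`** : `V` simple: `Vx c` is a simple module for the stabiliser of `c`.
-/

set_option autoImplicit false
set_option linter.unusedSectionVars false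

namespace Cfsg.Agent.Omega.CR.Bl

open Cfsg.Agent.Tits.Core Cfsg.Agent.Tits.Core.Bldg Cfsg.Agent.Tits.Exchange Cfsg.Agent.Tits
open Cfsg.Agent.FixBN Cfsg.Agent.FixBN.Cox

variable {I : Type*} {M : CoxeterMatrix I} {W : Type*} [Group W] {cs : CoxeterSystem M W} {C : Type*}
  {Δ : Bldg cs C}

local prefix:100 "ℓ" => cs.length

variable {G : Type*} [Group G] [MulAction G C] {p : ℕ} (S : Sys Δ G p) [F : OppRes.Cox cs]
  {k V : Type*} [Field k] [AddCommGroup V] [Module k V] (ρ : G →* Module.End k V) [Fintype C]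

/-- the trace from a chamber to itself -/
theorem tr_self {x : C} {v : V} (hv : v ∈ Vx S ρ x) : tr S ρ x x v = v := by
  rw [tr_apply, Δ.δ_self]
  have h1 : sph Δ x (1 : W) = {x} := by
    ext z
    rw [mem_sph, Finset.mem_singleton, Δ.eq_one]
    exact eq_comm
  rw [h1, Finset.sum_singleton]
  exact hv _ (mv_mem S x x x)

/-- the Hecke operator of `w` on systems -/
noncomputable def Tw (w : W) (N : C → Submodule k V) (y : C) : Submodule k V :=
  ⨆ x : {x // Δ.δ y x = w}, (N x.1).map (tr S ρ y x.1)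

variable {S ρ} {N : C → Submodule k V}

theorem Tw_eq (h : Syst S ρ N) {w : W} {y x : C} (hx : Δ.δ y x = w) : Tw S ρ w N y = (N x).map (tr S ρ y x) := by
  unfold Tw
  refine le_antisymm (iSup_le fun x' => h.map_le (x'.2.trans hx.symm)) ?_
  exact le_iSup (fun x : {x // Δ.δ y x = w} => (N x.1).map (tr S ρ y x.1)) ⟨x, hx⟩

theorem Syst.tw (h : Syst S ρ N) (w : W) : Syst S ρ (Tw S ρ w N) where
  fix y := by
    obtain ⟨x, hx⟩ := Δ.exists_δ y w
    rw [Tw_eq h hx]
    rintro _ ⟨v, hv, rfl⟩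
    exact tr_mem S ρ (h.fix x hv)
  eqv g y v hv := by
    obtain ⟨x, hx⟩ := Δ.exists_δ y w
    rw [Tw_eq h hx] at hv
    obtain ⟨v, hv, rfl⟩ := hv
    rw [Tw_eq h (x := g • x) (by rw [S.iso, hx]), rho_tr S ρ g (h.fix x hv)]
    exact ⟨_, h.eqv g x v hv, rfl⟩

/-- nonzero at one chamber, nonzero everywhere -/
theorem Syst.ne_bot (hth : Δ.Thick) (h : Syst S ρ N) {c : C} (hc : N c ≠ ⊥) (x : C) : N x ≠ ⊥ := by
  intro h0
  apply hc
  obtain ⟨g, rfl⟩ := ML.LieRow.exists_smul_top S hth x c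
  rw [eq_bot_iff]
  intro v hv
  have h1 := h.eqv g⁻¹ _ v hv
  rw [inv_smul_smul, h0, Submodule.mem_bot] at h1
  rw [Submodule.mem_bot, ← rho_rho_inv ρ g v, h1, map_zero]

theorem Smp.tw (hth : Δ.Thick) (h : Smp S ρ N) {w : W} {c : C} (hc : Tw S ρ w N c ≠ ⊥) :
    Smp S ρ (Tw S ρ w N) where
  toSyst := h.toSyst.tw w
  ne := (h.toSyst.tw w).ne_bot hth hc
  simple := by
    intro y L hL hLi
    obtain ⟨x, hx⟩ := Δ.exists_δ y w
    rw [Tw_eq h.toSyst hx] at hL ⊢
    have h1 := h.simple x (N x ⊓ L.comap (tr S ρ y x)) inf_le_left (by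
      rintro g hg v ⟨hv, hv'⟩
      have hgv := h.eqv g x v hv
      rw [hg] at hgv
      refine ⟨hgv, ?_⟩
      obtain ⟨b, hb, hby⟩ := S.exists_move (x := x) (z := y) (z' := g • y) (by
        have := S.iso g x y
        rw [hg] at this
        exact this.symm)
      have hbx : b • x = x := S.fix x b hb
      have e1 : (b⁻¹ * g) • x = x := by rw [mul_smul, hg, inv_smul_eq_iff, hbx]
      have e2 : (b⁻¹ * g) • y = y := by rw [mul_smul, ← hby, inv_smul_smul]
      have e3 : ρ g v = ρ (b⁻¹ * g) v := by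
        have h2 : ρ (b⁻¹ * g) v ∈ Vx S ρ x := by
          have := h.eqv (b⁻¹ * g) x v hv
          rw [e1] at this
          exact h.fix x this
        have h3 := h2 b hb
        rw [← rho_mul, mul_inv_cancel_left] at h3
        exact h3
      change tr S ρ y x (ρ g v) ∈ L
      rw [e3]
      have h4 := rho_tr S ρ (b⁻¹ * g) (y := y) (h.fix x hv)
      rw [e1, e2] at h4
      rw [← h4]
      exact hLi _ e2 _ hv')
    rcases h1 with h1 | h1
    · left
      rw [eq_bot_iff]
      intro l hl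
      obtain ⟨v, hv, rfl⟩ := hL hl
      have h2 : v ∈ N x ⊓ L.comap (tr S ρ y x) := ⟨hv, hl⟩
      rw [h1, Submodule.mem_bot] at h2
      rw [h2, map_zero]
      exact Submodule.zero_mem _
    · right
      refine le_antisymm hL ?_
      rintro _ ⟨v, hv, rfl⟩
      rw [← h1] at hv
      exact hv.2

/-- stability under all Hecke operators -/
theorem Stb.all (h : Syst S ρ N) (hs : Stb S ρ N) : ∀ n : ℕ, ∀ x y : C, ℓ (Δ.δ y x) = n → ∀ v ∈ N x,
    tr S ρ y x v ∈ N y := by
  intro n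
  induction n using Nat.strong_induction_on with
  | _ n ih =>
    intro x y hn v hv
    by_cases h1 : Δ.δ y x = 1
    · have h2 := Δ.eq_of_δ_eq_one h1
      subst h2
      rw [tr_self S ρ (h.fix _ hv)]
      exact hv
    · obtain ⟨i, hi⟩ := cs.exists_leftDescent_of_ne_one h1
      have hi' : ℓ (cs.simple i * Δ.δ y x) < ℓ (Δ.δ y x) := hi
      obtain ⟨z, hyz, hzx⟩ := exists_first Δ hi'
      have hl : ℓ (Δ.δ y z * Δ.δ z x) = ℓ (Δ.δ y z) + ℓ (Δ.δ z x) := by
        rw [hyz, hzx, cs.simple_mul_simple_cancel_left, cs.length_simple]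
        have := cs.length_simple_mul (Δ.δ y x) i
        omega
      rw [tr_comp S ρ hl (h.fix x hv)]
      exact hs y z i hyz _ (ih _ (by rw [← hn, hzx]; exact hi') x z rfl v hv)

/-- a simple system in a given one -/
theorem exists_smp [FiniteDimensional k V] (hth : Δ.Thick) {Y : C → Submodule k V} (hY : Syst S ρ Y) {c : C}
    (hc : Y c ≠ ⊥) : ∃ N, Smp S ρ N ∧ ∀ x, N x ≤ Y x := by
  classical
  obtain ⟨L, ⟨hLY, hL0, hL⟩, hmin⟩ := (wellFounded_lt (α := Submodule k V)).has_min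
    {L : Submodule k V | L ≤ Y c ∧ L ≠ ⊥ ∧ ∀ g : G, g • c = c → ∀ v ∈ L, ρ g v ∈ L}
    ⟨Y c, le_rfl, hc, fun g hg v hv => by
      have := hY.eqv g c v hv
      rwa [hg] at this⟩
  choose t ht using fun x => ML.LieRow.exists_smul_top S hth c x
  have key : ∀ (g : G) x, g • c = x → L.map (ρ g) = L.map (ρ (t x)) := by
    intro g x hg
    have h1 : ∀ a b : G, a • c = b • c → L.map (ρ a) ≤ L.map (ρ b) := by
      rintro a b hab _ ⟨v, hv, rfl⟩
      refine ⟨ρ (b⁻¹ * a) v, hL _ (by rw [mul_smul, hab, inv_smul_smul]) v hv, ?_⟩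
      rw [← rho_mul, mul_inv_cancel_left]
    exact le_antisymm (h1 _ _ (by rw [hg, ht])) (h1 _ _ (by rw [hg, ht]))
  have hS : Syst S ρ (fun x => L.map (ρ (t x))) := by
    refine ⟨?_, ?_⟩
    · rintro x _ ⟨v, hv, rfl⟩
      have := rho_mem_Vx S ρ (t x) (hY.fix c (hLY hv))
      rwa [ht] at this
    · rintro g x _ ⟨v, hv, rfl⟩
      rw [← key (g * t x) (g • x) (by rw [mul_smul, ht]), ← rho_mul]
      exact ⟨v, hv, rfl⟩
  refine ⟨fun x => L.map (ρ (t x)), ⟨hS, ?_, ?_⟩, ?_⟩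
  · intro x h0
    apply hL0
    rw [eq_bot_iff]
    intro v hv
    have h1 : ρ (t x) v ∈ L.map (ρ (t x)) := ⟨v, hv, rfl⟩
    rw [h0, Submodule.mem_bot] at h1
    rw [Submodule.mem_bot, ← rho_inv_rho ρ (t x) v, h1, map_zero]
  · intro x L' hL' hLi
    have h1 : L'.comap (ρ (t x)) ≤ L := by
      intro v hv
      obtain ⟨w, hw, e⟩ := hL' (hv : ρ (t x) v ∈ L')
      have : v = w := by rw [← rho_inv_rho ρ (t x) v, ← e, rho_inv_rho]
      rw [this]; exact hw
    by_cases h2 : L'.comap (ρ (t x)) = ⊥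
    · left
      rw [eq_bot_iff]
      intro v hv
      have h3 : ρ (t x)⁻¹ v ∈ L'.comap (ρ (t x)) := by
        change ρ (t x) (ρ (t x)⁻¹ v) ∈ L'
        rwa [rho_rho_inv]
      rw [h2, Submodule.mem_bot] at h3
      rw [Submodule.mem_bot, ← rho_rho_inv ρ (t x) v, h3, map_zero]
    · right
      have h3 : L'.comap (ρ (t x)) = L := by
        by_contra hne
        refine hmin _ ⟨h1.trans hLY, h2, ?_⟩ (lt_of_le_of_ne h1 hne)
        intro g hg v hv
        change ρ (t x) (ρ g v) ∈ L'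
        have e : t x * g = t x * g * (t x)⁻¹ * t x := by group
        rw [← rho_mul, e, rho_mul]
        refine hLi _ ?_ _ hv
        rw [mul_smul, mul_smul, inv_smul_eq_iff.2 (ht x).symm, hg, ht]
      refine le_antisymm hL' ?_
      rintro _ ⟨v, hv, rfl⟩
      rw [← h3] at hv
      exact hv
  · rintro x _ ⟨v, hv, rfl⟩
    have := hY.eqv (t x) c v (hLY hv)
    rwa [ht] at this

variable [Fact p.Prime] [CharP k p] (hth : Δ.Thick)
include hth

/-- **There is a simple stable system in every nonzero stable system.** -/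
theorem exists_stb [FiniteDimensional k V] {Y : C → Submodule k V} (hY : Syst S ρ Y) (hYs : Stb S ρ Y) {c : C}
    (hc : Y c ≠ ⊥) : ∃ N, Smp S ρ N ∧ Stb S ρ N ∧ ∀ x, N x ≤ Y x := by
  classical
  obtain ⟨N₀, hN₀, hle⟩ := exists_smp hth hY hc
  have hW : Finite W := Finite.of_surjective (Δ.δ c) (Δ.exists_δ c)
  obtain ⟨w, hw, hmax⟩ := Set.exists_max_image {w : W | Tw S ρ w N₀ c ≠ ⊥} (fun w => ℓ w) (Set.toFinite _) (by
    refine ⟨1, ?_⟩
    change Tw S ρ 1 N₀ c ≠ ⊥
    rw [Tw_eq hN₀.toSyst (Δ.δ_self c)]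
    intro h0
    apply hN₀.ne c
    rw [eq_bot_iff, ← h0]
    intro v hv
    exact ⟨v, hv, tr_self S ρ (hN₀.fix c hv)⟩)
  have hN := hN₀.tw hth hw
  refine ⟨Tw S ρ w N₀, hN, ?_, ?_⟩
  · intro x y i hxy v hv
    have hyx := Δ.δ_symm_simple hxy
    rcases lt_or_gt_of_ne (cs.length_simple_mul_ne w i) with hlt | hgt
    · -- descent
      have hww : cs.simple i * (cs.simple i * w) = w := cs.simple_mul_simple_cancel_left i
      have hl1 : ℓ (cs.simple i * (cs.simple i * w)) = ℓ (cs.simple i) + ℓ (cs.simple i * w) := by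
        rw [hww, cs.length_simple]
        have := cs.length_simple_mul w i
        omega
      -- `N y = tr y x (N' x)`
      obtain ⟨z, hz⟩ := Δ.exists_δ x (cs.simple i * w)
      have hyz : Δ.δ y z = w := by
        have := Δ.δ_mul_of hyx hz hl1
        rwa [hww] at this
      rw [Tw_eq hN₀.toSyst hyz] at hv
      obtain ⟨v, hv, rfl⟩ := hv
      rw [tr_comp S ρ (z := x) (by rw [hyx, hz]; exact hl1) (hN₀.fix z hv)]
      have h1 : tr S ρ x z v ∈ Tw S ρ (cs.simple i * w) N₀ x := by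
        rw [Tw_eq hN₀.toSyst hz]
        exact ⟨v, hv, rfl⟩
      obtain ⟨v', hv', e⟩ := (hN₀.toSyst.tw (cs.simple i * w)).sq hth hxy h1
      rw [← e]
      obtain ⟨z', hz'⟩ := Δ.exists_δ y (cs.simple i * w)
      rw [SetLike.mem_coe, Tw_eq hN₀.toSyst hz'] at hv'
      obtain ⟨v'', hv'', rfl⟩ := hv'
      rw [← tr_comp S ρ (z := y) (by rw [hxy, hz']; exact hl1) (hN₀.fix z' hv'')]
      rw [Tw_eq hN₀.toSyst (x := z') (by
        have := Δ.δ_mul_of hxy hz' hl1
        rwa [hww] at this)]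
      exact ⟨v'', hv'', rfl⟩
    · -- ascent
      have hl1 : ℓ (cs.simple i * w) = ℓ (cs.simple i) + ℓ w := by
        rw [cs.length_simple]
        have := cs.length_simple_mul w i
        omega
      have h0 : Tw S ρ (cs.simple i * w) N₀ x = ⊥ := by
        by_contra hne
        have h1 : Tw S ρ (cs.simple i * w) N₀ c ≠ ⊥ := (hN₀.toSyst.tw _).ne_bot hth hne c
        exact absurd (hmax _ h1) (not_le.2 hgt)
      obtain ⟨z, hz⟩ := Δ.exists_δ y w
      rw [Tw_eq hN₀.toSyst hz] at hv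
      obtain ⟨v, hv, rfl⟩ := hv
      rw [← tr_comp S ρ (z := y) (by rw [hxy, hz]; exact hl1) (hN₀.fix z hv)]
      have h2 : tr S ρ x z v ∈ Tw S ρ (cs.simple i * w) N₀ x := by
        rw [Tw_eq hN₀.toSyst (x := z) (Δ.δ_mul_of hxy hz hl1)]
        exact ⟨v, hv, rfl⟩
      rw [h0, Submodule.mem_bot] at h2
      rw [h2]
      exact Submodule.zero_mem _
  · intro x
    obtain ⟨z, hz⟩ := Δ.exists_δ x w
    rw [Tw_eq hN₀.toSyst hz]
    rintro _ ⟨v, hv, rfl⟩
    exact hYs.all hY _ z x rfl v (hle z hv)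

omit [Fact p.Prime] [CharP k p] in
/-- the sum of `N x` over the opposite chambers -/
theorem Smp.iSup_opp (h : Smp S ρ N) (hs : Stb S ρ N) (hirr : ∀ L : Submodule k V, Ivt ρ ⊤ L → L = ⊥ ∨ L = ⊤)
    (d : C) : (⨆ x : {x // Δ.Opp d x}, N x.1) = ⊤ := by
  have h1 : (⨆ x, N x) = ⊤ := by
    refine (hirr _ ?_).resolve_left ?_
    · intro g _ v hv
      have h2 : (⨆ x, N x) ≤ (⨆ x, N x).comap (ρ g) := by
        refine iSup_le fun x => ?_
        intro w hw
        exact le_iSup N (g • x) (h.eqv g x w hw)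
      exact h2 hv
    · intro h0
      apply h.ne d
      rw [eq_bot_iff, ← h0]
      exact le_iSup N d
  rw [eq_top_iff, ← h1]
  exact iSup_le fun z => h.le_opp hth hs d z

omit [Fact p.Prime] [CharP k p] hth [Fintype C] in
theorem syst_Vx : Syst S ρ (fun x => Vx S ρ x) := ⟨fun _ => le_rfl, fun g _ _ hv => rho_mem_Vx S ρ g hv⟩

omit [Fact p.Prime] [CharP k p] hth in
theorem stb_Vx : Stb S ρ (fun x => Vx S ρ x) := fun _ _ _ _ _ hv => tr_mem S ρ hv

variable [Finite G] [FiniteDimensional k V] (hirr : ∀ L : Submodule k V, Ivt ρ ⊤ L → L = ⊥ ∨ L = ⊤)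
include hirr

/-- a simple stable system is `Vx`; the pairing -/
theorem Smp.eq_Vx (h : Smp S ρ N) (hs : Stb S ρ N) {c d : C} (hcd : Δ.Opp c d) : N c = Vx S ρ c ∧
    ∀ v ∈ Vx S ρ c, v ≠ 0 → ∃ φ ∈ Vx S (dualRep ρ) d, φ v ≠ 0 := by
  have hdc : Δ.Opp d c := by
    change Δ.δ d c = w0 cs
    rw [Δ.symm c d, show Δ.δ c d = w0 cs from hcd, F.w0_inv]
  have hnt : Nontrivial V := by
    obtain ⟨v, -, hv⟩ := (Submodule.ne_bot_iff _).1 (h.ne c)
    exact nontrivial_of_ne v 0 hv
  have hntd : Nontrivial (Module.Dual k V) := inferInstance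
  have hdirr := dual_irr ρ hirr
  -- a simple stable system in the dual
  have h0 : Vx S (dualRep ρ) d ≠ ⊥ := by
    obtain ⟨φ, -, hφ0, hφ⟩ := exists_fixed (dualRep ρ) (S.isP d) (⊤ : Submodule k (Module.Dual k V))
      (fun _ _ _ _ => trivial) top_ne_bot
    intro h1
    have h2 : φ ∈ Vx S (dualRep ρ) d := hφ
    rw [h1, Submodule.mem_bot] at h2
    exact hφ0 h2
  obtain ⟨N', hN', hs', hle'⟩ := exists_stb (S := S) (ρ := dualRep ρ) hth syst_Vx stb_Vx h0
  have h1 := h.iSup_opp hth hs hirr d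
  have h2 := hN'.iSup_opp hth hs' hdirr c
  -- the pairings
  have hk1 : ∀ φ ∈ Vx S (dualRep ρ) d, (∀ v ∈ N c, φ v = 0) → φ = 0 := by
    intro φ hφ hz
    have h3 : (⨆ x : {x // Δ.Opp d x}, N x.1) ≤ LinearMap.ker φ := by
      refine iSup_le fun x => ?_
      intro v hv
      obtain ⟨u, hu, hux⟩ := S.exists_move (x := d) (z := c) (z' := x.1) (hdc.trans x.2.symm)
      have h4 := h.eqv u⁻¹ x.1 v hv
      rw [← hux, inv_smul_smul] at h4
      have h5 := (mem_fx_dual ρ).1 hφ u hu (ρ u⁻¹ v)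
      rw [rho_rho_inv, hz _ h4] at h5
      exact h5
    rw [h1] at h3
    ext v
    exact h3 (Submodule.mem_top (x := v))
  have hk2 : ∀ v ∈ Vx S ρ c, (∀ φ ∈ N' d, φ v = 0) → v = 0 := by
    intro v hv hz
    have h3 : (⨆ x : {x // Δ.Opp c x}, N' x.1) ≤ LinearMap.ker (Module.Dual.eval k V v) := by
      refine iSup_le fun x => ?_
      intro φ hφ
      obtain ⟨u, hu, hux⟩ := S.exists_move (x := c) (z := d) (z' := x.1) (hcd.trans x.2.symm)
      have h4 := hN'.eqv u⁻¹ x.1 φ hφ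
      rw [← hux, inv_smul_smul] at h4
      have h5 := hz _ h4
      rw [dualRep_apply, inv_inv, hv u hu] at h5
      exact h5
    rw [h2] at h3
    exact (Module.forall_dual_apply_eq_zero_iff k v).1 fun φ => h3 (Submodule.mem_top (x := φ))
  let Φ : Vx S (dualRep ρ) d →ₗ[k] Module.Dual k (N c) :=
    { toFun := fun φ => φ.1.comp (N c).subtype
      map_add' := fun _ _ => rfl
      map_smul' := fun _ _ => rfl }
  have hΦ : Function.Injective Φ := by
    rw [injective_iff_map_eq_zero]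
    intro φ hφ
    apply Subtype.ext
    refine hk1 φ.1 φ.2 fun v hv => ?_
    exact congrArg (fun ψ : Module.Dual k (N c) => ψ ⟨v, hv⟩) hφ
  let Ψ : Vx S ρ c →ₗ[k] Module.Dual k (N' d) :=
    { toFun := fun v =>
        { toFun := fun φ => φ.1 v.1
          map_add' := fun _ _ => rfl
          map_smul' := fun _ _ => rfl }
      map_add' := fun v w => by
        ext φ
        exact map_add φ.1 v.1 w.1
      map_smul' := fun c v => by
        ext φ
        exact map_smul φ.1 c v.1 }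
  have hΨ : Function.Injective Ψ := by
    rw [injective_iff_map_eq_zero]
    intro v hv
    apply Subtype.ext
    refine hk2 v.1 v.2 fun φ hφ => ?_
    exact congrArg (fun ψ : Module.Dual k (N' d) => ψ ⟨φ, hφ⟩) hv
  have e1 := LinearMap.finrank_le_finrank_of_injective hΦ
  have e2 := LinearMap.finrank_le_finrank_of_injective hΨ
  have e1 := e1.trans (Subspace.dual_finrank_eq (K := k) (V := N c)).le
  have e2 := e2.trans (Subspace.dual_finrank_eq (K := k) (V := N' d)).le
  have e3 := Submodule.finrank_mono (hle' d)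
  refine ⟨Submodule.eq_of_le_of_finrank_le (h.fix c) (e2.trans (e3.trans e1)), ?_⟩
  intro v hv hv0
  by_contra hcon
  push Not at hcon
  exact hv0 (hk2 v hv fun φ hφ => hcon φ (hle' d hφ))

/-- **Curtis–Richen: `Vx c` is a simple module for the stabiliser of `c`.** -/
theorem simple_Vx (c : C) {L : Submodule k V} (hL : L ≤ Vx S ρ c) (hLi : ∀ g : G, g • c = c → ∀ v ∈ L, ρ g v ∈ L) :
    L = ⊥ ∨ L = Vx S ρ c := by
  by_cases h0 : Vx S ρ c = ⊥
  · left
    rw [eq_bot_iff, ← h0]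
    exact hL
  obtain ⟨N, hN, hs, -⟩ := exists_stb (S := S) (ρ := ρ) hth syst_Vx stb_Vx h0
  obtain ⟨d, hcd⟩ := Δ.exists_δ c (w0 cs)
  obtain ⟨h1, -⟩ := hN.eq_Vx hth hirr hs (c := c) (d := d) hcd
  rw [← h1] at hL ⊢
  exact hN.simple c L hL hLi

end Cfsg.Agent.Omega.CR.Bl
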