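import Cfsg.Agent.Omega.CR.Ab
import Cfsg.Agent.Omega.Lie.End.MovF

/-!
# Diagonal automorphisms acting as scalars centralise the torus

* `abelian` : the torus is abelian if it is so modulo the centre (nodes with transitive rank one tori);
* `lin` : an automorphism `γ` with `γ + 1 = δ` on `X_i` is linear;
* `com_node` : such a `γ` centralises the rank one torus of the node;
* `com` : the automorphisms centralise `T`.
-/

set_option autoImplicit false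
set_option linter.unusedSectionVars false

namespace Cfsg.Agent.Omega.CR.Com

open Subgroup CoxeterSystem Cfsg.Agent.ChevalleyStructure.CoxeterGeom Cfsg.Agent.Tits.Roots Cfsg.Agent.Tits.Core
  Cfsg.Agent.Tits.RootComb Cfsg.Agent.Nodes.Comb Cfsg.Agent.Nodes.Reps Cfsg.Agent.Nodes.BNOf
  Cfsg.Agent.Nodes.Bruhat Cfsg.Agent.KFacts.RgdAut Cfsg.Agent.KFacts.RgdDiag
  Cfsg.Agent.Omega.Lie.End.KTrFree Cfsg.Agent.Omega.CR.Ab

section lin

variable {Y : Type*} [Group Y] {A T : Subgroup Y}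

/-- **Linearity.** -/
theorem lin {γ δ : MulAut Y} (hsq : ∀ x ∈ A, x * x = 1) (hγA : ∀ x ∈ A, γ x ∈ A) (hγA' : ∀ y ∈ A, ∃ x ∈ A, γ x = y)
    (TA : ∀ t ∈ T, ∀ x ∈ A, t * x * t⁻¹ ∈ A)
    (hab : ∀ s ∈ T, ∀ t ∈ T, ∀ x ∈ A, (s * t) * x * (s * t)⁻¹ = (t * s) * x * (t * s)⁻¹)
    (htr : ∀ x ∈ A, ∀ y ∈ A, x ≠ 1 → y ≠ 1 → ∃ t ∈ T, t * x * t⁻¹ = y) (hδ : ∀ x ∈ A, γ x * x = δ x)
    {τ : Y} (hτ : τ ∈ T) (hγτ : γ τ ∈ T) (hδτ : δ τ ∈ T) : ∀ y ∈ A, γ τ * y * (γ τ)⁻¹ = τ * y * τ⁻¹ := by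
  obtain ⟨p, hp⟩ : ∃ p, p = γ τ := ⟨_, rfl⟩
  obtain ⟨s, hs⟩ : ∃ s, s = δ τ := ⟨_, rfl⟩
  rw [← hp] at hγτ ⊢
  rw [← hs] at hδτ
  have cm : ∀ x ∈ A, ∀ y ∈ A, x * y = y * x := fun x hx y hy => comm_of_sq hsq hx hy
  have hinv : ∀ x ∈ A, x⁻¹ = x := fun x hx => inv_eq_of_mul_eq_one_left (hsq x hx)
  have sw : ∀ u ∈ T, ∀ v ∈ T, ∀ x ∈ A, u * (v * x * v⁻¹) * u⁻¹ = v * (u * x * u⁻¹) * v⁻¹ := by
    intro u hu v hv x hx
    calc u * (v * x * v⁻¹) * u⁻¹ = (u * v) * x * (u * v)⁻¹ := by group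
      _ = (v * u) * x * (v * u)⁻¹ := hab u hu v hv x hx
      _ = _ := by group
  have eq1 : ∀ x ∈ A, p * γ x * p⁻¹ * (τ * x * τ⁻¹) = s * γ x * s⁻¹ * (s * x * s⁻¹) := by
    intro x hx
    have h1 := hδ _ (TA τ hτ x hx)
    rw [map_mul, map_mul, map_inv, map_mul, map_mul, map_inv, ← hp, ← hs, ← hδ x hx] at h1
    rw [h1]; group
  by_cases hcase : ∃ y₀ ∈ A, y₀ ≠ 1 ∧ p * y₀ * p⁻¹ = s * y₀ * s⁻¹
  · obtain ⟨y₀, hy₀, hy1, he⟩ := hcase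
    have hps : ∀ y ∈ A, p * y * p⁻¹ = s * y * s⁻¹ := by
      intro y hy
      by_cases h1 : y = 1
      · rw [h1]; group
      obtain ⟨σ, hσ, rfl⟩ := htr y₀ hy₀ y hy hy1 h1
      rw [sw p hγτ σ hσ y₀ hy₀, he, sw s hδτ σ hσ y₀ hy₀]
    intro y hy
    obtain ⟨x, hx, -⟩ := hγA' y hy
    have h1 := eq1 y hy
    rw [hps _ (hγA y hy)] at h1
    rw [hps y hy]
    exact (mul_left_cancel h1).symm
  · push Not at hcase
    have inj : ∀ y ∈ A, ∀ z ∈ A, p * y * p⁻¹ * (s * y * s⁻¹) = p * z * p⁻¹ * (s * z * s⁻¹) → y = z := by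
      intro y hy z hz e
      have hpy := TA p hγτ y hy
      have hsy := TA s hδτ y hy
      have hpz := TA p hγτ z hz
      have hsz := TA s hδτ z hz
      by_contra hne
      have hw : y * z⁻¹ ∈ A := A.mul_mem hy (A.inv_mem hz)
      refine hcase _ hw (fun h1 => hne (mul_inv_eq_one.1 h1)) ?_
      have e1 : p * (y * z⁻¹) * p⁻¹ = (p * y * p⁻¹) * (p * z * p⁻¹)⁻¹ := by group
      have e2 : s * (y * z⁻¹) * s⁻¹ = (s * y * s⁻¹) * (s * z * s⁻¹)⁻¹ := by group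
      rw [e1, e2, hinv _ hpz, hinv _ hsz]
      obtain ⟨a, ha⟩ : ∃ a, a = p * y * p⁻¹ := ⟨_, rfl⟩
      obtain ⟨b, hb⟩ : ∃ b, b = s * y * s⁻¹ := ⟨_, rfl⟩
      obtain ⟨c, hc⟩ : ∃ c, c = p * z * p⁻¹ := ⟨_, rfl⟩
      obtain ⟨d, hd⟩ : ∃ d, d = s * z * s⁻¹ := ⟨_, rfl⟩
      rw [← ha, ← hb, ← hc, ← hd] at e
      rw [← ha, ← hb, ← hc, ← hd]
      rw [← ha] at hpy
      rw [← hb] at hsy
      rw [← hc] at hpz
      rw [← hd] at hsz
      calc a * c = a * (b * b) * c := by rw [hsq b hsy, mul_one]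
        _ = (a * b) * (b * c) := by group
        _ = (c * d) * (c * b) := by rw [e, cm b hsy c hpz]
        _ = (d * c) * (c * b) := by rw [cm c hpz d hsz]
        _ = d * (c * c) * b := by group
        _ = d * b := by rw [hsq c hpz, mul_one]
        _ = b * d := cm d hsz b hsy
    have eq2 : ∀ x ∈ A, p * γ x * p⁻¹ * (s * γ x * s⁻¹) = (τ * x * τ⁻¹) * (s * x * s⁻¹) := by
      intro x hx
      have h1 := eq1 x hx
      have hpy := TA p hγτ _ (hγA x hx)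
      have hsy := TA s hδτ _ (hγA x hx)
      have hpz := TA τ hτ x hx
      have hsz := TA s hδτ x hx
      obtain ⟨a, ha⟩ : ∃ a, a = p * γ x * p⁻¹ := ⟨_, rfl⟩
      obtain ⟨b, hb⟩ : ∃ b, b = τ * x * τ⁻¹ := ⟨_, rfl⟩
      obtain ⟨c, hc⟩ : ∃ c, c = s * γ x * s⁻¹ := ⟨_, rfl⟩
      obtain ⟨d, hd⟩ : ∃ d, d = s * x * s⁻¹ := ⟨_, rfl⟩
      rw [← ha, ← hb, ← hc, ← hd] at h1
      rw [← ha, ← hb, ← hc, ← hd]
      rw [← ha] at hpy
      rw [← hc] at hsy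
      rw [← hb] at hpz
      rw [← hd] at hsz
      calc a * c = a * (b * b) * c := by rw [hsq b hpz, mul_one]
        _ = (a * b) * (b * c) := by group
        _ = (c * d) * (c * b) := by rw [h1, cm b hpz c hsy]
        _ = (d * c) * (c * b) := by rw [cm c hsy d hsz]
        _ = d * (c * c) * b := by group
        _ = d * b := by rw [hsq c hsy, mul_one]
        _ = b * d := cm d hsz b hpz
    have key : ∀ x ∈ A, γ (τ * x * τ⁻¹) = τ * γ x * τ⁻¹ := by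
      intro x hx
      refine inj _ (hγA _ (TA τ hτ x hx)) _ (TA τ hτ _ (hγA x hx)) ?_
      rw [eq2 _ (TA τ hτ x hx), sw s hδτ τ hτ x hx, sw p hγτ τ hτ _ (hγA x hx), sw s hδτ τ hτ _ (hγA x hx)]
      have h1 := eq2 x hx
      calc τ * (τ * x * τ⁻¹) * τ⁻¹ * (τ * (s * x * s⁻¹) * τ⁻¹) = τ * ((τ * x * τ⁻¹) * (s * x * s⁻¹)) * τ⁻¹ := by group
        _ = τ * (p * γ x * p⁻¹ * (s * γ x * s⁻¹)) * τ⁻¹ := by rw [h1]
        _ = _ := by group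
    intro y hy
    obtain ⟨x, hx, rfl⟩ := hγA' y hy
    rw [← key x hx, map_mul, map_mul, map_inv, ← hp]

end lin

variable {I W Y : Type*} [Fintype I] [DecidableEq I] [Group W] [Group Y] {M : CoxeterMatrix I}
  {cs : CoxeterSystem M W} {A : I → I → ℤ} {h : IsCartan M A} {T : Subgroup Y} {n : I → Y}
  {X : (I → ℤ) → Subgroup Y}

/-- A node with a transitive rank one torus. -/
structure Nd (T : Subgroup Y) (X : (I → ℤ) → Subgroup Y) (i : I) : Prop where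
  sq : ∀ x ∈ X (sr i), x * x = 1
  tr : ∀ x ∈ X (sr i), ∀ y ∈ X (sr i), x ≠ 1 → y ≠ 1 → ∃ t ∈ T, t ∈ X (sr i) ⊔ X (-sr i) ∧ t * x * t⁻¹ = y

section

variable (R : RGD cs h 2 T n X)
include R

theorem TX {r : I → ℤ} (hr : IsRoot cs h r) {t : Y} (ht : t ∈ T) {x : Y} (hx : x ∈ X r) : t * x * t⁻¹ ∈ X r := by
  have h1 := R.tor r hr t ht
  rw [← h1]
  exact conj_mem_cj.2 hx

/-- a torus element centralising `X_i` centralises `⟨X_i, X_{-i}⟩` -/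
theorem cent_neg [Finite W] {i : I} {c : Y} (hc : c ∈ T) (hfix : ∀ x ∈ X (sr i), c * x * c⁻¹ = x) {u : Y}
    (hu : u ∈ X (sr i) ⊔ X (-sr i)) : c * u = u * c := by
  have h1 : X (sr i) ≤ centralizer {c} := by
    intro x hx
    rw [mem_centralizer_singleton_iff]
    exact (mul_inv_eq_iff_eq_mul.1 (hfix x hx)).symm
  have h2 : X (-sr i) ≤ centralizer {c} := by
    intro x hx
    rw [mem_centralizer_singleton_iff]
    by_cases hx1 : x = 1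
    · rw [hx1, one_mul, mul_one]
    obtain ⟨a, ha, t, ht, b, hb, e⟩ := R.rk1 i x hx hx1
    have hN := R.nsys.norm i
    have h3 : n i * c⁻¹ * (n i)⁻¹ ∈ T := (Subgroup.mem_normalizer_iff.1 hN _).1 (T.inv_mem hc)
    have h4 : c * x * c⁻¹ * x⁻¹ = 1 := by
      refine ParSys.Fam.neg_inf_B R i _ (mul_mem (TX R (isRoot_sr cs h i).neg hc hx) (inv_mem hx)) ?_
      have e1 : c * x * c⁻¹ * x⁻¹ = (c * a * c⁻¹) * (c * t * (n i * c⁻¹ * (n i)⁻¹) * n i * (c * b * c⁻¹) * b⁻¹ *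
          (n i)⁻¹ * t⁻¹) * a⁻¹ := by rw [e]; group
      have e2 : (c * a * c⁻¹) * (c * t * (n i * c⁻¹ * (n i)⁻¹) * n i * (c * b * c⁻¹) * b⁻¹ *
          (n i)⁻¹ * t⁻¹) * a⁻¹ = a * (c * t * (n i * c⁻¹ * (n i)⁻¹) * t⁻¹) * a⁻¹ := by
        rw [hfix a ha, hfix b hb]; group
      rw [e1, e2]
      have haB : a ∈ RGD.B cs h T X := RGD.X_le_B (isRoot_sr cs h i) (sr_nonneg i) ha
      exact mul_mem (mul_mem haB (RGD.T_le_B (mul_mem (mul_mem (mul_mem hc ht) h3) (inv_mem ht)))) (inv_mem haB)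
    have h5 : c * x * c⁻¹ = x := mul_inv_eq_one.1 h4
    exact (mul_inv_eq_iff_eq_mul.1 h5).symm
  exact (mem_centralizer_singleton_iff.1 ((sup_le h1 h2) hu)).symm

/-- **The torus is abelian.** -/
theorem abelian [Finite W] [Finite Y] (hG : RGD.Sup X {x | IsRoot cs h x} = ⊤)
    (hab : ∀ s ∈ T, ∀ t ∈ T, ∀ x : Y, (s * t) * x * (s * t)⁻¹ = (t * s) * x * (t * s)⁻¹)
    (nd : ∀ i, Nd T X i) : ∀ s ∈ T, ∀ t ∈ T, s * t = t * s := by
  have key : ∀ i, ∀ s ∈ T ⊓ (X (sr i) ⊔ X (-sr i)), ∀ t ∈ T, s * t = t * s := by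
    intro i
    have hne : X (sr i) ≠ ⊥ := Cfsg.Agent.Nodes.Bruhat.X_ne_bot R (isRoot_sr cs h i)
    obtain ⟨x₀, hx₀, hx1⟩ := ((X (sr i)).bot_or_exists_ne_one).resolve_left hne
    have hcomm := comm_of_cyc (A := X (sr i)) (T := T ⊓ (X (sr i) ⊔ X (-sr i))) (nd i).sq hne
      (fun t ht x hx => TX R (isRoot_sr cs h i) ht.1 hx) (fun s hs t ht x _ => hab s hs.1 t ht.1 x)
      (fun x hx y hy hx1 hy1 => by
        obtain ⟨t, ht, htL, e⟩ := (nd i).tr x hx y hy hx1 hy1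
        exact ⟨t, ⟨ht, htL⟩, e⟩)
      (fun c hc hfix t ht => cent_neg R hc.1 hfix ht.2)
    intro s hs t ht
    obtain ⟨τ, hτ, hτL, e⟩ := (nd i).tr x₀ hx₀ _ (TX R (isRoot_sr cs h i) ht hx₀) hx1 (One.conj_ne hx1)
    have hfix : ∀ x ∈ X (sr i), (τ⁻¹ * t) * x * (τ⁻¹ * t)⁻¹ = x := by
      intro x hx
      by_cases h1 : x = 1
      · rw [h1]; group
      obtain ⟨σ, hσ, -, rfl⟩ := (nd i).tr x₀ hx₀ x hx hx1 h1
      have hτt : τ⁻¹ * t ∈ T := mul_mem (inv_mem hτ) ht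
      calc (τ⁻¹ * t) * (σ * x₀ * σ⁻¹) * (τ⁻¹ * t)⁻¹ = ((τ⁻¹ * t) * σ) * x₀ * ((τ⁻¹ * t) * σ)⁻¹ := by group
        _ = (σ * (τ⁻¹ * t)) * x₀ * (σ * (τ⁻¹ * t))⁻¹ := hab _ hτt _ hσ x₀
        _ = σ * τ⁻¹ * (t * x₀ * t⁻¹) * τ * σ⁻¹ := by group
        _ = σ * τ⁻¹ * (τ * x₀ * τ⁻¹) * τ * σ⁻¹ := by rw [e]
        _ = σ * x₀ * σ⁻¹ := by group
    have h1 := cent_neg R (mul_mem (inv_mem hτ) ht) hfix hs.2
    have h2 := hcomm s hs τ ⟨hτ, hτL⟩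
    calc s * t = (s * τ) * (τ⁻¹ * t) := by group
      _ = τ * (s * (τ⁻¹ * t)) := by rw [h2]; group
      _ = τ * ((τ⁻¹ * t) * s) := by rw [h1]
      _ = t * s := by group
  have hT : T ≤ centralizer (T : Set Y) := by
    conv_lhs => rw [← OddHalf.NI.Mult.iSup_eq R hG]
    refine iSup_le fun i s hs => ?_
    rw [mem_centralizer_iff]
    intro t ht
    exact (key i s hs t ht).symm
  intro s hs t ht
  exact (mem_centralizer_iff.1 (hT hs) t ht).symm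

variable (hTc : ∀ s ∈ T, ∀ t ∈ T, s * t = t * s)
include hTc

/-- **`γ` centralises the rank one torus of a node on which it acts as a scalar.** -/
theorem com_node [Finite W] [Finite Y] {i : I} (nd : Nd T X i) {γ δ : MulAut Y} (hγ : Diag T X γ 1)
    (hδ' : Diag T X δ 1) (hδ : ∀ x ∈ X (sr i), γ x * x = δ x) {t : Y} (ht : t ∈ T)
    (htL : t ∈ X (sr i) ⊔ X (-sr i)) : γ t = t := by
  have hpos : ∀ x ∈ X (sr i), γ x ∈ X (sr i) := fun x hx => (hγ.pos i x).2 hx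
  have hneg : ∀ x ∈ X (-sr i), γ x ∈ X (-sr i) := fun x hx => (hγ.neg i x).2 hx
  have h1 := lin (A := X (sr i)) (T := T) nd.sq hpos (fun y hy => ⟨γ⁻¹ y, (hγ.inv.pos i y).2 hy, MulAut.apply_inv_self _ _ _⟩)
    (fun t ht x hx => TX R (isRoot_sr cs h i) ht hx) (fun s hs t ht x _ => by rw [hTc s hs t ht])
    (fun x hx y hy hx1 hy1 => by
      obtain ⟨t, ht, -, e⟩ := nd.tr x hx y hy hx1 hy1
      exact ⟨t, ht, e⟩) hδ ht ((hγ.tor t).2 ht) ((hδ'.tor t).2 ht)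
  have hL : ∀ x ∈ X (sr i) ⊔ X (-sr i), γ x ∈ X (sr i) ⊔ X (-sr i) := by
    have h2 : X (sr i) ⊔ X (-sr i) ≤ (X (sr i) ⊔ X (-sr i)).comap γ.toMonoidHom :=
      sup_le (fun x hx => mem_sup_left (hpos x hx)) fun x hx => mem_sup_right (hneg x hx)
    exact fun x hx => h2 hx
  have hne : X (sr i) ≠ ⊥ := Cfsg.Agent.Nodes.Bruhat.X_ne_bot R (isRoot_sr cs h i)
  have h3 : t⁻¹ * γ t = 1 := by
    refine fix_eq_one (one_of_rgd R hTc nd.sq) hne (mul_mem (inv_mem ht) ((hγ.tor t).2 ht))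
      (mul_mem (inv_mem htL) (hL t htL)) fun x hx => ?_
    calc t⁻¹ * γ t * x * (t⁻¹ * γ t)⁻¹ = t⁻¹ * (γ t * x * (γ t)⁻¹) * t := by group
      _ = t⁻¹ * (t * x * t⁻¹) * t := by rw [h1 x hx]
      _ = x := by group
  exact (inv_mul_eq_one.1 h3).symm

/-- **The automorphisms centralise the torus.** -/
theorem com [Finite W] [Finite Y] (hG : RGD.Sup X {x | IsRoot cs h x} = ⊤) {γ : MulAut Y} (hγ : Diag T X γ 1)
    (hnd : ∀ i, (∀ x ∈ X (sr i), γ x = x) ∨ (Nd T X i ∧ ∃ δ : MulAut Y, Diag T X δ 1 ∧ ∀ x ∈ X (sr i), γ x * x = δ x)) :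
    ∀ t ∈ T, γ t = t := by
  have h1 : T ≤ γ.toMonoidHom.eqLocus (MonoidHom.id Y) := by
    conv_lhs => rw [← OddHalf.NI.Mult.iSup_eq R hG]
    refine iSup_le fun i t ht => ?_
    change γ t = t
    rcases hnd i with h2 | ⟨nd, δ, hδ', hδ⟩
    · have h3 : X (sr i) ⊔ X (-sr i) ≤ γ.toMonoidHom.eqLocus (MonoidHom.id Y) :=
        sup_le (fun u hu => h2 u hu) fun u hu => Cfsg.Agent.KFacts.RgdRigid.Diag.apply_neg R hγ h2 hu
      exact h3 ht.2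
    · exact com_node R hTc nd hγ hδ' hδ ht.1 ht.2
  exact fun t ht => h1 ht

end

end Cfsg.Agent.Omega.CR.Com
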