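import Cfsg.Agent.Omega.CR.BlK
import Cfsg.Agent.Omega.ML.Ex.IrrK

/-!
# THEOREM END, P7: the exact situation with `K` of Lie type in characteristic two (helper818)

* `lie2` : `InX H M K T A`, `K` of Lie type in characteristic two: `C_M(T ∩ K)` is an irreducible module for
  `N_K(T ∩ K)` (`M|_K` is irreducible by `InX.irr_K`, then Curtis–Richen `CR.Bl.cr_lie`);
* `lie2'` : the same with `W = C_M(T ∩ K)` as an equality.
-/

set_option autoImplicit false

namespace Cfsg.Agent.Omega.CR.EndLie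

open Subgroup Cfsg Cfsg.Agent.Omega.ML.Ex Cfsg.Agent.ClassTwoFusion.Quad
open Cfsg.Agent.Omega.ML.Final (MLK)

universe u v

variable {H : Type u} [Group H] [Finite H] {M : Type v} [Group M] [Finite M] [MulDistribMulAction H M]
  {K T A : Subgroup H}

/-- every nonzero `N_K(T ∩ K)`-submodule of `C_M(T ∩ K)` is everything -/
theorem lie2 (ml : MLK.{u, v}) (hKG : IsKGroup H) (h : InX H M K T A) (hl : IsLieTypeChar 2 K) {W : Subgroup M}
    (hW : ∀ w ∈ W, ∀ s ∈ T ⊓ K, s • w = w)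
    (hN : ∀ n ∈ normalizer ((T ⊓ K : Subgroup H) : Set H), n ∈ K → ∀ w ∈ W, n • w ∈ W) (hne : W ≠ ⊥) :
    ∀ m : M, (∀ s ∈ T ⊓ K, s • m = m) → m ∈ W :=
  CR.Bl.cr_lie h.norm h.simple hl h.two h.syl h.sq (h.irr_K ml hKG) hW hN hne

/-- the same as an equality -/
theorem lie2' (ml : MLK.{u, v}) (hKG : IsKGroup H) (h : InX H M K T A) (hl : IsLieTypeChar 2 K) {W : Subgroup M}
    (hW : W ≤ cv M ((T ⊓ K : Subgroup H) : Set H)) (hne : W ≠ ⊥)
    (hN : ∀ n ∈ normalizer ((T ⊓ K : Subgroup H) : Set H), n ∈ K → ∀ w ∈ W, n • w ∈ W) :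
    W = cv M ((T ⊓ K : Subgroup H) : Set H) :=
  le_antisymm hW fun m hm => lie2 ml hKG h hl (fun _ hw s hs => hW hw s hs) hN hne m fun s hs => hm s hs

end Cfsg.Agent.Omega.CR.EndLie
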