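import Cfsg.Agent.Omega.CR.Act

/-!
# A family of root group data with a common torus from commuting components

`Comps` : commuting subgroups `C l` with root group data with their own tori `T l`, and a group `T0` of order prime to
`p` acting diagonally on all of them.  `Comps.fam` : the family with the common torus `T0 ⊔ ⨆ T l`.
-/

set_option autoImplicit false
set_option linter.unusedSectionVars false

namespace Cfsg.Agent.Omega.CR

open Subgroup CoxeterSystem Cfsg.Agent.ChevalleyStructure.CoxeterGeom Cfsg.Agent.Tits.Roots Cfsg.Agent.Tits.Core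
  Cfsg.Agent.Tits.Exchange Cfsg.Agent.Nodes.Reps Cfsg.Agent.Nodes.BNOf Cfsg.Agent.Nodes.StabComb
  Cfsg.Agent.Nodes.Bruhat Cfsg.Agent.Nodes.OppDec Cfsg.Agent.Nodes.LeviDec Cfsg.Agent.KFacts.RgdOpp

theorem card_sup_dvd' {G : Type*} [Group G] (H N : Subgroup G) (h : H ≤ normalizer (N : Set G)) :
    Nat.card ↥(H ⊔ N) ∣ Nat.card H * Nat.card N := by
  let _ := Subgroup.normal_subgroupOf_of_le_normalizer h
  let _ := Subgroup.normal_subgroupOf_sup_of_le_normalizer h
  have e := (QuotientGroup.quotientInfEquivProdNormalizerQuotient H N h).toEquiv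
  have h1 : (N.subgroupOf H).index = (N.subgroupOf (H ⊔ N)).index := Nat.card_congr e
  have h2 := Subgroup.card_mul_index (N.subgroupOf (H ⊔ N))
  rw [Nat.card_congr (Subgroup.subgroupOfEquivOfLe (le_sup_right : N ≤ H ⊔ N)).toEquiv, ← h1] at h2
  rw [← h2, mul_comm]
  exact Nat.mul_dvd_mul (Subgroup.index_dvd_card _) dvd_rfl

variable {κ : Type*} [Fintype κ] {I W : κ → Type*} {Y : Type*} [∀ l, Fintype (I l)] [∀ l, DecidableEq (I l)]
  [∀ l, Group (W l)] [Group Y] {M : ∀ l, CoxeterMatrix (I l)}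

/-- Commuting components with a group acting diagonally. -/
structure Comps (cs : ∀ l, CoxeterSystem (M l) (W l)) {A : ∀ l, I l → I l → ℤ} (h : ∀ l, IsCartan (M l) (A l)) (p : ℕ)
    (T : κ → Subgroup Y) (n : ∀ l, I l → Y) (X : ∀ l, (I l → ℤ) → Subgroup Y) (C : κ → Subgroup Y)
    (T0 : Subgroup Y) : Prop where
  rgd : ∀ l, RGD (cs l) (h l) p (T l) (n l) (X l)
  T_le : ∀ l, T l ≤ C l
  X_le : ∀ l x, IsRoot (cs l) (h l) x → X l x ≤ C l
  n_mem : ∀ l i, n l i ∈ C l
  comm : ∀ l m, l ≠ m → ∀ a ∈ C l, ∀ b ∈ C m, a * b = b * a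
  T0_T : ∀ l, ∀ t ∈ T0, ∀ s ∈ T l, t * s * t⁻¹ ∈ T l
  T0_X : ∀ l x, IsRoot (cs l) (h l) x → ∀ t ∈ T0, ∀ y ∈ X l x, t * y * t⁻¹ ∈ X l x
  T0_n : ∀ l i, ∀ t ∈ T0, (n l i)⁻¹ * (t * n l i * t⁻¹) ∈ T l
  cop : (Nat.card T0).Coprime p

variable {cs : ∀ l, CoxeterSystem (M l) (W l)} {A : ∀ l, I l → I l → ℤ} {h : ∀ l, IsCartan (M l) (A l)} {p : ℕ}
  {T : κ → Subgroup Y} {n : ∀ l, I l → Y} {X : ∀ l, (I l → ℤ) → Subgroup Y} {C : κ → Subgroup Y} {T0 : Subgroup Y}

theorem le_normalizer_of {G : Type*} [Group G] {K H : Subgroup G} (h : ∀ t ∈ K, ∀ s ∈ H, t * s * t⁻¹ ∈ H) :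
    K ≤ normalizer (H : Set G) := by
  intro t ht
  rw [mem_normalizer_iff]
  intro s
  refine ⟨h t ht s, fun hs => ?_⟩
  have h1 := h t⁻¹ (inv_mem ht) _ hs
  have e : t⁻¹ * (t * s * t⁻¹) * t⁻¹⁻¹ = s := by group
  rwa [e] at h1

namespace Comps

variable (D : Comps cs h p T n X C T0)
include D

/-- `T̂` normalises every `T l` -/
theorem le_norm_T (l : κ) : T0 ⊔ ⨆ m, T m ≤ normalizer (T l : Set Y) := by
  refine sup_le (le_normalizer_of (D.T0_T l)) (iSup_le fun m => ?_)
  by_cases hm : m = l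
  · subst hm; exact le_normalizer
  · refine le_normalizer_of fun t ht s hs => ?_
    rw [D.comm m l hm t (D.T_le m ht) s (D.T_le l hs), mul_inv_cancel_right]
    exact hs

theorem le_norm_X (l : κ) {x : I l → ℤ} (hx : IsRoot (cs l) (h l) x) : T0 ⊔ ⨆ m, T m ≤ normalizer (X l x : Set Y) := by
  refine sup_le (le_normalizer_of (D.T0_X l x hx)) (iSup_le fun m => ?_)
  by_cases hm : m = l
  · subst hm
    refine le_normalizer_of fun t ht s hs => ?_
    have h1 := (D.rgd m).tor x hx t ht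
    rw [← h1]
    exact conj_mem_cj.2 hs
  · refine le_normalizer_of fun t ht s hs => ?_
    rw [D.comm m l hm t (D.T_le m ht) s (D.X_le l x hx hs), mul_inv_cancel_right]
    exact hs

theorem T_le_sup (l : κ) : T l ≤ T0 ⊔ ⨆ m, T m := (le_iSup T l).trans le_sup_right

theorem n_norm (l : κ) (i : I l) : n l i ∈ normalizer ((T0 ⊔ ⨆ m, T m : Subgroup Y) : Set Y) := by
  have key : ∀ g : Y, (g = n l i ∨ g = (n l i)⁻¹) → ∀ t ∈ T0 ⊔ ⨆ m, T m, g * t * g⁻¹ ∈ T0 ⊔ ⨆ m, T m := by
    intro g hg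
    have hgC : g ∈ C l := by
      rcases hg with rfl | rfl
      · exact D.n_mem l i
      · exact inv_mem (D.n_mem l i)
    have hgN : g ∈ normalizer (T l : Set Y) := by
      rcases hg with rfl | rfl
      · exact (D.rgd l).nsys.norm i
      · exact inv_mem ((D.rgd l).nsys.norm i)
    have h1 : T0 ⊔ ⨆ m, T m ≤ (T0 ⊔ ⨆ m, T m : Subgroup Y).comap (MulAut.conj g).toMonoidHom := by
      refine sup_le ?_ (iSup_le fun m => ?_)
      · intro t ht
        change g * t * g⁻¹ ∈ (T0 ⊔ ⨆ m, T m : Subgroup Y)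
        have h2 : ∀ t ∈ T0, (n l i)⁻¹ * t * n l i * t⁻¹ ∈ T l := by
          intro t ht
          have h3 := D.T0_n l i t ht
          have e : (n l i)⁻¹ * (t * n l i * t⁻¹) = (n l i)⁻¹ * t * n l i * t⁻¹ := by group
          rwa [e] at h3
        have ht' : t ∈ T0 ⊔ ⨆ m, T m := mem_sup_left ht
        rcases hg with rfl | rfl
        · -- `n t n⁻¹ t⁻¹ = n (t n⁻¹ t⁻¹)`
          have h3 : n l i * (t * (n l i)⁻¹ * t⁻¹) ∈ T l := by
            have h4 := h2 t ht
            have h5 : (n l i)⁻¹ * (n l i * (t * (n l i)⁻¹ * t⁻¹))⁻¹ * n l i = (n l i)⁻¹ * t * n l i * t⁻¹ := by group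
            have h6 : (n l i)⁻¹ * (n l i * (t * (n l i)⁻¹ * t⁻¹))⁻¹ * (n l i)⁻¹⁻¹ ∈ T l := by
              rw [inv_inv, h5]; exact h4
            have h7 := (mem_normalizer_iff.1 (inv_mem ((D.rgd l).nsys.norm i)) _).2 h6
            exact inv_mem_iff.1 h7
          have e : n l i * t * (n l i)⁻¹ = n l i * (t * (n l i)⁻¹ * t⁻¹) * t := by group
          rw [e]
          exact mul_mem (D.T_le_sup l h3) ht'
        · have e : (n l i)⁻¹ * t * (n l i)⁻¹⁻¹ = (n l i)⁻¹ * t * n l i * t⁻¹ * t := by group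
          rw [e]
          exact mul_mem (D.T_le_sup l (h2 t ht)) ht'
      · intro t ht
        change g * t * g⁻¹ ∈ (T0 ⊔ ⨆ m, T m : Subgroup Y)
        by_cases hm : m = l
        · subst hm
          exact D.T_le_sup m ((mem_normalizer_iff.1 hgN t).1 ht)
        · rw [← D.comm m l hm t (D.T_le m ht) g hgC, mul_inv_cancel_right]
          exact D.T_le_sup m ht
    exact fun t ht => h1 ht
  rw [mem_normalizer_iff]
  intro t
  refine ⟨key _ (Or.inl rfl) t, fun ht => ?_⟩
  have h1 := key _ (Or.inr rfl) _ ht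
  have e : (n l i)⁻¹ * (n l i * t * (n l i)⁻¹) * (n l i)⁻¹⁻¹ = t := by group
  rwa [e] at h1

theorem coprime : (Nat.card ↥(T0 ⊔ ⨆ m, T m : Subgroup Y)).Coprime p := by
  classical
  have key : ∀ s : Finset κ, (Nat.card ↥(⨆ m ∈ s, T m : Subgroup Y)).Coprime p := by
    intro s
    induction s using Finset.induction_on with
    | empty =>
      have h0 : (⨆ m ∈ (∅ : Finset κ), T m : Subgroup Y) = ⊥ := by simp
      rw [h0, Subgroup.card_bot]
      exact Nat.coprime_one_left p
    | insert a s ha ih =>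
      rw [Finset.iSup_insert]
      have h1 : T a ≤ normalizer ((⨆ m ∈ s, T m : Subgroup Y) : Set Y) := by
        have h2 : (⨆ m ∈ s, T m : Subgroup Y) ≤ centralizer (T a : Set Y) := by
          refine iSup₂_le fun m hm => ?_
          intro c hc
          rw [mem_centralizer_iff]
          intro g hg
          have hne : a ≠ m := by
            rintro rfl
            exact ha hm
          exact D.comm a m hne g (D.T_le a hg) c (D.T_le m hc)
        refine le_normalizer_of fun t ht c hc => ?_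
        rw [mem_centralizer_iff.1 (h2 hc) t ht, mul_inv_cancel_right]
        exact hc
      exact Nat.Coprime.coprime_dvd_left (card_sup_dvd' _ _ h1) (Nat.Coprime.mul_left (D.rgd a).tcop ih)
  have h1 := key Finset.univ
  have h2 : (⨆ m ∈ (Finset.univ : Finset κ), T m : Subgroup Y) = ⨆ m, T m := by
    simp only [Finset.mem_univ, iSup_pos]
  rw [h2] at h1
  have h3 : T0 ≤ normalizer ((⨆ m, T m : Subgroup Y) : Set Y) := by
    refine le_normalizer_of fun t ht => ?_
    have h4 : (⨆ m, T m : Subgroup Y) ≤ (⨆ m, T m : Subgroup Y).comap (MulAut.conj t).toMonoidHom := by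
      refine iSup_le fun m s hs => ?_
      exact (le_iSup T m) (D.T0_T m t ht s hs)
    exact fun s hs => h4 hs
  exact Nat.Coprime.coprime_dvd_left (card_sup_dvd' _ _ h3) (Nat.Coprime.mul_left D.cop h1)

/-- **The family with the common torus.** -/
theorem fam : Fam cs h p (T0 ⊔ ⨆ m, T m) n X C where
  rgd l :=
    { nsys := ⟨D.n_norm l, fun i j => D.T_le_sup l ((D.rgd l).nsys.rel i j)⟩
      conj := (D.rgd l).conj
      tor := fun x hx t ht => by
        apply le_antisymm
        · rintro _ ⟨y, hy, rfl⟩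
          exact (mem_normalizer_iff.1 (D.le_norm_X l hx ht) y).1 hy
        · intro y hy
          rw [mem_cj]
          have h1 := (mem_normalizer_iff.1 (D.le_norm_X l hx (inv_mem ht)) y).1 hy
          rwa [inv_inv] at h1
      comm := (D.rgd l).comm
      rk1 := fun i u hu hu1 => by
        obtain ⟨a, ha, t, ht, b, hb, e⟩ := (D.rgd l).rk1 i u hu hu1
        exact ⟨a, ha, t, D.T_le_sup l ht, b, hb, e⟩
      pgrp := (D.rgd l).pgrp
      notp := (D.rgd l).notp
      tcop := D.coprime }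
  X_le := D.X_le
  n_mem := D.n_mem
  comm := D.comm

/-- the group of the family -/
theorem GGt_eq (hC : ∀ l, C l ≤ GG (cs l) (h l) (T l) (X l)) : GGt cs h (T0 ⊔ ⨆ m, T m) X = T0 ⊔ ⨆ m, C m := by
  unfold GGt
  apply le_antisymm
  · refine sup_le (sup_le le_sup_left (iSup_le fun m => ?_)) (iSup_le fun l => ?_)
    · exact (D.T_le m).trans ((le_iSup C m).trans le_sup_right)
    · unfold GG
      refine sup_le (sup_le le_sup_left (iSup_le fun m => ?_)) (RGD.Sup_le fun z hz => ?_)
      · exact (D.T_le m).trans ((le_iSup C m).trans le_sup_right)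
      · exact (D.X_le l z hz).trans ((le_iSup C l).trans le_sup_right)
  · refine sup_le (le_sup_left.trans le_sup_left) (iSup_le fun l => ?_)
    refine (hC l).trans ?_
    unfold GG
    refine sup_le ((D.T_le_sup l).trans le_sup_left) (RGD.Sup_le fun z hz => ?_)
    refine le_trans ?_ ((le_iSup (fun l => GG (cs l) (h l) (T0 ⊔ ⨆ m, T m) (X l)) l).trans le_sup_right)
    unfold GG
    exact (RGD.le_Sup (S := {x | IsRoot (cs l) (h l) x}) hz).trans le_sup_right

end Comps

end Cfsg.Agent.Omega.CR
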