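import Cfsg.Agent.Omega.CR.Main

/-!
# The theorem of Curtis and Richen for a family of commuting root group data with a common torus

`Fam` : root group data `R k`, `k ∈ κ`, in `Y`, with the same `T`, contained in commuting subgroups `C k`.

`Fam.main` : `V` a simple module for `⟨T, all X_k⟩` over a field of characteristic `p` (any field, `F_p` included):
`V^U` is a simple `T`-module, `V = k[U⁻] V^U`, and the pairing between `V^U` and `(V*)^{U⁻}` is perfect.
-/

set_option autoImplicit false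
set_option linter.unusedSectionVars false

namespace Cfsg.Agent.Omega.CR

open CoxeterSystem Cfsg.Agent.ChevalleyStructure.CoxeterGeom Cfsg.Agent.Tits.Roots Cfsg.Agent.Tits.Core
  Cfsg.Agent.Tits.Exchange Cfsg.Agent.Nodes.Reps Cfsg.Agent.Nodes.BNOf Cfsg.Agent.Nodes.StabComb
  Cfsg.Agent.Nodes.Bruhat Cfsg.Agent.Nodes.OppDec Cfsg.Agent.Nodes.LeviDec Cfsg.Agent.KFacts.RgdOpp

variable {κ : Type*} [Fintype κ] {I W : κ → Type*} {Y : Type*} [∀ l, Fintype (I l)] [∀ l, DecidableEq (I l)]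
  [∀ l, Group (W l)] [Group Y] {M : ∀ l, CoxeterMatrix (I l)}

/-- A family of root group data with a common torus, in commuting subgroups. -/
structure Fam (cs : ∀ l, CoxeterSystem (M l) (W l)) {A : ∀ l, I l → I l → ℤ} (h : ∀ l, IsCartan (M l) (A l)) (p : ℕ)
    (T : Subgroup Y) (n : ∀ l, I l → Y) (X : ∀ l, (I l → ℤ) → Subgroup Y) (C : κ → Subgroup Y) : Prop where
  rgd : ∀ l, RGD (cs l) (h l) p T (n l) (X l)
  X_le : ∀ l x, IsRoot (cs l) (h l) x → X l x ≤ C l
  n_mem : ∀ l i, n l i ∈ C l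
  comm : ∀ l m, l ≠ m → ∀ a ∈ C l, ∀ b ∈ C m, a * b = b * a

variable {cs : ∀ l, CoxeterSystem (M l) (W l)} {A : ∀ l, I l → I l → ℤ} {h : ∀ l, IsCartan (M l) (A l)} {p : ℕ}
  {T : Subgroup Y} {n : ∀ l, I l → Y} {X : ∀ l, (I l → ℤ) → Subgroup Y} {C : κ → Subgroup Y}

/-- the product of the groups `U` of the members -/
def Ut (cs : ∀ l, CoxeterSystem (M l) (W l)) (h : ∀ l, IsCartan (M l) (A l)) (X : ∀ l, (I l → ℤ) → Subgroup Y) :
    Subgroup Y := ⨆ l, RGD.Sup (X l) (RGD.Pos (cs l) (h l))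

/-- the product of the opposite groups -/
def UNt (cs : ∀ l, CoxeterSystem (M l) (W l)) (h : ∀ l, IsCartan (M l) (A l)) (X : ∀ l, (I l → ℤ) → Subgroup Y) :
    Subgroup Y := ⨆ l, UN (cs l) (h l) (X l)

/-- the group of the family -/
def GGt (cs : ∀ l, CoxeterSystem (M l) (W l)) (h : ∀ l, IsCartan (M l) (A l)) (T : Subgroup Y)
    (X : ∀ l, (I l → ℤ) → Subgroup Y) : Subgroup Y := T ⊔ ⨆ l, GG (cs l) (h l) T (X l)

theorem U_le_Ut (l : κ) : RGD.Sup (X l) (RGD.Pos (cs l) (h l)) ≤ Ut cs h X :=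
  le_iSup (fun l => RGD.Sup (X l) (RGD.Pos (cs l) (h l))) l

theorem UN_le_UNt (l : κ) : UN (cs l) (h l) (X l) ≤ UNt cs h X :=
  le_iSup (fun l => UN (cs l) (h l) (X l)) l

theorem GG_le_GGt (l : κ) : GG (cs l) (h l) T (X l) ≤ GGt cs h T X :=
  (le_iSup (fun l => GG (cs l) (h l) T (X l)) l).trans le_sup_right

namespace Fam

variable (F : Fam cs h p T n X C)
include F

theorem U_le (l : κ) : RGD.Sup (X l) (RGD.Pos (cs l) (h l)) ≤ C l :=
  RGD.Sup_le fun x hx => F.X_le l x hx.1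

/-- the opposite family -/
theorem opp [∀ l, Finite (W l)] : Fam cs h p T n (fun l x => X l (-x)) C where
  rgd l := KFacts.RgdOpp.opp (F.rgd l)
  X_le l x hx := F.X_le l (-x) hx.neg
  n_mem := F.n_mem
  comm := F.comm

omit F in
theorem Ut_opp : Ut cs h (fun l x => X l (-x)) = UNt cs h X := by
  unfold Ut UNt
  congr 1
  ext1 l
  exact U_opp

omit F in
theorem UNt_opp : UNt cs h (fun l x => X l (-x)) = Ut cs h X := by
  unfold Ut UNt
  congr 1
  ext1 l
  exact UN_opp

omit F in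
theorem GGt_opp : GGt cs h T (fun l x => X l (-x)) = GGt cs h T X := by
  unfold GGt
  congr 2
  ext1 l
  exact GG_opp

theorem UN_le [∀ l, Finite (W l)] (l : κ) : UN (cs l) (h l) (X l) ≤ C l := by
  rw [← U_opp]
  exact F.opp.U_le l

/-- the product of the other opposite groups commutes with `C l` -/
theorem rest_comm [∀ l, Finite (W l)] (l : κ) {a : Y} (ha : a ∈ C l) :
    ∀ c ∈ ⨆ m : {m // m ≠ l}, UN (cs m) (h m) (X m), a * c = c * a := by
  have key : (⨆ m : {m // m ≠ l}, UN (cs m) (h m) (X m)) ≤ Subgroup.centralizer {a} := by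
    refine iSup_le fun m => ?_
    intro c hc
    rw [Subgroup.mem_centralizer_iff]
    rintro _ rfl
    exact F.comm l m (Ne.symm m.2) _ ha c (F.UN_le m hc)
  intro c hc
  exact (Subgroup.mem_centralizer_iff.1 (key hc) a rfl)

theorem exists_dec [∀ l, Finite (W l)] (l : κ) {b : Y} (hb : b ∈ UNt cs h X) :
    ∃ c ∈ ⨆ m : {m // m ≠ l}, UN (cs m) (h m) (X m), ∃ u ∈ UN (cs l) (h l) (X l), b = c * u := by
  have h1 : UNt cs h X ≤ (⨆ m : {m // m ≠ l}, UN (cs m) (h m) (X m)) ⊔ UN (cs l) (h l) (X l) := by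
    refine iSup_le fun m => ?_
    by_cases hm : m = l
    · subst hm; exact le_sup_right
    · exact (le_iSup (fun m : {m // m ≠ l} => UN (cs m) (h m) (X m)) ⟨m, hm⟩).trans le_sup_left
  have h2 := h1 hb
  have h3 : UN (cs l) (h l) (X l) ≤ Subgroup.normalizer ((⨆ m : {m // m ≠ l}, UN (cs m) (h m) (X m) : Subgroup Y) : Set Y) := by
    intro u hu
    rw [Subgroup.mem_normalizer_iff]
    intro c
    constructor
    · intro hc
      rwa [F.rest_comm l (F.UN_le l hu) c hc, mul_inv_cancel_right]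
    · intro hc
      have h4 := F.rest_comm l (F.UN_le l (inv_mem hu)) _ hc
      have h5 : c = u * c * u⁻¹ := by
        have : u⁻¹ * (u * c * u⁻¹) = u * c * u⁻¹ * u⁻¹ := h4
        have h6 : c * u⁻¹ = u * c * u⁻¹ * u⁻¹ := by rw [← this]; group
        exact mul_right_cancel h6
      rw [h5]; exact hc
  rw [sup_comm, ← SetLike.mem_coe, Subgroup.coe_mul_of_left_le_normalizer_right _ _ h3] at h2
  obtain ⟨u, hu, c, hc, e⟩ := Set.mem_mul.1 h2
  refine ⟨c, hc, u, hu, ?_⟩
  rw [← e]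
  exact F.rest_comm l (F.UN_le l hu) c hc

theorem isPGroup_Ut [∀ l, Finite (W l)] : IsPGroup p (Ut cs h X) := by
  classical
  have key : ∀ s : Finset κ, IsPGroup p (⨆ l ∈ s, RGD.Sup (X l) (RGD.Pos (cs l) (h l)) : Subgroup Y) := by
    intro s
    induction s using Finset.induction_on with
    | empty =>
      have h0 : (⨆ l ∈ (∅ : Finset κ), RGD.Sup (X l) (RGD.Pos (cs l) (h l)) : Subgroup Y) = ⊥ := by simp
      rw [h0]
      exact IsPGroup.of_bot
    | insert a s ha ih =>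
      rw [Finset.iSup_insert]
      refine (F.rgd a).isPGroup_Upos.to_sup_of_normal_right' ih ?_
      have h1 : (⨆ l ∈ s, RGD.Sup (X l) (RGD.Pos (cs l) (h l)) : Subgroup Y) ≤
          Subgroup.centralizer (RGD.Sup (X a) (RGD.Pos (cs a) (h a)) : Set Y) := by
        refine iSup₂_le fun l hl => ?_
        intro c hc
        rw [Subgroup.mem_centralizer_iff]
        intro g hg
        have hne : a ≠ l := by
          rintro rfl
          exact ha hl
        exact F.comm a l hne g (F.U_le a hg) c (F.U_le l hc)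
      intro u hu
      rw [Subgroup.mem_normalizer_iff]
      intro c
      have h2 : ∀ c ∈ (⨆ l ∈ s, RGD.Sup (X l) (RGD.Pos (cs l) (h l)) : Subgroup Y), ∀ u ∈ RGD.Sup (X a) (RGD.Pos (cs a) (h a)),
          u * c * u⁻¹ = c := by
        intro c hc u hu
        rw [Subgroup.mem_centralizer_iff.1 (h1 hc) u hu, mul_inv_cancel_right]
      constructor
      · intro hc
        exact (h2 c hc u hu).symm ▸ hc
      · intro hc
        have h3 := h2 _ hc u⁻¹ (inv_mem hu)
        have h4 : u⁻¹ * (u * c * u⁻¹) * u⁻¹⁻¹ = c := by group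
        rw [h4] at h3
        exact h3 ▸ hc
  have h1 := key Finset.univ
  have h2 : (⨆ l ∈ (Finset.univ : Finset κ), RGD.Sup (X l) (RGD.Pos (cs l) (h l)) : Subgroup Y) = Ut cs h X := by
    unfold Ut
    simp only [Finset.mem_univ, iSup_pos]
  rwa [h2] at h1

theorem T_norm_Ut {t u : Y} (ht : t ∈ T) (hu : u ∈ Ut cs h X) : t * u * t⁻¹ ∈ Ut cs h X := by
  have h1 : cj t (Ut cs h X) ≤ Ut cs h X := by
    unfold Ut
    rw [cj_iSup]
    refine iSup_le fun l => ?_
    rintro _ ⟨v, hv, rfl⟩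
    exact U_le_Ut l ((Subgroup.mem_normalizer_iff.1 ((F.rgd l).T_le_normalizer_U ht) v).1 hv)
  exact h1 (conj_mem_cj.2 hu)

theorem T_norm_UNt [∀ l, Finite (W l)] {t u : Y} (ht : t ∈ T) (hu : u ∈ UNt cs h X) : t * u * t⁻¹ ∈ UNt cs h X := by
  rw [← Ut_opp] at hu ⊢
  exact F.opp.T_norm_Ut ht hu

end Fam

section Rep

variable {k V : Type*} [Field k] [AddCommGroup V] [Module k V] (ρ : Y →* Module.End k V)

/-- the stabiliser of a vector -/
def stV (ρ : Y →* Module.End k V) (v : V) : Subgroup Y where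
  carrier := {g | ρ g v = v}
  one_mem' := rho_one ρ v
  mul_mem' := by
    intro a b (ha : ρ a v = v) (hb : ρ b v = v)
    change ρ (a * b) v = v
    rw [rho_mul, hb, ha]
  inv_mem' := by
    intro a (ha : ρ a v = v)
    change ρ a⁻¹ v = v
    conv_lhs => rw [← ha]
    exact rho_inv_rho ρ a v

theorem mem_fx_iff {B : Subgroup Y} {v : V} : v ∈ fx ρ B ↔ B ≤ stV ρ v := Iff.rfl

theorem fx_mono {B B' : Subgroup Y} (hB : B ≤ B') : fx ρ B' ≤ fx ρ B := fun _ hv b hb => hv b (hB hb)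

theorem mem_fx_Ut {v : V} : v ∈ fx ρ (Ut cs h X) ↔ ∀ l, v ∈ fx ρ (RGD.Sup (X l) (RGD.Pos (cs l) (h l))) := by
  constructor
  · intro hv l
    exact fx_mono ρ (U_le_Ut l) hv
  · intro hv
    rw [mem_fx_iff]
    exact iSup_le fun l => hv l

namespace Fam

variable (F : Fam cs h p T n X C)
include F

variable [Finite Y] [∀ l, Finite (W l)]

omit [∀ l, Finite (W l)] in
theorem comm_Tk {l m : κ} (hlm : m ≠ l) {w : W l} {g : Y} (hg : g ∈ C l) {a : Y} (ha : a ∈ C m) (v : V) :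
    ρ a (Tk (cs l) (h l) (X l) ρ w g v) = Tk (cs l) (h l) (X l) ρ w g (ρ a v) := by
  classical
  let _ := Fintype.ofFinite (RGD.Sup (X l) (RGD.Inv (cs l) (h l) w))
  rw [Tk_apply, Tk_apply, sg_def, sg_def, map_sum]
  refine Finset.sum_congr rfl fun x _ => ?_
  have hx : (x : Y) ∈ C l := (RGD.Sup_le (X := X l) (S := RGD.Inv (cs l) (h l) w) fun z hz => F.X_le l z hz.1) x.2
  have h1 : a * ((x : Y) * g) = x * g * a := F.comm m l hlm a ha _ (mul_mem hx hg)
  have h2 : ρ a (ρ (x : Y) (ρ g v)) = ρ (a * ((x : Y) * g)) v := by rw [rho_mul, rho_mul]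
  rw [h2, h1, rho_mul, rho_mul]

omit [∀ l, Finite (W l)] in
theorem Ti_Tk {l m : κ} (hlm : m ≠ l) {w : W l} {g : Y} (hg : g ∈ C l) (i : I m) (v : V) :
    Ti (n m) (X m) ρ i (Tk (cs l) (h l) (X l) ρ w g v) = Tk (cs l) (h l) (X l) ρ w g (Ti (n m) (X m) ρ i v) := by
  classical
  let _ := Fintype.ofFinite (X m (sr i))
  rw [Ti_apply, Ti_apply, sg_def, sg_def, map_sum]
  refine Finset.sum_congr rfl fun x _ => ?_
  rw [F.comm_Tk ρ hlm hg (F.n_mem m i), F.comm_Tk ρ hlm hg (F.X_le m _ (isRoot_sr _ _ i) x.2)]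

/-- good subspaces -/
structure Good (_F : Fam cs h p T n X C) (ρ : Y →* Module.End k V) (s : Finset κ) (N : Submodule k V) : Prop where
  simp : Simp ρ T N
  fix : N ≤ fx ρ (Ut cs h X)
  st : ∀ l ∈ s, ∀ i, ∀ v ∈ N, Ti (n l) (X l) ρ i v ∈ N

variable [Fact p.Prime] [CharP k p]

omit F in
theorem Good.insert [DecidableEq κ] {F : Fam cs h p T n X C} {ρ : Y →* Module.End k V} {s : Finset κ} {N : Submodule k V}
    (hN : Good F ρ s N) {l : κ} (hl : l ∉ s) : ∃ N' : Submodule k V, Good F ρ (insert l s) N' := by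
  obtain ⟨w, g, hg, h1, h2, h3⟩ := exists_simul (F.rgd l) ρ hN.simp (hN.fix.trans (fx_mono ρ (U_le_Ut l)))
  have hgC : g ∈ C l := by
    refine (?_ : Subgroup.closure (Set.range (n l)) ≤ _) hg
    rw [Subgroup.closure_le]
    rintro _ ⟨i, rfl⟩
    exact F.n_mem l i
  refine ⟨_, h1, ?_, ?_⟩
  · intro v hv
    rw [mem_fx_Ut]
    intro m
    by_cases hm : m = l
    · subst hm
      exact h2 hv
    · obtain ⟨v', hv', rfl⟩ := hv
      intro u hu
      rw [F.comm_Tk ρ hm hgC (F.U_le m hu)]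
      congr 1
      exact (mem_fx_Ut ρ).1 (hN.fix hv') m u hu
  · intro m hm i v hv
    by_cases hml : m = l
    · subst hml
      exact h3 i v hv
    · have hms : m ∈ s := (Finset.mem_insert.1 hm).resolve_left hml
      obtain ⟨v', hv', rfl⟩ := hv
      rw [F.Ti_Tk ρ hml hgC]
      exact ⟨_, hN.st m hms i v' hv', rfl⟩

omit [CharP k p] [Fact p.Prime] in
theorem inv_fx : Ivt ρ T (fx ρ (Ut cs h X)) := by
  intro t ht v hv u hu
  have h1 : u * t = t * (t⁻¹ * u * t) := by group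
  rw [← rho_mul, h1, rho_mul]
  congr 1
  have := F.T_norm_Ut (inv_mem ht) hu
  rw [inv_inv] at this
  exact hv _ this

/-- **There is a good subspace.** -/
theorem exists_good [FiniteDimensional k V] [Nontrivial V] : ∃ N : Submodule k V, Good F ρ Finset.univ N := by
  classical
  have h0 : fx ρ (Ut cs h X) ≠ ⊥ := by
    obtain ⟨v, -, hv0, hv⟩ := exists_fixed ρ (F.isPGroup_Ut) (⊤ : Submodule k V) (fun _ _ _ _ => trivial) top_ne_bot
    intro h1
    have h2 : v ∈ fx ρ (Ut cs h X) := hv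
    rw [h1, Submodule.mem_bot] at h2
    exact hv0 h2
  obtain ⟨L, ⟨hLN, hL0, hL⟩, hmin⟩ := (wellFounded_lt (α := Submodule k V)).has_min
    {L : Submodule k V | L ≤ fx ρ (Ut cs h X) ∧ L ≠ ⊥ ∧ Ivt ρ T L} ⟨_, le_rfl, h0, F.inv_fx ρ⟩
  have hgood : Good F ρ ∅ L := by
    refine ⟨⟨hL0, hL, ?_⟩, hLN, fun l hl => absurd hl (Finset.notMem_empty l)⟩
    intro L' hL' hi
    by_cases h1 : L' = ⊥
    · exact Or.inl h1
    · right
      by_contra hne
      exact hmin L' ⟨hL'.trans hLN, h1, hi⟩ (lt_of_le_of_ne hL' hne)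
  have key : ∀ s : Finset κ, ∃ N : Submodule k V, Good F ρ s N := by
    intro s
    induction s using Finset.induction_on with
    | empty => exact ⟨L, hgood⟩
    | insert a s ha ih =>
      obtain ⟨N, hN⟩ := ih
      exact hN.insert ha
  exact key _

omit F [Fact p.Prime] [CharP k p] in
theorem Good.n_mem {F : Fam cs h p T n X C} {ρ : Y →* Module.End k V} {N : Submodule k V}
    (hN : Good F ρ Finset.univ N) (l : κ) (i : I l) {v : V} (hv : v ∈ N) : ρ (n l i) v ∈ Sp ρ (X l (-sr i)) N :=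
  CR.n_mem (F.rgd l) ρ hN.simp (hN.fix.trans (fx_mono ρ (U_le_Ut l))) (hN.st l (Finset.mem_univ l) i) hv

omit F [Fact p.Prime] [CharP k p] in
/-- **`k[U⁻] N` is invariant.** -/
theorem Good.stable {F : Fam cs h p T n X C} {ρ : Y →* Module.End k V} {N : Submodule k V}
    (hN : Good F ρ Finset.univ N) : GGt cs h T X ≤ stS ρ (Sp ρ (UNt cs h X) N) := by
  unfold GGt
  refine sup_le (T_stable ρ hN.simp.inv fun t ht c hc => F.T_norm_UNt ht hc) (iSup_le fun l => ?_)
  refine CR.stable (F.rgd l) ρ hN.simp.inv (hN.fix.trans (fx_mono ρ (U_le_Ut l))) (fun i v hv => hN.n_mem l i hv)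
    (C := ⨆ m : {m // m ≠ l}, UN (cs m) (h m) (X m)) (fun i c hc => F.rest_comm l (F.n_mem l i) c hc)
    (iSup_le fun m => UN_le_UNt m.1) (UN_le_UNt l) (fun b hb => F.exists_dec l hb) fun t ht b hb => F.T_norm_UNt ht hb

omit F [Fact p.Prime] [CharP k p] in
theorem Good.gen {F : Fam cs h p T n X C} {ρ : Y →* Module.End k V} {N : Submodule k V}
    (hN : Good F ρ Finset.univ N) (hirr : ∀ L : Submodule k V, Ivt ρ (GGt cs h T X) L → L = ⊥ ∨ L = ⊤) :
    Sp ρ (UNt cs h X) N = ⊤ := by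
  refine (hirr _ (Ivt_of_le ρ hN.stable)).resolve_left fun h0 => hN.simp.ne ?_
  rw [eq_bot_iff, ← h0]
  exact le_Sp ρ

end Fam

/-! ### the dual representation -/

/-- the dual representation -/
def dualRep (ρ : Y →* Module.End k V) : Y →* Module.End k (Module.Dual k V) where
  toFun g := (ρ g⁻¹).dualMap
  map_one' := by
    ext φ v
    change φ (ρ (1 : Y)⁻¹ v) = φ v
    rw [inv_one, rho_one]
  map_mul' a b := by
    ext φ v
    change φ (ρ (a * b)⁻¹ v) = φ (ρ b⁻¹ (ρ a⁻¹ v))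
    rw [mul_inv_rev, rho_mul]

theorem dualRep_apply (g : Y) (φ : Module.Dual k V) (v : V) : dualRep ρ g φ v = φ (ρ g⁻¹ v) := rfl

theorem mem_fx_dual {B : Subgroup Y} {φ : Module.Dual k V} :
    φ ∈ fx (dualRep ρ) B ↔ ∀ b ∈ B, ∀ v, φ (ρ b v) = φ v := by
  constructor
  · intro hφ b hb v
    have := congrArg (fun ψ : Module.Dual k V => ψ v) (hφ b⁻¹ (inv_mem hb))
    rwa [dualRep_apply, inv_inv] at this
  · intro hφ b hb
    ext v
    rw [dualRep_apply]
    exact hφ b⁻¹ (inv_mem hb) v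

theorem dual_irr [FiniteDimensional k V] {G : Subgroup Y} (hirr : ∀ L : Submodule k V, Ivt ρ G L → L = ⊥ ∨ L = ⊤)
    (L : Submodule k (Module.Dual k V)) (hL : Ivt (dualRep ρ) G L) : L = ⊥ ∨ L = ⊤ := by
  have h1 : Ivt ρ G L.dualCoannihilator := by
    intro g hg v hv
    rw [Submodule.mem_dualCoannihilator] at hv ⊢
    intro φ hφ
    have := hv _ (hL g⁻¹ (inv_mem hg) φ hφ)
    rwa [dualRep_apply, inv_inv] at this
  rcases hirr _ h1 with h2 | h2
  · right
    have h3 := Subspace.dualCoannihilator_dualAnnihilator_eq (W := L)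
    rw [h2, Submodule.dualAnnihilator_bot] at h3
    exact h3.symm
  · left
    rw [eq_bot_iff]
    intro φ hφ
    rw [Submodule.mem_bot]
    ext v
    have : v ∈ L.dualCoannihilator := by rw [h2]; trivial
    exact (Submodule.mem_dualCoannihilator v).1 this φ hφ

/-- a functional fixed by `B` and zero on `N` is zero on `k[B] N` -/
theorem eq_zero_of_Sp {B : Subgroup Y} {N : Submodule k V} (hS : Sp ρ B N = ⊤) {φ : Module.Dual k V}
    (hφ : φ ∈ fx (dualRep ρ) B) (h0 : ∀ v ∈ N, φ v = 0) : φ = 0 := by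
  rw [mem_fx_dual] at hφ
  ext v
  have hv : v ∈ Sp ρ B N := by rw [hS]; trivial
  change φ v = 0
  induction hv using Submodule.span_induction with
  | mem x hx =>
    obtain ⟨b, hb, m, hm, rfl⟩ := hx
    rw [hφ b hb, h0 m hm]
  | zero => exact map_zero φ
  | add x y _ _ hx hy => rw [map_add, hx, hy, add_zero]
  | smul c x _ hx => rw [map_smul, hx, smul_zero]

/-- a `B`-fixed vector which is killed by `N` is zero -/
theorem eq_zero_of_Sp' {B : Subgroup Y} {N : Submodule k (Module.Dual k V)} (hS : Sp (dualRep ρ) B N = ⊤) {v : V}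
    (hv : v ∈ fx ρ B) (h0 : ∀ φ ∈ N, φ v = 0) : v = 0 := by
  have key : ∀ φ : Module.Dual k V, φ v = 0 := by
    intro φ
    have hφ : φ ∈ Sp (dualRep ρ) B N := by rw [hS]; trivial
    induction hφ using Submodule.span_induction with
    | mem x hx =>
      obtain ⟨b, hb, m, hm, rfl⟩ := hx
      rw [dualRep_apply, hv _ (inv_mem hb), h0 m hm]
    | zero => rfl
    | add x y _ _ hx hy => rw [LinearMap.add_apply, hx, hy, add_zero]
    | smul c x _ hx => rw [LinearMap.smul_apply, hx, smul_zero]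
  exact (Module.forall_dual_apply_eq_zero_iff k v).1 key

namespace Fam

variable (F : Fam cs h p T n X C) [Finite Y] [∀ l, Finite (W l)] [Fact p.Prime] [CharP k p] [FiniteDimensional k V]
  (hirr : ∀ L : Submodule k V, Ivt ρ (GGt cs h T X) L → L = ⊥ ∨ L = ⊤)
include F hirr

/-- good subspaces are all of `V^U`; pairing with the fixed functionals of `U⁻` -/
theorem eq_fx [Nontrivial V] {N : Submodule k V} (hN : Good F ρ Finset.univ N) : N = fx ρ (Ut cs h X) ∧
    ∀ v ∈ fx ρ (Ut cs h X), v ≠ 0 → ∃ φ ∈ fx (dualRep ρ) (UNt cs h X), φ v ≠ 0 := by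
  have hnt : Nontrivial (Module.Dual k V) := inferInstance
  obtain ⟨N', hN'⟩ := F.opp.exists_good (dualRep ρ)
  have h1 := hN.gen hirr
  have h2 := hN'.gen (dual_irr ρ (by rw [GGt_opp]; exact hirr))
  rw [UNt_opp] at h2
  have h3 : N' ≤ fx (dualRep ρ) (UNt cs h X) := by
    have := hN'.fix
    rwa [Ut_opp] at this
  -- the pairings
  let Φ : fx (dualRep ρ) (UNt cs h X) →ₗ[k] Module.Dual k N :=
    { toFun := fun φ => φ.1.comp N.subtype
      map_add' := fun _ _ => rfl
      map_smul' := fun _ _ => rfl }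
  have hΦ : Function.Injective Φ := by
    rw [injective_iff_map_eq_zero]
    intro φ hφ
    apply Subtype.ext
    refine eq_zero_of_Sp ρ h1 φ.2 fun v hv => ?_
    exact congrArg (fun ψ : Module.Dual k N => ψ ⟨v, hv⟩) hφ
  let Ψ : fx ρ (Ut cs h X) →ₗ[k] Module.Dual k N' :=
    { toFun := fun v =>
        { toFun := fun φ => φ.1 v.1
          map_add' := fun _ _ => rfl
          map_smul' := fun _ _ => rfl }
      map_add' := fun v w => by
        ext φ
        exact map_add φ.1 v.1 w.1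
      map_smul' := fun c v => by
        ext φ
        exact map_smul φ.1 c v.1 }
  have hker : ∀ v ∈ fx ρ (Ut cs h X), (∀ φ ∈ N', φ v = 0) → v = 0 := fun v hv h0 => eq_zero_of_Sp' ρ h2 hv h0
  have hΨ : Function.Injective Ψ := by
    rw [injective_iff_map_eq_zero]
    intro v hv
    apply Subtype.ext
    refine hker v.1 v.2 fun φ hφ => ?_
    exact congrArg (fun ψ : Module.Dual k N' => ψ ⟨φ, hφ⟩) hv
  have e1 := LinearMap.finrank_le_finrank_of_injective hΦ
  have e2 := LinearMap.finrank_le_finrank_of_injective hΨ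
  have e1 := e1.trans (Subspace.dual_finrank_eq (K := k) (V := N)).le
  have e2 := e2.trans (Subspace.dual_finrank_eq (K := k) (V := N')).le
  have e3 := Submodule.finrank_mono h3
  refine ⟨Submodule.eq_of_le_of_finrank_le hN.fix (e2.trans (e3.trans e1)), ?_⟩
  intro v hv hv0
  by_contra hc
  push Not at hc
  exact hv0 (hker v hv fun φ hφ => hc φ (h3 hφ))

/-- **Curtis–Richen.** -/
theorem main [Nontrivial V] : Good F ρ Finset.univ (fx ρ (Ut cs h X)) := by
  obtain ⟨N, hN⟩ := F.exists_good ρ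
  rw [← (F.eq_fx ρ hirr hN).1]
  exact hN

theorem simp [Nontrivial V] : Simp ρ T (fx ρ (Ut cs h X)) := (F.main ρ hirr).simp

/-- a nonzero `T`-invariant subspace of `V^U` is `V^U` -/
theorem eq_of_le {N : Submodule k V} (hN0 : N ≠ ⊥) (hN : N ≤ fx ρ (Ut cs h X)) (hT : Ivt ρ T N) :
    N = fx ρ (Ut cs h X) := by
  have : Nontrivial V := by
    obtain ⟨v, -, hv⟩ := (Submodule.ne_bot_iff N).1 hN0
    exact nontrivial_of_ne v 0 hv
  exact ((F.simp ρ hirr).simple N hN hT).resolve_left hN0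

/-- a nonzero `T U`-invariant subspace contains `V^U` -/
theorem fx_le {N : Submodule k V} (hN0 : N ≠ ⊥) (hU : Ivt ρ (Ut cs h X) N) (hT : Ivt ρ T N) :
    fx ρ (Ut cs h X) ≤ N := by
  obtain ⟨v, hv, hv0, hvU⟩ := exists_fixed ρ (F.isPGroup_Ut) N hU hN0
  have h1 : N ⊓ fx ρ (Ut cs h X) = fx ρ (Ut cs h X) := by
    refine F.eq_of_le ρ hirr (fun h2 => hv0 ?_) inf_le_right fun t ht w hw => ⟨hT t ht w hw.1, F.inv_fx ρ t ht w hw.2⟩
    have : v ∈ N ⊓ fx ρ (Ut cs h X) := ⟨hv, hvU⟩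
    rwa [h2, Submodule.mem_bot] at this
  rw [← h1]
  exact inf_le_left

end Fam

end Rep

end Cfsg.Agent.Omega.CR
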