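import Cfsg.Agent.Omega.CR.Enl
import Cfsg.Agent.KFacts.RgdVJ
import Cfsg.Agent.KFacts.RgdDiag

/-!
# Generation by `U⁻` and a nontrivial normal subgroup of `U`

`gen_of_normal` : root group data, connected diagram, `1 ≠ A₁ ≤ U` normal in `U` and normalised by `T`: a subgroup containing
`U⁻` and `A₁` contains all root groups.
-/

set_option autoImplicit false
set_option linter.unusedSectionVars false

namespace Cfsg.Agent.Omega.CR

open Subgroup CoxeterSystem Cfsg.Agent.ChevalleyStructure.CoxeterGeom Cfsg.Agent.Tits.Roots Cfsg.Agent.Tits.Core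
  Cfsg.Agent.Tits.Exchange Cfsg.Agent.Nodes.Reps Cfsg.Agent.Nodes.BNOf Cfsg.Agent.Nodes.StabComb
  Cfsg.Agent.Nodes.Bruhat Cfsg.Agent.Nodes.OppDec Cfsg.Agent.Nodes.LeviDec Cfsg.Agent.KFacts.RgdOpp
  Cfsg.Agent.KFacts.RgdVJ Cfsg.Agent.KFacts.RgdDiag

variable {I W Y : Type*} [Fintype I] [DecidableEq I] [Group W] [Group Y] {M : CoxeterMatrix I}
  {cs : CoxeterSystem M W} {A : I → I → ℤ} {h : IsCartan M A} {p : ℕ} {T : Subgroup Y} {n : I → Y}
  {X : (I → ℤ) → Subgroup Y}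

/-- `L ⊴ L T`, `T` of order prime to `p`: the `p`-elements of `L T` are in `L` -/
theorem mem_of_pow {G : Type*} [Group G] [Finite G] {p : ℕ} {L T : Subgroup G} (hT : T ≤ normalizer (L : Set G))
    (hcop : (Nat.card T).Coprime p) {x : G} (hx : x ∈ L ⊔ T) {k : ℕ} (hk : x ^ p ^ k = 1) : x ∈ L := by
  have h1 : Nat.card ↥(T ⊔ L : Subgroup G) = Nat.card L * L.relIndex (T ⊔ L) := by
    rw [← relIndex_bot_left, ← relIndex_bot_left, relIndex_mul_relIndex ⊥ L (T ⊔ L) bot_le le_sup_right]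
  have h2 : L.relIndex (T ⊔ L) ∣ Nat.card T := by
    have h3 := card_sup_dvd' T L hT
    rw [h1, mul_comm (Nat.card T)] at h3
    exact Nat.dvd_of_mul_dvd_mul_left Nat.card_pos h3
  have hn : (L.subgroupOf (T ⊔ L)).Normal := Subgroup.normal_subgroupOf_sup_of_le_normalizer hT
  have hx' : x ∈ T ⊔ L := by rwa [sup_comm]
  have h4 : (⟨x, hx'⟩ : ↥(T ⊔ L : Subgroup G)) ^ (L.subgroupOf (T ⊔ L)).index ∈ L.subgroupOf (T ⊔ L) :=
    pow_index_mem _ _
  have h5 : x ^ L.relIndex (T ⊔ L) ∈ L := h4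
  have h6 : (L.relIndex (T ⊔ L)).Coprime (p ^ k) := Nat.Coprime.pow_right k (Nat.Coprime.coprime_dvd_left h2 hcop)
  have h7 : orderOf (QuotientGroup.mk (s := L.subgroupOf (T ⊔ L)) (⟨x, hx'⟩ : ↥(T ⊔ L : Subgroup G))) = 1 := by
    rw [← Nat.dvd_one, ← h6.gcd_eq_one]
    refine Nat.dvd_gcd ?_ ?_
    · rw [orderOf_dvd_iff_pow_eq_one, ← QuotientGroup.mk_pow, QuotientGroup.eq_one_iff]
      exact h5
    · rw [orderOf_dvd_iff_pow_eq_one, ← QuotientGroup.mk_pow]
      have : (⟨x, hx'⟩ : ↥(T ⊔ L : Subgroup G)) ^ p ^ k = 1 := Subtype.ext hk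
      rw [this]; rfl
  rw [orderOf_eq_one_iff, QuotientGroup.eq_one_iff] at h7
  exact h7

variable (R : RGD cs h p T n X)

include R

theorem T_norm_UN' [Finite W] : T ≤ normalizer (UN cs h X : Set Y) := by
  have h1 := (opp R).T_le_normalizer_U
  rwa [U_opp] at h1

/-- **Generation.** -/
theorem gen_of_normal [Finite Y] [Finite W]
    (hconn : ∀ J : Set I, J.Nonempty → J ≠ Set.univ → ∃ a ∈ J, ∃ b, b ∉ J ∧ M a b ≠ 2) {A₁ : Subgroup Y}
    (hA : A₁ ≤ RGD.Sup X (RGD.Pos cs h)) (hne : A₁ ≠ ⊥)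
    (hU : ∀ u ∈ RGD.Sup X (RGD.Pos cs h), ∀ a ∈ A₁, u * a * u⁻¹ ∈ A₁) (hT : ∀ t ∈ T, ∀ a ∈ A₁, t * a * t⁻¹ ∈ A₁)
    {L : Subgroup Y} (hN : UN cs h X ≤ L) (hAL : A₁ ≤ L) {x : I → ℤ} (hx : IsRoot cs h x) : X x ≤ L := by
  set L' : Subgroup Y := UN cs h X ⊔ A₁ with hL'
  have hL'L : L' ≤ L := sup_le hN hAL
  refine le_trans ?_ hL'L
  have hTL : T ≤ normalizer (L' : Set Y) := by
    refine le_normalizer_of fun t ht s hs => ?_
    have h1 : L' ≤ L'.comap (MulAut.conj t).toMonoidHom := by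
      refine sup_le ?_ ?_
      · intro y hy
        exact mem_sup_left ((mem_normalizer_iff.1 (T_norm_UN' R ht) y).1 hy)
      · intro y hy
        exact mem_sup_right (hT t ht y hy)
    exact h1 hs
  have hB : RGD.B cs h T (fun x => X (-x)) ≤ L' ⊔ T := by
    rw [B_opp]
    exact sup_le le_sup_right (le_sup_left.trans le_sup_left)
  have h1 := inf_eq_PJ (opp R) hB
  rw [PJ_opp, GG_opp] at h1
  set J : Set I := {i | n i ∈ L' ⊔ T} with hJ
  by_cases hJu : J = Set.univ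
  · intro y hy
    have hy1 : y ∈ GG cs h T X := mem_sup_right (RGD.le_Sup (S := {x | IsRoot cs h x}) hx hy)
    have hy2 : y ∈ PNJ cs h T X J := by
      rw [hJu]
      exact mem_sup_left (by rw [LJ_univ]; exact hy1)
    rw [← h1] at hy2
    obtain ⟨k, hk⟩ := R.pgrp' hx ⟨y, hy⟩
    exact mem_of_pow hTL R.tcop hy2.1 (congrArg Subtype.val hk)
  · exfalso
    apply hne
    rw [eq_bot_iff]
    intro a ha
    have haU := hA ha
    -- elements of `A₁` are in `U_J`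
    have key : ∀ a ∈ A₁, a ∈ UJ cs h X J := by
      intro a ha
      have h2 : a ∈ PNJ cs h T X J := by
        rw [← h1]
        refine ⟨mem_sup_left (mem_sup_right ha), ?_⟩
        exact (RGD.Sup_mono (fun z hz => hz.1) : RGD.Sup X (RGD.Pos cs h) ≤ RGD.Sup X {x | IsRoot cs h x}).trans
          le_sup_right (hA ha)
      obtain ⟨u, hu, v, hv, rfl⟩ := (mem_U_iff R (J := J)).1 (hA ha)
      have h3 : u ∈ PNJ cs h T X J := by
        refine mem_sup_left (mem_sup_right ?_)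
        exact (RGD.Sup_mono (PosJ_subset J)) hu
      have h4 : v ∈ PNJ cs h T X J := by
        have : v = u⁻¹ * (u * v) := by group
        rw [this]
        exact mul_mem (inv_mem h3) h2
      rw [eq_one_of_mem_VJ_of_mem_PNJ R hv h4, mul_one]
      exact hu
    have hcomm : ∀ v ∈ VJ cs h X J, a * v = v * a := by
      intro v hv
      have hvU : v ∈ RGD.Sup X (RGD.Pos cs h) := VJ_le_U J hv
      have h2 : a * v * a⁻¹ * v⁻¹ ∈ UJ cs h X J := by
        have h3 : v * a⁻¹ * v⁻¹ ∈ A₁ := hU v hvU _ (inv_mem ha)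
        have e : a * v * a⁻¹ * v⁻¹ = a * (v * a⁻¹ * v⁻¹) := by group
        rw [e]
        exact key _ (mul_mem ha h3)
      have h3 : a * v * a⁻¹ * v⁻¹ ∈ VJ cs h X J := by
        have haN : a ∈ normalizer (VJ cs h X J : Set Y) :=
          PJ_le_normalizer_VJ R J (B_le_PJ (RGD.U_le_B haU))
        exact mul_mem ((mem_normalizer_iff.1 haN v).1 hv) (inv_mem hv)
      have h4 : a * v * a⁻¹ * v⁻¹ ∈ UJ cs h X J ⊓ VJ cs h X J := ⟨h2, h3⟩
      rw [UJ_inf_VJ R, mem_bot] at h4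
      have h5 : a * v = (a * v * a⁻¹ * v⁻¹) * v * a := by group
      rw [h5, h4, one_mul]
    have haG : a ∈ GG cs h T X :=
      (RGD.Sup_mono (fun z hz => hz.1) : RGD.Sup X (RGD.Pos cs h) ≤ RGD.Sup X {x | IsRoot cs h x}).trans
          le_sup_right haU
    obtain ⟨t, ht, v, hv, e, -, -⟩ := cent_VJ R hconn hJu haG hcomm
    have ht1 : t = 1 := by
      have h3 : t ∈ RGD.Sup X (RGD.Pos cs h) := by
        have : t = a * v⁻¹ := by rw [e]; group
        rw [this]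
        exact mul_mem haU (inv_mem (VJ_le_U J hv))
      have h2 : t ∈ RGD.Sup X (RGD.Pos cs h) ⊓ T := ⟨h3, ht⟩
      rwa [U_inf_T R, mem_bot] at h2
    rw [ht1, one_mul] at e
    have h2 : a ∈ UJ cs h X J ⊓ VJ cs h X J := ⟨key a ha, by rw [e]; exact hv⟩
    rwa [UJ_inf_VJ R] at h2

end Cfsg.Agent.Omega.CR
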