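import Cfsg.Agent.Omega.CR.Fam

/-!
# Curtis–Richen for modules which are irreducible under the family and outer operators (helper818)

`F : Fam ..` a family of commuting root group data in `Y` with a common torus, `Y = ⟨T, all root groups⟩`,
`ρ : Y →* End V`, `𝓡` a group of automorphisms of the space `V` which are semilinear with respect to automorphisms of `Y`
normalising `U`, `V` irreducible under `ρ(Y)` and `𝓡` (so `V` is a semisimple `Y`-module, but neither simple nor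
homogeneous).

* `Fam.fx_le_hecke` : a subspace `0 ≠ Z ≤ V^U`, invariant under `T`, `𝓡` and all Hecke operators `T_i`, is `V^U`;
* `Fam.fx_le_map` : **if `φ : V' → V` is equivariant and `φ(V'^U) ≠ 0`, then `φ(V'^U) = V^U`.**
-/

set_option autoImplicit false
set_option linter.unusedSectionVars false

namespace Cfsg.Agent.Omega.CR

open CoxeterSystem Cfsg.Agent.ChevalleyStructure.CoxeterGeom Cfsg.Agent.Tits.Roots Cfsg.Agent.Tits.Core
  Cfsg.Agent.Tits.Exchange Cfsg.Agent.Nodes.Reps Cfsg.Agent.Nodes.BNOf Cfsg.Agent.Nodes.StabComb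
  Cfsg.Agent.Nodes.Bruhat Cfsg.Agent.Nodes.OppDec Cfsg.Agent.Nodes.LeviDec Cfsg.Agent.KFacts.RgdOpp

section One

variable {I W Y : Type*} [Fintype I] [DecidableEq I] [Group W] [Group Y] {M : CoxeterMatrix I}
  {cs : CoxeterSystem M W} {A : I → I → ℤ} {h : IsCartan M A} {p : ℕ} {T : Subgroup Y} {n : I → Y}
  {X : (I → ℤ) → Subgroup Y}

variable (R : RGD cs h p T n X)

include R

variable {k V : Type*} [Field k] [AddCommGroup V] [Module k V] (ρ : Y →* Module.End k V) [Finite Y]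

/-- `T_w` preserves a `T`- and `T_i`-invariant subspace. -/
theorem Tk_mem [Finite W] {Z : Submodule k V} (hT : Ivt ρ T Z) (hc : ∀ i, ∀ v ∈ Z, Ti n X ρ i v ∈ Z) {w : W} {g : Y}
    (hg : Rp cs R.nsys w g) {v : V} (hv : v ∈ Z) : Tk cs h X ρ w g v ∈ Z := by
  induction hn : cs.length w using Nat.strong_induction_on generalizing w g with
  | _ N' ih =>
  by_cases hw1 : w = 1
  · subst hw1
    rw [Tk_apply, RGD.inv_one_eq, Sup_empty, sg_bot]
    exact hT g hg.mem_of_one v hv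
  · obtain ⟨i, hi⟩ : ∃ i, cs.IsLeftDescent w i := cs.exists_leftDescent_of_ne_one hw1
    have hlt : cs.length (cs.simple i * w) < cs.length w := hi
    have hneg : rep cs h w⁻¹ (sr i) ≤ 0 := by
      refine nonpos_of_lt cs h w⁻¹ i ?_
      rw [cs.length_inv, ← cs.length_inv (w⁻¹ * cs.simple i), mul_inv_rev, inv_inv, cs.inv_simple]
      exact hlt
    have hww : cs.simple i * (cs.simple i * w) = w := by
      rw [← mul_assoc, cs.simple_mul_simple_self, one_mul]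
    have hg' : Rp cs R.nsys (cs.simple i * w) ((n i)⁻¹ * g) := by
      have := (rp_simple cs R.nsys i).inv.mul hg
      rwa [cs.inv_simple] at this
    have h2 : Ti n X ρ i (Tk cs h X ρ (cs.simple i * w) ((n i)⁻¹ * g) v) = Tk cs h X ρ w g v := by
      have h3 := Tk_up R ρ (w := cs.simple i * w) (i := i) (by
        rw [rep_simple_mul_inv]; exact neg_nonneg.2 hneg) ((n i)⁻¹ * g) v
      rwa [hww, mul_inv_cancel_left] at h3
    rw [← h2]
    exact hc i _ (ih _ (hn ▸ hlt) hg' rfl)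

/-- `exists_simul` inside a `T`- and `T_i`-invariant subspace. -/
theorem exists_simul_le [Finite W] [Fact p.Prime] [CharP k p] {N Z : Submodule k V} (hN : Simp ρ T N)
    (hU : N ≤ fx ρ (RGD.Sup X (RGD.Pos cs h))) (hNZ : N ≤ Z) (hT : Ivt ρ T Z)
    (hc : ∀ i, ∀ v ∈ Z, Ti n X ρ i v ∈ Z) : ∃ w : W, ∃ g ∈ Subgroup.closure (Set.range n),
      Simp ρ T (N.map (Tk cs h X ρ w g)) ∧ N.map (Tk cs h X ρ w g) ≤ fx ρ (RGD.Sup X (RGD.Pos cs h)) ∧
      (∀ i, ∀ v ∈ N.map (Tk cs h X ρ w g), Ti n X ρ i v ∈ N.map (Tk cs h X ρ w g)) ∧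
      N.map (Tk cs h X ρ w g) ≤ Z := by
  classical
  let S : Set W := {w | ∃ g ∈ Subgroup.closure (Set.range n), Rp cs R.nsys w g ∧ N.map (Tk cs h X ρ w g) ≠ ⊥}
  have hS : S.Nonempty := by
    refine ⟨1, 1, one_mem _, rp_one, ?_⟩
    have h2 : Tk cs h X ρ 1 1 = 1 := by
      ext v
      rw [Tk_apply, RGD.inv_one_eq, Sup_empty, sg_bot, rho_one]; rfl
    rw [h2]
    intro h3
    apply hN.ne
    rw [eq_bot_iff, ← h3]
    intro v hv
    exact ⟨v, hv, rfl⟩
  obtain ⟨w, ⟨g, hgc, hg, hne⟩, hmax⟩ := Set.exists_max_image S (fun w => cs.length w) (Set.toFinite S) hS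
  obtain ⟨h5, h6⟩ := Tk_wt R ρ hN hU hg hne
  refine ⟨w, g, hgc, h5, h6, ?_, ?_⟩
  swap
  · rintro _ ⟨v, hv, rfl⟩
    exact Tk_mem R ρ hT hc hg (hNZ hv)
  intro i
  have hni : n i ∈ Subgroup.closure (Set.range n) := Subgroup.subset_closure ⟨i, rfl⟩
  have hww : cs.simple i * (cs.simple i * w) = w := by
    rw [← mul_assoc, cs.simple_mul_simple_self, one_mul]
  rcases ((isRoot_sr cs h i).act w⁻¹).pos_or_neg with hpos | hneg
  · rintro _ ⟨v, hv, rfl⟩
    have h7 : Ti n X ρ i (Tk cs h X ρ w g v) = 0 := by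
      by_contra hc
      have h1 := hmax (cs.simple i * w) ⟨_, mul_mem hni hgc, (rp_simple cs R.nsys i).mul hg, fun h8 => hc (by
        rw [Tk_up R ρ hpos, ← Submodule.mem_bot k, ← h8]
        exact ⟨v, hv, rfl⟩)⟩
      have h2 := (lt_iff' cs h w⁻¹ i).2 hpos
      rw [cs.length_inv, ← cs.length_inv (w⁻¹ * cs.simple i), mul_inv_rev, inv_inv, cs.inv_simple] at h2
      exact absurd h1 (not_le.2 h2)
    rw [h7]
    exact Submodule.zero_mem _
  · have hg' : Rp cs R.nsys (cs.simple i * w) ((n i)⁻¹ * g) := by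
      have := (rp_simple cs R.nsys i).inv.mul hg
      rwa [cs.inv_simple] at this
    have h2 : ∀ v, Tk cs h X ρ w g v = Ti n X ρ i (Tk cs h X ρ (cs.simple i * w) ((n i)⁻¹ * g) v) := by
      intro v
      have h3 := Tk_up R ρ (w := cs.simple i * w) (i := i) (by
        rw [rep_simple_mul_inv]; exact neg_nonneg.2 hneg) ((n i)⁻¹ * g) v
      rw [hww, mul_inv_cancel_left] at h3
      exact h3.symm
    have h4 : N.map (Tk cs h X ρ (cs.simple i * w) ((n i)⁻¹ * g)) ≠ ⊥ := by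
      intro h4
      apply hne
      rw [eq_bot_iff]
      rintro _ ⟨v, hv, rfl⟩
      have h8 : Tk cs h X ρ (cs.simple i * w) ((n i)⁻¹ * g) v ∈
          N.map (Tk cs h X ρ (cs.simple i * w) ((n i)⁻¹ * g)) := ⟨v, hv, rfl⟩
      rw [h4, Submodule.mem_bot] at h8
      rw [h2, h8, map_zero]
      exact Submodule.zero_mem _
    obtain ⟨h8, h9⟩ := Tk_wt R ρ hN hU hg' h4
    rintro _ ⟨v, hv, rfl⟩
    rw [h2]
    obtain ⟨v', ⟨v'', hv'', rfl⟩, hv'⟩ := Ti_sq R ρ h8.inv h9 i (v := Tk cs h X ρ (cs.simple i * w) ((n i)⁻¹ * g) v)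
      ⟨v, hv, rfl⟩
    rw [hv', ← h2]
    exact ⟨_, hv'', rfl⟩

end One

variable {κ : Type*} [Fintype κ] {I W : κ → Type*} {Y : Type*} [∀ l, Fintype (I l)] [∀ l, DecidableEq (I l)]
  [∀ l, Group (W l)] [Group Y] {M : ∀ l, CoxeterMatrix (I l)}
  {cs : ∀ l, CoxeterSystem (M l) (W l)} {A : ∀ l, I l → I l → ℤ} {h : ∀ l, IsCartan (M l) (A l)} {p : ℕ}
  {T : Subgroup Y} {n : ∀ l, I l → Y} {X : ∀ l, (I l → ℤ) → Subgroup Y} {C : κ → Subgroup Y}

variable {k V : Type*} [Field k] [AddCommGroup V] [Module k V] (ρ : Y →* Module.End k V)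

/-- `θ` is semilinear with respect to an automorphism of `Y` which normalises `U`. -/
def Otr (U : Subgroup Y) (ρ : Y →* Module.End k V) (θ : V ≃ₗ[k] V) : Prop :=
  ∃ σ : Y ≃* Y, (∀ g v, θ (ρ g v) = ρ (σ g) (θ v)) ∧ ∀ u, u ∈ U ↔ σ u ∈ U

/-- the quotient representation -/
def qRep (L : Submodule k V) (hL : Ivt ρ ⊤ L) : Y →* Module.End k (V ⧸ L) where
  toFun g := L.mapQ L (ρ g) fun v hv => hL g trivial v hv
  map_one' := by
    refine LinearMap.ext fun v => ?_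
    obtain ⟨v, rfl⟩ := L.mkQ_surjective v
    change L.mkQ (ρ 1 v) = L.mkQ v
    rw [rho_one]
  map_mul' a b := by
    refine LinearMap.ext fun v => ?_
    obtain ⟨v, rfl⟩ := L.mkQ_surjective v
    change L.mkQ (ρ (a * b) v) = L.mkQ (ρ a (ρ b v))
    rw [rho_mul]

theorem qRep_apply (L : Submodule k V) (hL : Ivt ρ ⊤ L) (g : Y) (v : V) :
    qRep ρ L hL g (L.mkQ v) = L.mkQ (ρ g v) := rfl

/-- a maximal invariant subspace -/
structure Mxi (ρ : Y →* Module.End k V) (L : Submodule k V) : Prop where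
  inv : Ivt ρ ⊤ L
  ne : L ≠ ⊤
  max : ∀ L', Ivt ρ ⊤ L' → L ≤ L' → L' = L ∨ L' = ⊤

variable {ρ} in
theorem Mxi.comap {U : Subgroup Y} {L : Submodule k V} (hL : Mxi ρ L) {θ : V ≃ₗ[k] V} (hθ : Otr U ρ θ) :
    Mxi ρ (L.comap (θ : V →ₗ[k] V)) := by
  obtain ⟨σ, h1, -⟩ := hθ
  refine ⟨?_, ?_, ?_⟩
  · intro g _ v hv
    change θ (ρ g v) ∈ L
    rw [h1]
    exact hL.inv _ trivial _ hv
  · intro h2
    apply hL.ne
    rw [eq_top_iff]
    intro v _
    have h3 : θ.symm v ∈ L.comap (θ : V →ₗ[k] V) := by rw [h2]; trivial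
    have h4 : θ (θ.symm v) ∈ L := h3
    rwa [LinearEquiv.apply_symm_apply] at h4
  · intro L' hL' hle
    have h2 : Ivt ρ ⊤ (L'.map (θ : V →ₗ[k] V)) := by
      rintro g _ _ ⟨v, hv, rfl⟩
      refine ⟨ρ (σ.symm g) v, hL' _ trivial v hv, ?_⟩
      change θ (ρ (σ.symm g) v) = ρ g (θ v)
      rw [h1, MulEquiv.apply_symm_apply]
    have h3 : L ≤ L'.map (θ : V →ₗ[k] V) := by
      intro v hv
      refine ⟨θ.symm v, hle ?_, LinearEquiv.apply_symm_apply θ v⟩
      change θ (θ.symm v) ∈ L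
      rwa [LinearEquiv.apply_symm_apply]
    have h5 : ∀ v, v ∈ L' ↔ θ v ∈ L'.map (θ : V →ₗ[k] V) := by
      intro v
      constructor
      · intro hv
        exact ⟨v, hv, rfl⟩
      · rintro ⟨w, hw, e⟩
        have := θ.injective e
        rwa [← this]
    rcases hL.max _ h2 h3 with h4 | h4
    · left
      ext v
      rw [h5, h4]
      rfl
    · right
      rw [eq_top_iff]
      intro v _
      rw [h5, h4]
      trivial

namespace Fam

variable (F : Fam cs h p T n X C)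
include F

variable [Finite Y] [∀ l, Finite (W l)]

variable [Fact p.Prime] [CharP k p]

omit F in
theorem good_insert_le [DecidableEq κ] {F : Fam cs h p T n X C} {ρ : Y →* Module.End k V} {s : Finset κ}
    {N Z : Submodule k V} (hN : Good F ρ s N) (hNZ : N ≤ Z) (hT : Ivt ρ T Z)
    (hc : ∀ l i, ∀ v ∈ Z, Ti (n l) (X l) ρ i v ∈ Z) {l : κ} (hl : l ∉ s) :
    ∃ N' : Submodule k V, Good F ρ (insert l s) N' ∧ N' ≤ Z := by
  obtain ⟨w, g, hg, h1, h2, h3, h4⟩ := exists_simul_le (F.rgd l) ρ hN.simp (hN.fix.trans (fx_mono ρ (U_le_Ut l)))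
    hNZ hT (hc l)
  have hgC : g ∈ C l := by
    refine (?_ : Subgroup.closure (Set.range (n l)) ≤ _) hg
    rw [Subgroup.closure_le]
    rintro _ ⟨i, rfl⟩
    exact F.n_mem l i
  refine ⟨_, ⟨h1, ?_, ?_⟩, h4⟩
  · intro v hv
    rw [mem_fx_Ut]
    intro m
    by_cases hm : m = l
    · subst hm
      exact h2 hv
    · obtain ⟨v', hv', rfl⟩ := hv
      intro u hu
      rw [F.comm_Tk ρ hm hgC (F.U_le m hu)]
      congr 1
      exact (mem_fx_Ut ρ).1 (hN.fix hv') m u hu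
  · intro m hm i v hv
    by_cases hml : m = l
    · subst hml
      exact h3 i v hv
    · have hms : m ∈ s := (Finset.mem_insert.1 hm).resolve_left hml
      obtain ⟨v', hv', rfl⟩ := hv
      rw [F.Ti_Tk ρ hml hgC]
      exact ⟨_, hN.st m hms i v' hv', rfl⟩

/-- **There is a good subspace of `Z`.** -/
theorem exists_good_le [FiniteDimensional k V] {Z : Submodule k V} (hZ0 : Z ≠ ⊥) (hZU : Z ≤ fx ρ (Ut cs h X))
    (hT : Ivt ρ T Z) (hc : ∀ l i, ∀ v ∈ Z, Ti (n l) (X l) ρ i v ∈ Z) :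
    ∃ N : Submodule k V, Good F ρ Finset.univ N ∧ N ≤ Z := by
  classical
  obtain ⟨L, ⟨hLN, hL0, hL⟩, hmin⟩ := (wellFounded_lt (α := Submodule k V)).has_min
    {L : Submodule k V | L ≤ Z ∧ L ≠ ⊥ ∧ Ivt ρ T L} ⟨_, le_rfl, hZ0, hT⟩
  have hgood : Good F ρ ∅ L := by
    refine ⟨⟨hL0, hL, ?_⟩, hLN.trans hZU, fun l hl => absurd hl (Finset.notMem_empty l)⟩
    intro L' hL' hi
    by_cases h1 : L' = ⊥
    · exact Or.inl h1
    · right
      by_contra hne
      exact hmin L' ⟨hL'.trans hLN, h1, hi⟩ (lt_of_le_of_ne hL' hne)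
  have key : ∀ s : Finset κ, ∃ N : Submodule k V, Good F ρ s N ∧ N ≤ Z := by
    intro s
    induction s using Finset.induction_on with
    | empty => exact ⟨L, hgood, hLN⟩
    | insert a s ha ih =>
      obtain ⟨N, hN, hNZ⟩ := ih
      exact good_insert_le hN hNZ hT hc ha
  exact key _

variable (hG : GGt cs h T X = ⊤) {𝓡 : Subgroup (V ≃ₗ[k] V)} (hO : ∀ θ ∈ 𝓡, Otr (Ut cs h X) ρ θ)
  (hirr : ∀ L : Submodule k V, Ivt ρ ⊤ L → (∀ θ ∈ 𝓡, ∀ v ∈ L, θ v ∈ L) → L = ⊥ ∨ L = ⊤)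
include hG hO hirr

/-- a nonzero vector of `V^U` is not killed by the fixed functionals of `U⁻` -/
theorem exists_pair [FiniteDimensional k V] {v : V} (hv : v ∈ fx ρ (Ut cs h X)) (hv0 : v ≠ 0) :
    ∃ φ ∈ fx (dualRep ρ) (UNt cs h X), φ v ≠ 0 := by
  classical
  -- a maximal invariant subspace without `v`
  obtain ⟨L, hL, hvL⟩ : ∃ L : Submodule k V, Mxi ρ L ∧ v ∉ L := by
    have h0 : ∃ L : Submodule k V, Mxi ρ L := by
      obtain ⟨L, ⟨h1, h2⟩, hmax⟩ := (wellFounded_gt (α := Submodule k V)).has_min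
        {L : Submodule k V | Ivt ρ ⊤ L ∧ L ≠ ⊤} ⟨⊥, by
          intro g _ w hw
          rw [Submodule.mem_bot] at hw ⊢
          rw [hw, map_zero], by
          intro h1
          apply hv0
          rw [← Submodule.mem_bot k, h1]
          trivial⟩
      refine ⟨L, h1, h2, fun L' hL' hle => ?_⟩
      by_cases h3 : L' = ⊤
      · exact Or.inr h3
      · left
        by_contra hne
        exact hmax L' ⟨hL', h3⟩ (lt_of_le_of_ne hle (Ne.symm hne))
    by_contra hcon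
    push Not at hcon
    have h1 : sInf {L : Submodule k V | Mxi ρ L} = ⊥ := by
      refine (hirr _ ?_ ?_).resolve_right ?_
      · intro g hg w hw
        rw [Submodule.mem_sInf] at hw ⊢
        intro L hL
        exact hL.inv g hg w (hw L hL)
      · intro θ hθ w hw
        rw [Submodule.mem_sInf] at hw ⊢
        intro L hL
        exact hw _ (Mxi.comap hL (hO θ hθ))
      · intro h2
        obtain ⟨L, hL⟩ := h0
        apply hL.ne
        rw [eq_top_iff, ← h2]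
        exact sInf_le hL
    apply hv0
    rw [← Submodule.mem_bot k, ← h1, Submodule.mem_sInf]
    exact hcon
  have hne : L.mkQ v ≠ 0 := by
    intro h1
    apply hvL
    rwa [Submodule.mkQ_apply, Submodule.Quotient.mk_eq_zero] at h1
  have hnt : Nontrivial (V ⧸ L) := nontrivial_of_ne _ _ hne
  have hirr2 : ∀ L' : Submodule k (V ⧸ L), Ivt (qRep ρ L hL.inv) (GGt cs h T X) L' → L' = ⊥ ∨ L' = ⊤ := by
    intro L' hL'
    have h1 : Ivt ρ ⊤ (L'.comap L.mkQ) := by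
      intro g _ w hw
      change L.mkQ (ρ g w) ∈ L'
      rw [← qRep_apply ρ L hL.inv]
      exact hL' g (by rw [hG]; trivial) _ hw
    have h2 : L ≤ L'.comap L.mkQ := by
      intro w hw
      change L.mkQ w ∈ L'
      have : L.mkQ w = 0 := by
        rw [Submodule.mkQ_apply, Submodule.Quotient.mk_eq_zero]
        exact hw
      rw [this]
      exact Submodule.zero_mem _
    rcases hL.max _ h1 h2 with h3 | h3
    · left
      rw [eq_bot_iff]
      intro w hw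
      obtain ⟨w, rfl⟩ := L.mkQ_surjective w
      have h4 : w ∈ L'.comap L.mkQ := hw
      rw [h3] at h4
      rw [Submodule.mem_bot, Submodule.mkQ_apply, Submodule.Quotient.mk_eq_zero]
      exact h4
    · right
      rw [eq_top_iff]
      intro w _
      obtain ⟨w, rfl⟩ := L.mkQ_surjective w
      have h4 : w ∈ L'.comap L.mkQ := by rw [h3]; trivial
      exact h4
  have hmain := F.main (qRep ρ L hL.inv) hirr2
  obtain ⟨φ, hφ, hφv⟩ := (F.eq_fx (qRep ρ L hL.inv) hirr2 hmain).2 (L.mkQ v) (by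
    intro u hu
    rw [qRep_apply, hv u hu]) hne
  refine ⟨φ.comp L.mkQ, ?_, hφv⟩
  rw [mem_fx_dual] at hφ ⊢
  intro u hu w
  change φ (L.mkQ (ρ u w)) = φ (L.mkQ w)
  rw [← qRep_apply ρ L hL.inv]
  exact hφ u hu _

/-- `k[U⁻] N ∩ V^U = N` for `N ≤ V^U` -/
theorem mem_of_Sp [FiniteDimensional k V] {N : Submodule k V} (hN : N ≤ fx ρ (Ut cs h X)) {v : V}
    (hv : v ∈ Sp ρ (UNt cs h X) N) (hvU : v ∈ fx ρ (Ut cs h X)) : v ∈ N := by
  have key : ∃ m ∈ N, ∀ φ ∈ fx (dualRep ρ) (UNt cs h X), φ (v - m) = 0 := by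
    clear hvU
    induction hv using Submodule.span_induction with
    | mem x hx =>
      obtain ⟨u, hu, m, hm, rfl⟩ := hx
      refine ⟨m, hm, fun φ hφ => ?_⟩
      rw [mem_fx_dual] at hφ
      rw [map_sub, hφ u hu, sub_self]
    | zero => exact ⟨0, N.zero_mem, fun φ _ => by rw [sub_zero, map_zero]⟩
    | add x y _ _ hx hy =>
      obtain ⟨m, hm, h1⟩ := hx
      obtain ⟨m', hm', h2⟩ := hy
      refine ⟨m + m', N.add_mem hm hm', fun φ hφ => ?_⟩
      have e : x + y - (m + m') = x - m + (y - m') := by abel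
      rw [e, map_add, h1 φ hφ, h2 φ hφ, add_zero]
    | smul c x _ hx =>
      obtain ⟨m, hm, h1⟩ := hx
      refine ⟨c • m, N.smul_mem c hm, fun φ hφ => ?_⟩
      rw [← smul_sub, map_smul, h1 φ hφ, smul_zero]
  obtain ⟨m, hm, h1⟩ := key
  by_cases h2 : v - m = 0
  · rw [sub_eq_zero.1 h2]; exact hm
  · exfalso
    obtain ⟨φ, hφ, h3⟩ := F.exists_pair ρ hG hO hirr (v := v - m) ((fx ρ (Ut cs h X)).sub_mem hvU (hN hm)) h2
    exact h3 (h1 φ hφ)

/-- `k[U⁻] N` is simple for a good `N` -/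
theorem Sp_simple [FiniteDimensional k V] {N : Submodule k V} (hN : Good F ρ Finset.univ N) {L : Submodule k V}
    (hL : Ivt ρ ⊤ L) (hLN : L ≤ Sp ρ (UNt cs h X) N) : L = ⊥ ∨ L = Sp ρ (UNt cs h X) N := by
  by_cases h0 : L = ⊥
  · exact Or.inl h0
  right
  obtain ⟨v, hv, hv0, hvU⟩ := exists_fixed ρ (F.isPGroup_Ut) L (fun u _ w hw => hL u trivial w hw) h0
  have h1 : L ⊓ fx ρ (Ut cs h X) = N := by
    refine (hN.simp.simple _ ?_ ?_).resolve_left ?_
    · intro w hw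
      exact F.mem_of_Sp ρ hG hO hirr hN.fix (hLN hw.1) hw.2
    · intro t ht w hw
      exact ⟨hL t trivial w hw.1, F.inv_fx ρ t ht w hw.2⟩
    · intro h2
      have h3 : v ∈ L ⊓ fx ρ (Ut cs h X) := ⟨hv, hvU⟩
      rw [h2, Submodule.mem_bot] at h3
      exact hv0 h3
  refine le_antisymm hLN ?_
  unfold Sp
  rw [Submodule.span_le]
  rintro _ ⟨u, -, m, hm, rfl⟩
  rw [← h1] at hm
  exact hL u trivial m hm.1

/-- **A subspace `0 ≠ Z ≤ V^U`, invariant under `T`, `𝓡` and all `T_i`, is `V^U`.** -/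
theorem fx_le_hecke [Finite V] {Z : Submodule k V} (hZ0 : Z ≠ ⊥) (hZU : Z ≤ fx ρ (Ut cs h X))
    (hT : Ivt ρ T Z) (hc : ∀ l i, ∀ v ∈ Z, Ti (n l) (X l) ρ i v ∈ Z) (hR : ∀ θ ∈ 𝓡, ∀ v ∈ Z, θ v ∈ Z) :
    fx ρ (Ut cs h X) ≤ Z := by
  classical
  have _ : FiniteDimensional k V := Module.Finite.of_finite
  obtain ⟨N, hN, hNZ⟩ := F.exists_good_le ρ hZ0 hZU hT hc
  set L := Sp ρ (UNt cs h X) N with hLdef
  have hL : Ivt ρ ⊤ L := by
    have := Ivt_of_le ρ hN.stable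
    rwa [hG] at this
  have hLθ : ∀ θ ∈ 𝓡, Ivt ρ ⊤ (L.map (θ : V →ₗ[k] V)) := by
    rintro θ hθ g _ _ ⟨v, hv, rfl⟩
    obtain ⟨σ, h1, -⟩ := hO θ hθ
    refine ⟨ρ (σ.symm g) v, hL _ trivial v hv, ?_⟩
    change θ (ρ (σ.symm g) v) = ρ g (θ v)
    rw [h1, MulEquiv.apply_symm_apply]
  have hLs : ∀ θ ∈ 𝓡, ∀ L', Ivt ρ ⊤ L' → L' ≤ L.map (θ : V →ₗ[k] V) → L' = ⊥ ∨ L' = L.map (θ : V →ₗ[k] V) := by
    intro θ hθ L' hL' hle
    obtain ⟨σ, h1, -⟩ := hO θ hθ
    have h2 : Ivt ρ ⊤ (L'.comap (θ : V →ₗ[k] V)) := by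
      intro g _ v hv
      change θ (ρ g v) ∈ L'
      rw [h1]
      exact hL' _ trivial _ hv
    have h3 : L'.comap (θ : V →ₗ[k] V) ≤ L := by
      intro v hv
      obtain ⟨w, hw, e⟩ := hle (hv : θ v ∈ L')
      have := θ.injective e
      rwa [← this]
    rcases F.Sp_simple ρ hG hO hirr hN h2 h3 with h4 | h4
    · left
      rw [eq_bot_iff]
      intro v hv
      obtain ⟨w, -, e⟩ := hle hv
      have h5 : w ∈ L'.comap (θ : V →ₗ[k] V) := by
        change θ w ∈ L'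
        rw [show θ w = v from e]
        exact hv
      rw [h4, Submodule.mem_bot] at h5
      rw [Submodule.mem_bot, ← e, h5, map_zero]
    · right
      refine le_antisymm hle ?_
      rintro _ ⟨w, hw, rfl⟩
      have h5 : w ∈ L'.comap (θ : V →ₗ[k] V) := by rw [h4]; exact hw
      exact h5
  have hLf : ∀ θ ∈ 𝓡, ∀ v ∈ L.map (θ : V →ₗ[k] V), v ∈ fx ρ (Ut cs h X) → v ∈ Z := by
    rintro θ hθ _ ⟨v, hv, rfl⟩ hvU
    obtain ⟨σ, h1, h2⟩ := hO θ hθ
    refine hR θ hθ v (hNZ (F.mem_of_Sp ρ hG hO hirr hN.fix hv ?_))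
    intro u hu
    apply θ.injective
    rw [h1]
    exact hvU _ ((h2 u).1 hu)
  -- the sum of the `θ L`
  have htop : (⨆ θ : 𝓡, L.map ((θ : V ≃ₗ[k] V) : V →ₗ[k] V)) = ⊤ := by
    refine (hirr _ ?_ ?_).resolve_left ?_
    · intro g hg v hv
      have h1 : (⨆ θ : 𝓡, L.map ((θ : V ≃ₗ[k] V) : V →ₗ[k] V)) ≤
          (⨆ θ : 𝓡, L.map ((θ : V ≃ₗ[k] V) : V →ₗ[k] V)).comap (ρ g) := by
        refine iSup_le fun θ => ?_
        intro w hw
        exact (le_iSup (fun θ : 𝓡 => L.map ((θ : V ≃ₗ[k] V) : V →ₗ[k] V)) θ) (hLθ θ.1 θ.2 g hg w hw)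
      exact h1 hv
    · intro η hη v hv
      have h1 : (⨆ θ : 𝓡, L.map ((θ : V ≃ₗ[k] V) : V →ₗ[k] V)) ≤
          (⨆ θ : 𝓡, L.map ((θ : V ≃ₗ[k] V) : V →ₗ[k] V)).comap (η : V →ₗ[k] V) := by
        refine iSup_le fun θ => ?_
        rintro _ ⟨w, hw, rfl⟩
        exact (le_iSup (fun θ : 𝓡 => L.map ((θ : V ≃ₗ[k] V) : V →ₗ[k] V)) (⟨η, hη⟩ * θ)) ⟨w, hw, rfl⟩
      exact h1 hv
    · intro h1
      apply hN.simp.ne
      rw [eq_bot_iff, ← h1]
      refine le_trans ?_ (le_iSup (fun θ : 𝓡 => L.map ((θ : V ≃ₗ[k] V) : V →ₗ[k] V)) 1)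
      intro v hv
      exact ⟨v, le_Sp ρ hv, rfl⟩
  have hfin : Finite 𝓡 := by
    have : Finite (V ≃ₗ[k] V) := Finite.of_injective (fun θ : V ≃ₗ[k] V => (θ : V → V)) DFunLike.coe_injective
    infer_instance
  have key : ∀ s : Finset 𝓡, ∀ v ∈ (⨆ θ ∈ s, L.map ((θ : V ≃ₗ[k] V) : V →ₗ[k] V)), v ∈ fx ρ (Ut cs h X) → v ∈ Z := by
    intro s
    induction s using Finset.induction_on with
    | empty =>
      intro v hv _
      have h0 : (⨆ θ ∈ (∅ : Finset 𝓡), L.map ((θ : V ≃ₗ[k] V) : V →ₗ[k] V)) = ⊥ := by simp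
      rw [h0, Submodule.mem_bot] at hv
      rw [hv]
      exact Z.zero_mem
    | insert a s ha ih =>
      intro v hv hvU
      rw [Finset.iSup_insert] at hv
      set P := (⨆ θ ∈ s, L.map ((θ : V ≃ₗ[k] V) : V →ₗ[k] V)) with hP
      have hPi : Ivt ρ ⊤ P := by
        intro g hg w hw
        have h1 : P ≤ P.comap (ρ g) := by
          rw [hP]
          refine iSup₂_le fun θ hθ => ?_
          intro w hw
          exact (le_iSup₂ (f := fun (θ : 𝓡) (_ : θ ∈ s) => L.map ((θ : V ≃ₗ[k] V) : V →ₗ[k] V)) θ hθ)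
            (hLθ θ.1 θ.2 g hg w hw)
        exact h1 hw
      rcases hLs a.1 a.2 (L.map ((a : V ≃ₗ[k] V) : V →ₗ[k] V) ⊓ P)
        (fun g hg w hw => ⟨hLθ a.1 a.2 g hg w hw.1, hPi g hg w hw.2⟩) inf_le_left with h1 | h1
      · obtain ⟨x, hx, y, hy, rfl⟩ := Submodule.mem_sup.1 hv
        have h2 : ∀ u ∈ Ut cs h X, ρ u x = x ∧ ρ u y = y := by
          intro u hu
          have h3 : ρ u x - x ∈ L.map ((a : V ≃ₗ[k] V) : V →ₗ[k] V) ⊓ P := by
            refine ⟨Submodule.sub_mem _ (hLθ a.1 a.2 u trivial x hx) hx, ?_⟩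
            have h4 := hvU u hu
            rw [map_add] at h4
            have h5 : ρ u x - x = y - ρ u y := by
              rw [sub_eq_sub_iff_add_eq_add, h4, add_comm]
            rw [h5]
            exact Submodule.sub_mem _ hy (hPi u trivial y hy)
          rw [h1, Submodule.mem_bot, sub_eq_zero] at h3
          refine ⟨h3, ?_⟩
          have h4 := hvU u hu
          rw [map_add, h3] at h4
          exact add_left_cancel h4
        exact Z.add_mem (hLf a.1 a.2 x hx fun u hu => (h2 u hu).1) (ih y hy fun u hu => (h2 u hu).2)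
      · have h2 : L.map ((a : V ≃ₗ[k] V) : V →ₗ[k] V) ≤ P := by
          rw [← h1]
          exact inf_le_right
        rw [sup_eq_right.2 h2] at hv
        exact ih v hv hvU
  intro v hv
  let _ : Fintype 𝓡 := Fintype.ofFinite _
  refine key Finset.univ v ?_ hv
  have h1 : (⨆ θ ∈ (Finset.univ : Finset 𝓡), L.map ((θ : V ≃ₗ[k] V) : V →ₗ[k] V)) = ⊤ := by
    rw [← htop]
    simp only [Finset.mem_univ, iSup_pos]
  rw [h1]
  trivial

/-- **If `φ : V' → V` is equivariant and `φ(V'^U) ≠ 0`, then `φ(V'^U) = V^U`.** -/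
theorem fx_le_map [Finite V] {V' : Type*} [AddCommGroup V'] [Module k V'] (ρ' : Y →* Module.End k V')
    (φ : V' →ₗ[k] V) (hφ : ∀ g v, φ (ρ' g v) = ρ g (φ v))
    (hR : ∀ θ ∈ 𝓡, ∀ v ∈ fx ρ' (Ut cs h X), θ (φ v) ∈ (fx ρ' (Ut cs h X)).map φ)
    (h0 : (fx ρ' (Ut cs h X)).map φ ≠ ⊥) : fx ρ (Ut cs h X) ≤ (fx ρ' (Ut cs h X)).map φ := by
  refine F.fx_le_hecke ρ hG hO hirr h0 ?_ ?_ ?_ ?_
  · rintro _ ⟨v, hv, rfl⟩ u hu
    rw [← hφ, hv u hu]
  · rintro t ht _ ⟨v, hv, rfl⟩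
    exact ⟨ρ' t v, F.inv_fx ρ' t ht v hv, hφ t v⟩
  · rintro l i _ ⟨v, hv, rfl⟩
    refine ⟨Ti (n l) (X l) ρ' i v, ?_, ?_⟩
    · rw [SetLike.mem_coe, mem_fx_Ut]
      intro m
      by_cases hm : m = l
      · subst hm
        exact Ti_fix (F.rgd m) ρ' ((mem_fx_Ut ρ').1 hv m) i
      · intro u hu
        have h1 := (mem_fx_Ut ρ').1 hv m u hu
        classical
        let _ := Fintype.ofFinite (X l (sr i))
        rw [Ti_apply, sg_def, map_sum]
        refine Finset.sum_congr rfl fun x _ => ?_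
        have hx : (x : Y) ∈ C l := F.X_le l _ (isRoot_sr _ _ i) x.2
        have h2 : u * ((x : Y) * n l i) = x * n l i * u :=
          F.comm m l hm u (F.U_le m hu) _ (mul_mem hx (F.n_mem l i))
        have h3 : ρ' u (ρ' (x : Y) (ρ' (n l i) v)) = ρ' (u * ((x : Y) * n l i)) v := by rw [rho_mul, rho_mul]
        rw [h3, h2, rho_mul, rho_mul, h1]
    · classical
      let _ := Fintype.ofFinite (X l (sr i))
      rw [Ti_apply, Ti_apply, sg_def, sg_def, map_sum]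
      refine Finset.sum_congr rfl fun x _ => ?_
      rw [hφ, hφ]
  · rintro θ hθ _ ⟨v, hv, rfl⟩
    exact hR θ hθ v hv

end Fam

end Cfsg.Agent.Omega.CR
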