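import Cfsg.Agent.Omega.CR.KDiag

/-!
# The K-side: `KDiag` for all components

`kDiag_all` : `KTable`, `KPhi` and `TAct` imply `KDiag` or `KExc`.
-/

set_option autoImplicit false
set_option linter.unusedSectionVars false

namespace Cfsg.Agent.Omega.CR

open Subgroup CoxeterSystem Cfsg.Agent.ChevalleyStructure.CoxeterGeom Cfsg.Agent.Tits.Roots Cfsg.Agent.Tits.Core
  Cfsg.Agent.Tits.RootComb Cfsg.Agent.Nodes.Comb Cfsg.Agent.Nodes.Reps Cfsg.Agent.Nodes.BNOf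
  Cfsg.Agent.Nodes.Bruhat Cfsg.Agent.KFacts.RgdCharP
  Cfsg.Agent.Omega.Lie.End Cfsg.Agent.Omega.Lie.End.Mov
open Cfsg.Agent.LieRecognition.BNCox (cA cA_apply)

/-- the root group datum of `PSL₂(F)` -/
theorem psl_rgd {F : Type} [Field F] [Finite F] [CharP F 2] {Y : Type*} [Group Y]
    (e : Matrix.ProjectiveSpecialLinearGroup (Fin 2) F ≃* Y) :
    ∃ (A : Fin 1 → Fin 1 → ℤ) (h : IsCartan (cA 1) A) (T : Subgroup Y) (n : Fin 1 → Y)
      (X : (Fin 1 → ℤ) → Subgroup Y), Finite (cA 1).Group ∧ RGD (cA 1).toCoxeterSystem h 2 T n X ∧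
        RGD.Sup X {x | IsRoot (cA 1).toCoxeterSystem h x} = ⊤ ∧ ∀ s ∈ T, ∀ t ∈ T, s * t = t * s := by
  have : Fact (Nat.Prime 2) := ⟨Nat.prime_two⟩
  have hW : Finite (cA 1).Group := Cfsg.Agent.Nodes.RootsA.finite_W (cA 1).toCoxeterSystem
    (Cfsg.Agent.Nodes.RootsA.isCartan 1)
  have R := Cfsg.Agent.Nodes.RGDTypeA.rgd_psl (cA 1).toCoxeterSystem (Cfsg.Agent.Nodes.RootsA.isCartan 1) (F := F)
    (p := 2)
  have hG := Cfsg.Agent.Nodes.RGDTypeA.G1_psl_eq_top (cA 1).toCoxeterSystem (Cfsg.Agent.Nodes.RootsA.isCartan 1)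
    (F := F)
  refine ⟨_, Cfsg.Agent.Nodes.RootsA.isCartan 1, _, _, _, hW,
    Nodes.RGDLib.rgd_map_of_injective R e.toMonoidHom e.injective, ?_, ?_⟩
  · have h1 := Cfsg.Agent.Nodes.RGDTypeA.G1_map (cA 1).toCoxeterSystem (Cfsg.Agent.Nodes.RootsA.isCartan 1)
      (fun x => (Cfsg.Agent.Nodes.RGDTypeA.X F x).map (Cfsg.Agent.Nodes.RGDTypeA.pr 1 F)) e.toMonoidHom
    rw [hG, ← MonoidHom.range_eq_map, MonoidHom.range_eq_top.2 e.surjective] at h1
    exact h1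
  · rintro _ ⟨_, ⟨s, hs, rfl⟩, rfl⟩ _ ⟨_, ⟨t, ht, rfl⟩, rfl⟩
    rw [← map_mul, ← map_mul, ← map_mul, ← map_mul, KFacts.Mult.TypeA.T_comm hs ht]

theorem conn_one {M : CoxeterMatrix (Fin 1)} : Conn M := by
  rintro J ⟨a, ha⟩ hJ
  exfalso
  apply hJ
  rw [Set.eq_univ_iff_forall]
  intro b
  rw [Subsingleton.elim b a]
  exact ha

section ltwo

open Cfsg.Agent.Omega.Lie.End.LTwoSide Cfsg.Agent.Omega.EH3.Rank1.LTwo
open scoped Matrix MatrixGroups Pointwise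

theorem kexc_of {K : Type*} [Group K] [Finite K] (hp : commutator K = ⊤) (hodd : Odd (Nat.card (center K)))
    (hL : IsLTwo (K ⧸ center K)) (S : Sylow 2 K) {T : Subgroup (MulAut K)} (h : TAct (S : Subgroup K) T)
    (hf : ¬ ∀ t ∈ T, t ≠ 1 → ∀ u ∈ (S : Subgroup K), t u = u → u = 1) : KExc K (S : Subgroup K) T := by
  obtain ⟨F, _, _, _, h4, ⟨e₀⟩⟩ := hL
  obtain ⟨e₁⟩ := psl_equiv (F := F)
  obtain ⟨e⟩ := exists_equiv hp hodd (e₀.trans e₁)
  obtain ⟨Q, hQ⟩ := sylow_eq e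
  obtain ⟨g, hg⟩ := MulAction.exists_smul_eq K Q S
  have hS : ∀ x, x ∈ (S : Subgroup K) ↔ ((MulAut.conj g⁻¹).trans e) x ∈ U F := by
    intro x
    have h1 : x ∈ (S : Subgroup K) ↔ g⁻¹ * x * g ∈ Q := by
      rw [← hg]
      show x ∈ MulAut.conj g • (Q : Subgroup K) ↔ _
      rw [Subgroup.mem_pointwise_smul_iff_inv_smul_mem]
      show ((MulAut.conj g)⁻¹ x ∈ (Q : Subgroup K)) ↔ _
      rw [MulAut.conj_inv_apply]
      rfl
    rw [h1, hQ]
    show e (g⁻¹ * x * g) ∈ U F ↔ e (g⁻¹ * x * g⁻¹⁻¹) ∈ U F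
    rw [inv_inv]
  simp only [not_forall] at hf
  obtain ⟨t₀, ht₀, h1, u₀, hu₀, hfx, hu1⟩ := hf
  obtain ⟨e'⟩ := psl_equiv (F := F)
  exact ⟨(co hS).card_three h ht₀ h1 hu₀ hu1 hfx, ⟨u₀, hu₀, hu1, fun t ht => fix_all h ht₀ h1 hu₀ hfx ht⟩,
    F, inferInstance, Fintype.ofFinite F, ringChar.eq_iff.2 inferInstance,
    ⟨((MulAut.conj g⁻¹).trans e).trans e'.symm⟩⟩

end ltwo

universe u

/-- **The K-side.** -/
theorem kDiag_all (tab : KTable.{u}) (phi : KPhi.{u}) (K : Type u) [Group K] [Finite K] (hperf : commutator K = ⊤)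
    (hsimple : IsSimpleGroup (K ⧸ center K)) (hodd : Odd (Nat.card (center K)))
    (hlie : IsLieTypeChar 2 (K ⧸ center K)) (S : Sylow 2 K) {Γ : Subgroup (MulAut K)}
    (hT : TAct (S : Subgroup K) Γ) : KDiag (S : Subgroup K) Γ ∨ KExc K (S : Subgroup K) Γ := by
  have : Fact (Nat.Prime 2) := ⟨Nat.prime_two⟩
  have hs : Function.Surjective (QuotientGroup.mk' (center K)) := QuotientGroup.mk'_surjective _
  have hker : (QuotientGroup.mk' (center K)).ker = center K := QuotientGroup.ker_mk' _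
  have hp : Odd (Nat.card (QuotientGroup.mk' (center K)).ker) := by rw [hker]; exact hodd
  rcases tab (K ⧸ center K) hsimple hlie with h1 | h1 | h1
  · left
    obtain ⟨l, M, A, h, T, n, X, hW, R, hG1, hr⟩ := h1
    refine kdiag_of (QuotientGroup.mk' (center K)) hker.le hp hs hperf hW hr.conn R hG1 hr.ab S hT ?_
    rintro ⟨i, hi⟩
    obtain ⟨a, b, hab⟩ := hr.two
    exact absurd ((hi a).trans (hi b).symm) hab
  · by_cases hf : ∀ t ∈ Γ, t ≠ 1 → ∀ u ∈ (S : Subgroup K), t u = u → u = 1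
    · left
      obtain ⟨F, _, _, _, h4, ⟨e₀⟩⟩ := h1
      obtain ⟨A, h, T, n, X, hW, R, hG1, hTc⟩ := psl_rgd e₀.symm
      exact kdiag_of (QuotientGroup.mk' (center K)) hker.le hp hs hperf hW conn_one R hG1 hTc
         S hT fun _ => LTwoSide.AT_eq hT hf
    · exact Or.inr (kexc_of hperf hodd h1 S hT hf)
  · exfalso
    obtain ⟨e⟩ := exists_equiv_map (QuotientGroup.mk' (center K)) hp S.2
    have h2 : DeadPhi.PhiAb ((S : Subgroup K).map (QuotientGroup.mk' (center K))) := phi _ h1 (S.mapSurjective hs)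
    exact DeadPhi.false_of_tact S.2 (h2.map e.symm) hT

end Cfsg.Agent.Omega.CR
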