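import Cfsg.Agent.Omega.CR.OfK
import Cfsg.Agent.Omega.CR.KDiagAll
import Cfsg.Agent.Omega.HOneQ.NoExc
import Cfsg.Agent.Omega.IIa4.Lay

/-!
# II.0h1, SPLIT, `q ≥ 4`: the K-side data `KD` of `E = ⟨A^H⟩`, and the Frattini property

* `exists_kd_bt` : `KD (EE V R i j) (S ⊓ EE V R i j) HE (AA V R i j) (TT τ) w` from LAYER, `KTable`, `KPhi`;
* `frattini` : `N(R i) = Ê (N(R i) ∩ N(V))`.
-/

set_option autoImplicit false
set_option linter.unusedSectionVars false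

namespace Cfsg.Agent.Omega.CR

open Subgroup Cfsg Cfsg.Agent.Omega.BTwo Cfsg.Agent.Omega.Lie Cfsg.Agent.Omega.Lie.Quot Cfsg.Agent.Omega.IIa4
open Cfsg.Agent.Omega.HOneQ Cfsg.Agent.Omega.HOneQ.ECen Cfsg.Agent.Omega.HOneQ.Fr
open Cfsg.Agent.Omega.Lie.End Cfsg.Agent.Omega.Lie.End.OfLay

universe u v w

variable {G : Type u} [Group G] {ι : Type w} {V : Subgroup G} {R : ι → Subgroup G} {i j : ι}
  {F : Type v} [Field F] {vv : F → F → G} {w1 w2 t : F → G}
  [Finite G] [Finite F] [CharP F 2] (tab : KTable.{u}) (phi : KPhi.{u}) (b : BTS V R) (h4 : 4 ≤ Nat.card F)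
  (hF : ∃ a : F, a ≠ 0 ∧ a ≠ 1) (c : Coord V R i j vv w1 w2) (τ : TorD V R i j vv t)
  (hodd : Odd ((normalizer (V : Set G)).relIndex (normalizer (R i : Set G))))
  {S : Subgroup (HQ (R i))} (I : SylI τ S) (l : Lay V R i j (TT τ) S)

theorem met_mcomp (b : BT V R) (hij : i ≠ j) {K : Subgroup (HQ (R i))} (hK : Met V R i j K) : MComp V R i j K := by
  obtain ⟨x, hx, hxK, h⟩ := hK.not_cen b hij
  push Not at h
  obtain ⟨y, hy, hne⟩ := h
  exact ⟨hK.1.1, hK.1.2, x, hx, y, hy, hne⟩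

include tab phi b h4 hF c hodd I l

/-- **The K-side data of `E`.** -/
theorem exists_kd_bt (hUD : ¬ UU V R j ≤ DD V R) : ∃ (HE : Subgroup (HQ (R i))) (w : HQ (R i)),
    KD (EE V R i j) (S ⊓ EE V R i j) HE (AA V R i j) (TT τ) w := by
  classical
  have hinn := l.innC
  have hoddC := l.odd
  let κ := {K : Subgroup (HQ (R i)) // Met V R i j K}
  have : Fintype κ := Fintype.ofFinite κ
  have hE : EE V R i j = ⨆ K : κ, (K : Subgroup (HQ (R i))) := by
    have h1 := E_eq b hF c τ hodd hUD I hinn hoddC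
    rw [iSup_subtype]
    exact h1
  have hM : ∀ K : κ, MComp V R i j K := fun K => met_mcomp b.toBT c.ne K.2
  have key : ∀ K : κ, KDiag (S.subgroupOf (K : Subgroup (HQ (R i)))) (Tact (TT τ) (K : Subgroup (HQ (R i)))) := by
    intro K
    have hh := l.hyp K (hM K)
    obtain ⟨P, hP⟩ := exists_sylow hh.toPre
    have hT := tact_of_lay b.toBT τ c.ne h4 l (hM K)
    have h1 := kDiag_all tab phi K (hM K).1.2.1.commutator_eq_top (hM K).1.2.2 (odd_center (pCore_HQ (R i)) (hM K).1)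
      (l.lie K (hM K)) P (Γ := Tact (TT τ) (K : Subgroup (HQ (R i)))) (by rw [hP]; exact hT)
    rw [hP] at h1
    exact h1.resolve_right (NoExc.no_exc b hF c τ hodd hUD I hinn hoddC K.2 (T_le hh.toPre))
  have h1 := exists_kd (H := HQ (R i)) (K := fun K : κ => (K : Subgroup (HQ (R i)))) (S := S) (T0 := TT τ)
    (fun K L hKL x hx y hy => Layer.comm_of_ne (hM K).1 (hM L).1 (fun e => hKL (Subtype.ext e)) hx hy)
    (fun K => T_le (l.hyp K (hM K)).toPre) (odd_TT b.toBT τ) key I.S2 (A₁ := AA V R i j)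
    (fun K h0 => by
      apply K.2.2
      rw [eq_bot_iff, ← h0]
      exact fun x hx => ⟨hx.1, I.AS hx.1, hx.2⟩)
    (fun t ht s hs => I.ST t ht s hs)
    (fun n hn hnT a ha => by
      rw [← hE] at hn
      exact norm_A I b.toBT c.ne hF (S' := S ⊓ EE V R i j) (le_inf I.AS AA_le_EE) inf_le_left hn hnT ha)
  rw [← hE] at h1
  obtain ⟨HE, w, h2, -⟩ := h1
  exact ⟨HE, w, h2⟩

/-- **(Fr)**: `N(R i) = Ê (N(R i) ∩ N(V))`, `Ê` the preimage of `E = ⟨A^H⟩` -/
theorem frattini (hZ : ∃ z ∈ BTwo.ZZ V R j, z ∉ DD V R) {g : G} (hg : g ∈ normalizer (R i : Set G)) :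
    ∃ x ∈ lift (R i) (EE V R i j), x * g ∈ normalizer (V : Set G) := by
  obtain ⟨HE, w, k⟩ := exists_kd_bt tab phi b h4 hF c τ hodd I l (hUD_of hZ)
  exact Fr.frattini b hF c τ hodd hZ I l.innC l.odd k hg

end Cfsg.Agent.Omega.CR
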