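import Cfsg.Agent.Omega.CR.Real
import Cfsg.Agent.Omega.HOneQ.KD
import Cfsg.Agent.Omega.HOneQ.SecCR

/-!
# The K-side data `HOneQ.Fr.KD` from commuting components with root group data

`D : Comps cs h 2 T n X C T0`: `E = ⨆ C l`, `S = Ut`, `HE = ⨆ T l`, `w` the longest element.
-/

set_option autoImplicit false
set_option linter.unusedSectionVars false

namespace Cfsg.Agent.Omega.CR

open Subgroup CoxeterSystem Cfsg.Agent.ChevalleyStructure.CoxeterGeom Cfsg.Agent.Tits.Roots Cfsg.Agent.Tits.Core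
  Cfsg.Agent.Tits.Exchange Cfsg.Agent.Nodes.Reps Cfsg.Agent.Nodes.BNOf Cfsg.Agent.Nodes.StabComb
  Cfsg.Agent.Nodes.Bruhat Cfsg.Agent.Nodes.OppDec Cfsg.Agent.Nodes.LeviDec Cfsg.Agent.Nodes.NormalForm
  Cfsg.Agent.KFacts.RgdOpp
open Cfsg.Agent.Omega.HOneQ Cfsg.Agent.Omega.HOneQ.Fr Cfsg.Agent.Omega.HOneQ.SecCR

universe u

variable {κ : Type*} [Fintype κ] {I W : κ → Type*} {Y : Type u} [∀ l, Fintype (I l)] [∀ l, DecidableEq (I l)]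
  [∀ l, Group (W l)] [Group Y] {M : ∀ l, CoxeterMatrix (I l)}
  {cs : ∀ l, CoxeterSystem (M l) (W l)} {A : ∀ l, I l → I l → ℤ} {h : ∀ l, IsCartan (M l) (A l)}
  {T : κ → Subgroup Y} {n : ∀ l, I l → Y} {X : ∀ l, (I l → ℤ) → Subgroup Y} {C : κ → Subgroup Y} {T0 : Subgroup Y}

namespace Comps

variable (D : Comps cs h 2 T n X C T0) [Finite Y] [∀ l, Finite (W l)]
include D

/-- **The K-side data.** -/
theorem kd (hC : ∀ l, C l ≤ RGD.Sup (X l) {x | IsRoot (cs l) (h l) x})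
    (hconn : ∀ l, ∀ J : Set (I l), J.Nonempty → J ≠ Set.univ → ∃ a ∈ J, ∃ b, b ∉ J ∧ M l a b ≠ 2)
    {A₁ : Subgroup Y} (hne : ∀ l, A₁ ⊓ RGD.Sup (X l) (RGD.Pos (cs l) (h l)) ≠ ⊥)
    (hU : ∀ u ∈ Ut cs h X, ∀ a ∈ A₁, u * a * u⁻¹ ∈ A₁) (hT : ∀ t ∈ ⨆ l, T l, ∀ a ∈ A₁, t * a * t⁻¹ ∈ A₁)
    (hcom : ∀ x ∈ ⨆ l, T l, ∀ t ∈ T0, x * t * x⁻¹ * t⁻¹ ∈ A₁) :
    ∃ w : Y, KD (⨆ l, C l) (Ut cs h X) (⨆ l, T l) A₁ T0 w := by
  have : Fact (Nat.Prime 2) := ⟨Nat.prime_two⟩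
  obtain ⟨w, hw, hwN, hwU⟩ := D.exists_w
  have hN : ∀ K : Subgroup Y, (∀ s ∈ Ut cs h X, w * s * w⁻¹ ∈ K) → UNt cs h X ≤ K := by
    intro K hK
    rw [← hwU]
    rintro _ ⟨u, hu, rfl⟩
    exact hK u hu
  refine ⟨w, ⟨D.cpl hC, hcom, hw, fun t ht => ?_, fun K hAK hK => D.gen hC hconn hne hU hT (hN K hK) hAK, ?_, ?_⟩⟩
  · have h1 := inv_mem (hwN.2 t⁻¹ (inv_mem ht))
    have e : (w⁻¹ * (t⁻¹ * w * t⁻¹⁻¹))⁻¹ = t⁻¹ * w⁻¹ * t * w := by group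
    rwa [e] at h1
  · intro V _ _ _ hexp
    have hG : GGt cs h (T0 ⊔ ⨆ m, T m) X = (⨆ l, C l) ⊔ T0 := by
      rw [D.GGt_eq fun l => (D.C_eq hC l).ge, sup_comm]
    exact secCR_of_fam D.fam hG le_rfl hexp
  · intro V _ _ _ hexp hirr L hL
    rcases subsingleton_or_nontrivial V with hV | hV
    · rw [eq_top_iff]
      intro v _
      rw [Subsingleton.elim v 0]
      exact zero_mem _
    refine D.fam.act_gen (fun v => by rw [two_nsmul]; exact hexp v) ?_ (L := L) ?_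
    · intro L' hL'
      rw [D.GGt_eq fun l => (D.C_eq hC l).ge] at hL'
      exact hirr L' (fun g hg x hx => hL' g (mem_sup_right hg) x hx) (fun g hg x hx => hL' g (mem_sup_left hg) x hx)
    · intro x hx u hu
      rw [← hwU] at hu
      obtain ⟨s, hs, rfl⟩ := hu
      exact hL s hs x hx

end Comps

end Cfsg.Agent.Omega.CR
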