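import Cfsg.Agent.Omega.CR.KDBT
import Cfsg.Agent.Omega.HOneQ.NVH

/-!
# The sockets `KDS K`, `FrH K`, `NVH K` of II.0h1 split, same type, `q ≥ 4`, from `KTable` and `KPhi`
-/

set_option autoImplicit false
set_option linter.unusedSectionVars false

namespace Cfsg.Agent.Omega.CR

open Subgroup Cfsg Cfsg.Agent.ZN Cfsg.Agent.Omega.MinPar Cfsg.Agent.Omega.Frame
open Cfsg.Agent.Omega.NatPair (NatMod)
open Cfsg.Agent.Omega.BTwo Cfsg.Agent.Omega.Lie Cfsg.Agent.Omega.Lie.Quot Cfsg.Agent.Omega.Lie.End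
open Cfsg.Agent.Omega.HOneQ

universe u

/-- **The K-side data.** -/
theorem kds_of (tab : KTable.{u}) (phi : KPhi.{u}) (K : Cls.{u}) : NVH.KDS K := by
  intro G _ _ _ S P g F _ _ _ N M h hl i j v w1 w2 t c τ S₁ hV hR
  exact exists_kd_bt tab phi h.bts h.four h.exists_ne c τ (h.odd i)
    (ECen.sylI_of_sylow h.bt τ (Crd.of_coord c) c.ne S₁ hV hR) (hl i j c.ne v w1 w2 t c τ S₁ hV hR)
    (Fr.hUD_of (h.exists_ZZ' c.ne))

/-- **The socket `NVH K`.** -/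
theorem nvH_of (tab : KTable.{u}) (phi : KPhi.{u}) (K : Cls.{u}) : HOne.SameCut.NVH K := NVH.nvH (kds_of tab phi K)

/-- **The socket `FrH K`.** -/
theorem frH_of (tab : KTable.{u}) (phi : KPhi.{u}) (K : Cls.{u}) : HOne.SameOf.FrH K := by
  intro G _ _ _ S P g F _ _ _ N M h hl i j hij x hx
  obtain ⟨v, w1, w2, c⟩ := h.exists_coord hij
  obtain ⟨t, τ⟩ := h.exists_torD c
  obtain ⟨S₁, hV, hR⟩ := h.exists_sylow i
  obtain ⟨e, he, h1⟩ := frattini tab phi h.bts h.four h.exists_ne c τ (h.odd i)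
    (ECen.sylI_of_sylow h.bt τ (Crd.of_coord c) c.ne S₁ hV hR) (hl i j c.ne v w1 w2 t c τ S₁ hV hR)
    (h.exists_ZZ' c.ne) hx
  exact ⟨e, he, h1⟩

end Cfsg.Agent.Omega.CR
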