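import Cfsg.Agent.Omega.CR.Com
import Cfsg.Agent.Omega.Lie.End.KSideMain
import Cfsg.Agent.KFacts.SLRow.Psl
import Cfsg.Agent.KFacts.Mult.TypeA

/-!
# The K-side: a root group datum on the component on which `T` acts diagonally, centralising the torus

* `KDiag S Γ` : a root group datum of `K` with `U = S`, `Γ` diagonal and trivial on the torus;
* `core` : for a group with a root group datum, `Γ` in the frame group;
* `kdiag_of` : for a perfect central extension of odd degree;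
* `kDiag_all` : `KTable`, `KPhi` and `TAct` imply `KDiag` or `KExc`.
-/

set_option autoImplicit false
set_option linter.unusedSectionVars false

namespace Cfsg.Agent.Omega.CR

open Subgroup CoxeterSystem Cfsg.Agent.ChevalleyStructure.CoxeterGeom Cfsg.Agent.Tits.Roots Cfsg.Agent.Tits.Core
  Cfsg.Agent.Tits.RootComb Cfsg.Agent.Nodes.Comb Cfsg.Agent.Nodes.Reps Cfsg.Agent.Nodes.BNOf
  Cfsg.Agent.Nodes.Bruhat Cfsg.Agent.Nodes.StabComb Cfsg.Agent.Nodes.LeviDec Cfsg.Agent.Nodes.RGDLift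
  Cfsg.Agent.KFacts.RgdAut Cfsg.Agent.KFacts.RgdDiag Cfsg.Agent.KFacts.RgdRigid Cfsg.Agent.KFacts.RgdCharP
  Cfsg.Agent.Omega.Lie.End Cfsg.Agent.Omega.Lie.End.Mov Cfsg.Agent.Omega.Lie.End.KTrFree

/-- **The root group datum of a component with the diagonal action.** -/
def KDiag {K : Type*} [Group K] (S : Subgroup K) (Γ : Subgroup (MulAut K)) : Prop :=
  ∃ (l : ℕ) (M : CoxeterMatrix (Fin l)) (A : Fin l → Fin l → ℤ) (h : IsCartan M A) (T : Subgroup K) (n : Fin l → K)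
    (X : (Fin l → ℤ) → Subgroup K), Finite M.Group ∧ Conn M ∧ RGD M.toCoxeterSystem h 2 T n X ∧
      RGD.Sup X {x | IsRoot M.toCoxeterSystem h x} = ⊤ ∧ RGD.Sup X (RGD.Pos M.toCoxeterSystem h) = S ∧
      ∀ γ ∈ Γ, Diag T X γ 1 ∧ ∀ t ∈ T, γ t = t

section core

variable {I W Y : Type*} [Fintype I] [DecidableEq I] [Group W] [Group Y] {M : CoxeterMatrix I}
  {cs : CoxeterSystem M W} {A : I → I → ℤ} {h : IsCartan M A} {T : Subgroup Y} {n : I → Y}
  {X : (I → ℤ) → Subgroup Y}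

/-- all positive roots are `sr i` if there is only one node -/
theorem U_one {i : I} (hi : ∀ j, j = i) : RGD.Sup X (RGD.Pos cs h) ≤ X (sr i) := by
  refine RGD.Sup_le fun x hx => ?_
  have h1 : x = sr i := hx.1.eq_sr hx.2 i fun k hk => absurd (hi k) hk
  rw [h1]

/-- **The action is diagonal and centralises the torus.** -/
theorem core [Finite W] [Finite Y] (R : RGD cs h 2 T n X) (hG1 : RGD.Sup X {x | IsRoot cs h x} = ⊤) (hc : Conn M)
    (hab : ∀ s ∈ T, ∀ t ∈ T, ∀ x : Y, (s * t) * x * (s * t)⁻¹ = (t * s) * x * (t * s)⁻¹)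
    (htr : ∀ i, (∀ x ∈ X (sr i), x * x = 1) → ∀ x ∈ X (sr i), ∀ y ∈ X (sr i), x ≠ 1 → y ≠ 1 →
      ∃ t ∈ T, t ∈ X (sr i) ⊔ X (-sr i) ∧ t * x * t⁻¹ = y)
    {Γ : Subgroup (MulAut Y)} (hT : TAct (RGD.Sup X (RGD.Pos cs h)) Γ) (hF : ∀ γ ∈ Γ, γ ∈ Frame cs h X)
    (hone : (∃ i : I, ∀ j, j = i) → RGD.Sup X (RGD.Pos cs h) ≤ AT (RGD.Sup X (RGD.Pos cs h)) Γ) :
    ∀ γ ∈ Γ, Diag T X γ 1 ∧ ∀ t ∈ T, γ t = t := by
  have H := Act.of_tact hF hT
  have hsqA : ∀ a ∈ AA (RGD.Sup X (RGD.Pos cs h)) Γ, a * a = 1 := by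
    rw [← Mov.AT_eq]
    exact hT.sq
  -- the two cases
  have key : (∀ i, ∀ x ∈ X (sr i), x * x = 1) ∧
      ∀ i, Mv X Γ i → X (sr i) ≤ AA (RGD.Sup X (RGD.Pos cs h)) Γ := by
    by_cases h2 : ∀ i : I, ∃ j, j ≠ i
    · exact ⟨fun i x hx => H.el R hG1 hc h2 hsqA hx, fun i hi => H.le_AA R hG1 hc h2 hi⟩
    · push Not at h2
      obtain ⟨i₀, hi₀⟩ := h2
      have h3 := hone ⟨i₀, hi₀⟩
      have h4 : ∀ i, X (sr i) ≤ AA (RGD.Sup X (RGD.Pos cs h)) Γ := by
        intro i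
        rw [← Mov.AT_eq]
        exact (RGD.le_Sup (S := RGD.Pos cs h) ⟨isRoot_sr cs h i, sr_nonneg i⟩).trans h3
      exact ⟨fun i x hx => hsqA x (h4 i hx), fun i _ => h4 i⟩
  obtain ⟨hsq, hle⟩ := key
  have nd : ∀ i, Com.Nd T X i := fun i => ⟨hsq i, htr i (hsq i)⟩
  have hTc := Com.abelian R hG1 hab nd
  intro γ hγ
  have hD := H.diag_one R hG1 hc hγ
  refine ⟨hD, Com.com R hTc hG1 hD fun i => ?_⟩
  by_cases hγ1 : γ = 1
  · exact Or.inl fun x _ => by rw [hγ1]; rfl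
  by_cases hi : Mv X Γ i
  · right
    obtain ⟨δ, hδ, e⟩ := hT.scal γ hγ 1 (one_mem Γ) hγ1
    refine ⟨nd i, δ, H.diag_one R hG1 hc hδ, fun x hx => ?_⟩
    have h1 : x ∈ AT (RGD.Sup X (RGD.Pos cs h)) Γ := by
      rw [Mov.AT_eq]
      exact hle i hi hx
    exact e x h1
  · left
    intro x hx
    by_contra h1
    exact hi ⟨γ, hγ, x, hx, h1⟩

end core

section lift

variable {l : ℕ} {M : CoxeterMatrix (Fin l)} {A : Fin l → Fin l → ℤ} {h : IsCartan M A}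

/-- conjugation of the data by an element of `S` -/
theorem KDiag.conj {K : Type*} [Group K] {S : Subgroup K} {Γ : Subgroup (MulAut K)} {v : K} (hv : v ∈ S)
    (hk : KDiag S (cG v Γ)) : KDiag S Γ := by
  obtain ⟨l, M, A, h, T, n, X, hW, hc, R, hG1, hU, hD⟩ := hk
  have hinj : Function.Injective (MulAut.conj v⁻¹).toMonoidHom := (MulAut.conj v⁻¹).injective
  have hmem : ∀ (P : Subgroup K) (y : K), y ∈ P.map (MulAut.conj v⁻¹).toMonoidHom ↔ v * y * v⁻¹ ∈ P := by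
    intro P y
    constructor
    · rintro ⟨x, hx, rfl⟩
      have e : v * ((MulAut.conj v⁻¹).toMonoidHom x) * v⁻¹ = x := by
        show v * (v⁻¹ * x * v⁻¹⁻¹) * v⁻¹ = x
        group
      rw [e]; exact hx
    · intro hy
      refine ⟨_, hy, ?_⟩
      show v⁻¹ * (v * y * v⁻¹) * v⁻¹⁻¹ = y
      group
  have hSup : ∀ S' : Set (Fin l → ℤ), RGD.Sup (fun x => (X x).map (MulAut.conj v⁻¹).toMonoidHom) S' =
      (RGD.Sup X S').map (MulAut.conj v⁻¹).toMonoidHom := by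
    intro S'
    unfold RGD.Sup
    rw [Subgroup.map_iSup]
  refine ⟨l, M, A, h, T.map (MulAut.conj v⁻¹).toMonoidHom, fun i => (MulAut.conj v⁻¹).toMonoidHom (n i),
    fun x => (X x).map (MulAut.conj v⁻¹).toMonoidHom, hW, hc, Nodes.RGDLib.rgd_map_of_injective R _ hinj, ?_, ?_, ?_⟩
  · rw [hSup, hG1, ← MonoidHom.range_eq_map, MonoidHom.range_eq_top]
    exact (MulAut.conj v⁻¹).surjective
  · rw [hSup, hU]
    ext y
    rw [hmem]
    constructor
    · intro hy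
      have e : y = v⁻¹ * (v * y * v⁻¹) * v := by group
      rw [e]
      exact mul_mem (mul_mem (inv_mem hv) hy) hv
    · intro hy
      exact mul_mem (mul_mem hv hy) (inv_mem hv)
  · intro γ hγ
    obtain ⟨D, hDt⟩ := hD (MulAut.conj v * γ * (MulAut.conj v)⁻¹) ⟨γ, hγ, rfl⟩
    have key : ∀ y, (MulAut.conj v * γ * (MulAut.conj v)⁻¹) (v * y * v⁻¹) = v * γ y * v⁻¹ := by
      intro y
      rw [cG_apply]
      congr 3
      group
    refine ⟨⟨fun y => ?_, fun i y => ?_, fun i y => ?_⟩, fun t ht => ?_⟩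
    · rw [hmem, hmem, ← key, D.tor]
    · rw [hmem, hmem, ← key, D.pos]
    · rw [hmem, hmem, ← key, D.neg]
    · have h1 := hDt _ ((hmem T t).1 ht)
      rw [key] at h1
      exact mul_left_cancel (mul_right_cancel h1)

universe u

/-- **Perfect central extensions of odd degree.** -/
theorem kdiag_of {K : Type u} [Group K] [Finite K] {Y : Type u} [Group Y] [Finite Y] (f : K →* Y)
    (hf : f.ker ≤ center K) (hp : Odd (Nat.card f.ker)) (hs : Function.Surjective f) (hperf : commutator K = ⊤)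
    {T : Subgroup Y} {n : Fin l → Y} {X : (Fin l → ℤ) → Subgroup Y} (hW : Finite M.Group) (hc : Conn M)
    (R : RGD M.toCoxeterSystem h 2 T n X) (hG1 : RGD.Sup X {x | IsRoot M.toCoxeterSystem h x} = ⊤)
    (hTc : ∀ s ∈ T, ∀ t ∈ T, s * t = t * s) (S : Sylow 2 K) {Γ : Subgroup (MulAut K)}
    (hT : TAct (S : Subgroup K) Γ) (hone : (∃ i : Fin l, ∀ j, j = i) → (S : Subgroup K) ≤ AT (S : Subgroup K) Γ) :
    KDiag (S : Subgroup K) Γ := by
  have : Fact (Nat.Prime 2) := ⟨Nat.prime_two⟩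
  set cs := M.toCoxeterSystem with hcs
  -- `U` is a Sylow subgroup of `Y`
  let Q : Sylow 2 Y :=
    { toSubgroup := RGD.Sup X (RGD.Pos cs h)
      isPGroup' := R.isPGroup_Upos
      is_maximal' := fun {P} hP hUP => by
        have hG : GG cs h T X = ⊤ := Cfsg.Agent.KFacts.RgdRigid.GG_eq_top hG1
        exact Cfsg.Agent.KFacts.RgdEx.eq_U R hUP (by rw [hG]; exact le_top) hP }
  obtain ⟨g, hg⟩ := MulAction.exists_smul_eq Y (S.mapSurjective hs) Q
  -- adjust `f`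
  obtain ⟨f', hf'⟩ : ∃ f' : K →* Y, ∀ x, f' x = g * f x * g⁻¹ :=
    ⟨(MulAut.conj g).toMonoidHom.comp f, fun x => rfl⟩
  have hker : f'.ker = f.ker := by
    ext x
    rw [MonoidHom.mem_ker, MonoidHom.mem_ker, hf']
    constructor
    · intro e
      have e1 : g⁻¹ * (g * f x * g⁻¹) * g = f x := by group
      rw [← e1, e]; group
    · intro e
      rw [e]; group
  have hf1 : f'.ker ≤ center K := by rw [hker]; exact hf
  have hp1 : (Nat.card f'.ker).Coprime 2 := by rw [hker]; exact Nat.coprime_two_right.2 hp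
  have hs1 : Function.Surjective f' := by
    intro y
    obtain ⟨x, hx⟩ := hs (g⁻¹ * y * g)
    exact ⟨x, by rw [hf', hx]; group⟩
  have hSmap : (S : Subgroup K).map f' = RGD.Sup X (RGD.Pos cs h) := by
    have h1 : ((g • S.mapSurjective hs : Sylow 2 Y) : Subgroup Y) = RGD.Sup X (RGD.Pos cs h) := by
      rw [hg]
    rw [← h1]
    ext y
    constructor
    · rintro ⟨x, hx, rfl⟩
      rw [hf']
      exact ⟨f x, ⟨x, hx, rfl⟩, rfl⟩
    · rintro ⟨_, ⟨x, hx, rfl⟩, rfl⟩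
      exact ⟨x, hx, hf' x⟩
  -- the lifted root group datum
  choose n' hn' using fun i => hs1 (n i)
  have R' := rgd_lift hf1 hp1 hs1 R hn'
  set T' := T.comap f' with hT'
  set X' : (Fin l → ℤ) → Subgroup K := fun x => lft 2 f' (X x) with hX'
  have hU : RGD.Sup X' (RGD.Pos cs h) = (S : Subgroup K) := by
    have h1 : lft 2 f' (RGD.Sup X (RGD.Pos cs h)) = RGD.Sup X' (RGD.Pos cs h) :=
      lft_iSup hf1 hp1 hs1 _ R.isPGroup_Upos
    rw [← h1]
    exact (eq_lft hf1 hp1 R.isPGroup_Upos S.2 hSmap).symm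
  have hG1' : RGD.Sup X' {x | IsRoot cs h x} = ⊤ := by
    refine eq_top_of_map hf1 hperf ?_
    rw [eq_top_iff, ← hG1]
    refine RGD.Sup_le fun x hx => ?_
    rw [← map_lft hf1 hp1 hs1 (R.pgrp' hx)]
    exact Subgroup.map_mono (RGD.le_Sup (X := X') (S := {x | IsRoot cs h x}) hx)
  -- transitivity
  have hab : ∀ s ∈ T', ∀ t ∈ T', ∀ x : K, (s * t) * x * (s * t)⁻¹ = (t * s) * x * (t * s)⁻¹ := by
    intro s hs' t ht' x
    have h1 : (t * s)⁻¹ * (s * t) ∈ f'.ker := by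
      rw [MonoidHom.mem_ker, map_mul, map_inv, map_mul, map_mul, hTc _ hs' _ ht', inv_mul_cancel]
    have h2 := Subgroup.mem_center_iff.1 (hf1 h1) x
    have e : s * t = t * s * ((t * s)⁻¹ * (s * t)) := by group
    obtain ⟨z, hz⟩ : ∃ z, z = (t * s)⁻¹ * (s * t) := ⟨_, rfl⟩
    rw [← hz] at h2 e
    rw [e]
    calc t * s * z * x * (t * s * z)⁻¹ = t * s * (z * x) * z⁻¹ * (t * s)⁻¹ := by group
      _ = t * s * (x * z) * z⁻¹ * (t * s)⁻¹ := by rw [h2]
      _ = _ := by group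
  have htr : ∀ i, (∀ x ∈ X' (sr i), x * x = 1) → ∀ x ∈ X' (sr i), ∀ y ∈ X' (sr i), x ≠ 1 → y ≠ 1 →
      ∃ t ∈ T', t ∈ X' (sr i) ⊔ X' (-sr i) ∧ t * x * t⁻¹ = y := by
    intro i hsq x hx y hy hx1 hy1
    have hri : IsRoot cs h (sr i) := isRoot_sr cs h i
    have hsqY := sq_of_lft hf1 hp1 hs1 (R.pgrp i) hsq
    have hxX : f' x ∈ X (sr i) := ((mem_lft hf1 (R.pgrp i)).1 hx).1
    have hyX : f' y ∈ X (sr i) := ((mem_lft hf1 (R.pgrp i)).1 hy).1
    obtain ⟨t, ht, htL, e⟩ := (one_of_rgd R hTc hsqY).tr hxX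
      (fun e => hx1 (eq_one_of_mem_lft hf1 hp1 (R.pgrp i) hx e)) hyX
      (fun e => hy1 (eq_one_of_mem_lft hf1 hp1 (R.pgrp i) hy e))
    have htL' : t ∈ (X' (sr i) ⊔ X' (-sr i)).map f' := by
      rw [Subgroup.map_sup]
      have e1 : (X' (sr i)).map f' = X (sr i) := map_lft hf1 hp1 hs1 (R.pgrp i)
      have e2 : (X' (-sr i)).map f' = X (-sr i) := map_lft hf1 hp1 hs1 (R.pgrp' hri.neg)
      rw [e1, e2]
      exact htL
    obtain ⟨t', ht'L, rfl⟩ := htL'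
    have ht'T : t' ∈ T' := ht
    refine ⟨t', ht'T, ht'L, ?_⟩
    refine lft_inj hf1 hp1 (R.pgrp i) (Com.TX R' hri ht'T hx) hy ?_
    rw [map_mul, map_mul, map_inv, e]
  -- the action
  rw [← hU] at hT hone ⊢
  have hGG : GG cs h T' X' = ⊤ := Cfsg.Agent.KFacts.RgdRigid.GG_eq_top hG1'
  obtain ⟨v, hv, hvF⟩ := exists_conj_frame R' hGG hT.odd hT.comm (fun γ hγ x => by
    refine ⟨fun h3 => ?_, hT.stab γ hγ x⟩
    have h4 := hT.stab γ⁻¹ (inv_mem hγ) _ h3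
    rwa [MulAut.inv_apply_self] at h4)
  have hT1 := hT.cG hv
  have hF : ∀ γ ∈ cG v Γ, γ ∈ Frame cs h X' := by
    rintro _ ⟨γ, hγ, rfl⟩
    exact hvF γ hγ
  refine KDiag.conj hv ⟨l, M, A, h, T', n', X', hW, hc, R', hG1', rfl, ?_⟩
  refine core R' hG1' hc hab htr hT1 hF fun h1 => ?_
  intro u hu
  rw [AT_cG_iff hv]
  exact hone h1 (mul_mem (mul_mem (inv_mem hv) hu) hv)

end lift

end Cfsg.Agent.Omega.CR
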