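import Mathlib

/-!
# Curtis–Richen, part 1: the operator `σ A = ∑_{a ∈ A} ρ a`, fixed vectors, eigenvectors
-/

set_option autoImplicit false

namespace Cfsg.Agent.Omega.CR

open Subgroup

variable {Y k V : Type*} [Group Y] [Finite Y] [Field k] [AddCommGroup V] [Module k V]
  (ρ : Y →* Module.End k V)

theorem rho_mul {Y k V : Type*} [Group Y] [Field k] [AddCommGroup V] [Module k V]
    (ρ : Y →* Module.End k V) (g h : Y) (v : V) : ρ (g * h) v = ρ g (ρ h v) := by
  rw [map_mul]; rfl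

theorem rho_one {Y k V : Type*} [Group Y] [Field k] [AddCommGroup V] [Module k V]
    (ρ : Y →* Module.End k V) (v : V) : ρ 1 v = v := by
  rw [map_one]; rfl

theorem rho_inv_rho {Y k V : Type*} [Group Y] [Field k] [AddCommGroup V] [Module k V]
    (ρ : Y →* Module.End k V) (g : Y) (v : V) : ρ g⁻¹ (ρ g v) = v := by
  rw [← rho_mul, inv_mul_cancel, rho_one]

theorem rho_rho_inv {Y k V : Type*} [Group Y] [Field k] [AddCommGroup V] [Module k V]
    (ρ : Y →* Module.End k V) (g : Y) (v : V) : ρ g (ρ g⁻¹ v) = v := by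
  rw [← rho_mul, mul_inv_cancel, rho_one]

theorem rho_ne_zero {Y k V : Type*} [Group Y] [Field k] [AddCommGroup V] [Module k V]
    (ρ : Y →* Module.End k V) (g : Y) {v : V} (hv : v ≠ 0) : ρ g v ≠ 0 := by
  intro h
  apply hv
  rw [← rho_inv_rho ρ g v, h, map_zero]

/-- `∑_{a ∈ A} ρ a` -/
noncomputable def sg (A : Subgroup Y) : Module.End k V :=
  letI := Fintype.ofFinite A
  ∑ a : A, ρ (a : Y)

theorem sg_def (A : Subgroup Y) [Fintype A] (v : V) : sg ρ A v = ∑ a : A, ρ (a : Y) v := by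
  unfold sg
  rw [LinearMap.sum_apply]
  exact Finset.sum_congr (by ext; simp) fun _ _ => rfl

theorem sg_bot (v : V) : sg ρ (⊥ : Subgroup Y) v = v := by
  classical
  let _ : Fintype (⊥ : Subgroup Y) := Fintype.ofFinite _
  rw [sg_def]
  rw [Finset.sum_eq_single (1 : (⊥ : Subgroup Y))]
  · rw [Subgroup.coe_one, rho_one]
  · intro b _ hb
    exact absurd (Subtype.ext (Subgroup.mem_bot.1 b.2)) hb
  · intro h
    exact absurd (Finset.mem_univ _) h

theorem rho_sg_of_mem (A : Subgroup Y) {a : Y} (ha : a ∈ A) (v : V) :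
    ρ a (sg ρ A v) = sg ρ A v := by
  classical
  let _ := Fintype.ofFinite A
  rw [sg_def, map_sum]
  refine Fintype.sum_equiv (Equiv.mulLeft (⟨a, ha⟩ : A)) _ _ fun b => ?_
  rw [← rho_mul]
  rfl

theorem sg_rho_of_mem (A : Subgroup Y) {a : Y} (ha : a ∈ A) (v : V) :
    sg ρ A (ρ a v) = sg ρ A v := by
  classical
  let _ := Fintype.ofFinite A
  rw [sg_def, sg_def]
  refine Fintype.sum_equiv (Equiv.mulRight (⟨a, ha⟩ : A)) _ _ fun b => ?_
  rw [← rho_mul]
  rfl

/-- conjugation -/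
theorem rho_sg (A : Subgroup Y) (g : Y) (v : V) :
    ρ g (sg ρ A v) = sg ρ (A.map (MulAut.conj g).toMonoidHom) (ρ g v) := by
  classical
  let _ := Fintype.ofFinite A
  let _ := Fintype.ofFinite (A.map (MulAut.conj g).toMonoidHom)
  rw [sg_def, sg_def, map_sum]
  refine Fintype.sum_bijective
    (fun a : A => (⟨g * a * g⁻¹, ⟨a, a.2, rfl⟩⟩ : A.map (MulAut.conj g).toMonoidHom))
    ⟨?_, ?_⟩ _ _ ?_
  · intro a b h
    have h1 : g * (a : Y) * g⁻¹ = g * (b : Y) * g⁻¹ := congrArg Subtype.val h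
    apply Subtype.ext
    exact mul_left_cancel (mul_right_cancel h1)
  · rintro ⟨_, a, ha, rfl⟩
    exact ⟨⟨a, ha⟩, rfl⟩
  · intro a
    change ρ g (ρ (a : Y) v) = ρ (g * a * g⁻¹) (ρ g v)
    rw [← rho_mul, ← rho_mul]
    congr 2
    group

/-- product decomposition -/
theorem sg_mul {A B C : Subgroup Y} (hB : B ≤ A) (hC : C ≤ A) (hBC : B ⊓ C = ⊥)
    (hA : ∀ a ∈ A, ∃ b ∈ B, ∃ c ∈ C, a = b * c) (v : V) :
    sg ρ A v = sg ρ B (sg ρ C v) := by
  classical
  let _ := Fintype.ofFinite A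
  let _ := Fintype.ofFinite B
  let _ := Fintype.ofFinite C
  rw [sg_def ρ A, sg_def ρ B, sg_def ρ C]
  simp only [map_sum]
  rw [← Fintype.sum_prod_type' (f := fun (b : B) (c : C) => ρ (b : Y) (ρ (c : Y) v))]
  symm
  refine Fintype.sum_bijective
    (fun x : B × C => (⟨x.1 * x.2, mul_mem (hB x.1.2) (hC x.2.2)⟩ : A)) ⟨?_, ?_⟩ _ _ ?_
  · rintro ⟨b, c⟩ ⟨b', c'⟩ h
    have h1 : (b : Y) * c = b' * c' := congrArg Subtype.val h
    have h2 : (b' : Y)⁻¹ * b = c' * (c : Y)⁻¹ := by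
      rw [inv_mul_eq_iff_eq_mul, ← mul_assoc, ← h1]; group
    have h3 : (b' : Y)⁻¹ * b ∈ B ⊓ C :=
      ⟨B.mul_mem (B.inv_mem b'.2) b.2, by rw [h2]; exact C.mul_mem c'.2 (C.inv_mem c.2)⟩
    rw [hBC, Subgroup.mem_bot] at h3
    have h4 : (b : Y) = b' := by
      rw [inv_mul_eq_one] at h3; exact h3.symm
    have h5 : (c : Y) = c' := by
      rw [h4] at h1; exact mul_left_cancel h1
    exact Prod.ext (Subtype.ext h4) (Subtype.ext h5)
  · rintro ⟨a, ha⟩
    obtain ⟨b, hb, c, hc, e⟩ := hA a ha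
    exact ⟨(⟨b, hb⟩, ⟨c, hc⟩), Subtype.ext e.symm⟩
  · intro x
    rw [← rho_mul]

/-- fixed vectors are killed when `p ∣ |A|` -/
theorem sg_fixed {p : ℕ} [CharP k p] {A : Subgroup Y} (hp : p ∣ Nat.card A) {v : V}
    (hv : ∀ a ∈ A, ρ a v = v) : sg ρ A v = 0 := by
  classical
  let _ := Fintype.ofFinite A
  rw [sg_def, Finset.sum_congr rfl fun (a : A) _ => hv a a.2, Finset.sum_const, Finset.card_univ,
    ← Nat.cast_smul_eq_nsmul k, ← Nat.card_eq_fintype_card, (CharP.cast_eq_zero_iff k p _).2 hp,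
    zero_smul]

/-- a `p`-group has a nonzero fixed vector in a nonzero invariant subspace, characteristic `p` -/
theorem exists_fixed {p : ℕ} [Fact p.Prime] [CharP k p] {A : Subgroup Y} (hA : IsPGroup p A)
    (N : Submodule k V) (hN : ∀ a ∈ A, ∀ v ∈ N, ρ a v ∈ N) (hN0 : N ≠ ⊥) :
    ∃ v ∈ N, v ≠ 0 ∧ ∀ a ∈ A, ρ a v = v := by
  classical
  obtain ⟨v₀, hv₀, hv0⟩ := (Submodule.ne_bot_iff N).1 hN0
  -- the additive group generated by the orbit
  let S : AddSubgroup V := AddSubgroup.closure (Set.range fun a : A => ρ (a : Y) v₀)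
  have hS : ∀ a ∈ A, ∀ v ∈ S, ρ a v ∈ S := by
    intro a ha v hv
    induction hv using AddSubgroup.closure_induction with
    | mem x hx =>
      obtain ⟨b, rfl⟩ := hx
      change ρ a (ρ (b : Y) v₀) ∈ S
      rw [← rho_mul]
      exact AddSubgroup.subset_closure ⟨⟨a, ha⟩ * b, rfl⟩
    | zero => rw [map_zero]; exact zero_mem _
    | add x y _ _ hx hy => rw [map_add]; exact add_mem hx hy
    | neg x _ hx => rw [map_neg]; exact neg_mem hx
  have hSN : ∀ v ∈ S, v ∈ N := by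
    intro v hv
    have : S ≤ N.toAddSubgroup := by
      rw [AddSubgroup.closure_le]
      rintro _ ⟨a, rfl⟩
      exact hN a a.2 v₀ hv₀
    exact this hv
  have hfin : Finite S := by
    have hp : ∀ x : V, p • x = 0 := by
      intro x
      rw [← Nat.cast_smul_eq_nsmul k, CharP.cast_eq_zero, zero_smul]
    have hp' : ∀ x ∈ Set.range (fun a : A => ρ (a : Y) v₀), IsOfFinAddOrder x := by
      intro x _
      exact isOfFinAddOrder_iff_nsmul_eq_zero.2 ⟨p, (Fact.out : p.Prime).pos, hp x⟩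
    let _ : Module (ZMod p) V := AddCommGroup.zmodModule (n := p) hp
    have h1 : (S : Set V) ⊆ (Submodule.span (ZMod p) (Set.range fun a : A => ρ (a : Y) v₀) : Set V) := by
      have : S ≤ (Submodule.span (ZMod p) (Set.range fun a : A => ρ (a : Y) v₀)).toAddSubgroup := by
        rw [AddSubgroup.closure_le]
        exact Submodule.subset_span
      exact this
    have h2 : Module.Finite (ZMod p)
        (Submodule.span (ZMod p) (Set.range fun a : A => ρ (a : Y) v₀)) :=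
      Module.Finite.span_of_finite _ (Set.finite_range _)
    have h3 : Finite (Submodule.span (ZMod p) (Set.range fun a : A => ρ (a : Y) v₀)) :=
      Module.finite_of_finite (ZMod p)
    exact Set.Finite.subset (Set.toFinite _) h1
  let _ : MulAction A S :=
    { smul := fun a v => ⟨ρ (a : Y) v, hS a a.2 v v.2⟩
      one_smul := fun v => Subtype.ext (rho_one ρ _)
      mul_smul := fun a b v => Subtype.ext (rho_mul ρ _ _ _) }
  have hsm : ∀ (a : A) (v : S), ((a • v : S) : V) = ρ (a : Y) v := fun _ _ => rfl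
  have hcard : p ∣ Nat.card S := by
    have h1 : (⟨ρ ((1 : A) : Y) v₀, AddSubgroup.subset_closure ⟨1, rfl⟩⟩ : S) ≠ 0 := by
      intro h
      have h2 : ρ ((1 : A) : Y) v₀ = 0 := congrArg Subtype.val h
      rw [Subgroup.coe_one, rho_one] at h2
      exact hv0 h2
    have h2 : addOrderOf (⟨ρ ((1 : A) : Y) v₀, AddSubgroup.subset_closure ⟨1, rfl⟩⟩ : S) = p := by
      apply addOrderOf_eq_prime _ h1
      apply Subtype.ext
      change p • (ρ ((1 : A) : Y) v₀) = 0
      rw [← Nat.cast_smul_eq_nsmul k, CharP.cast_eq_zero, zero_smul]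
    rw [← h2]
    exact addOrderOf_dvd_natCard _
  have hmod := hA.card_modEq_card_fixedPoints (α := S)
  have hdvd : p ∣ Nat.card (MulAction.fixedPoints A S) :=
    (Nat.modEq_zero_iff_dvd.1 ((hmod.symm.trans (Nat.modEq_zero_iff_dvd.2 hcard))))
  have h0 : (0 : S) ∈ MulAction.fixedPoints A S := by
    intro a
    exact Subtype.ext (map_zero _)
  have h1 : 1 < Nat.card (MulAction.fixedPoints A S) := by
    have : 0 < Nat.card (MulAction.fixedPoints A S) :=
      Nat.card_pos_iff.2 ⟨⟨⟨0, h0⟩⟩, inferInstance⟩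
    exact lt_of_lt_of_le (Fact.out : p.Prime).one_lt (Nat.le_of_dvd this hdvd)
  rw [Finite.one_lt_card_iff_nontrivial] at h1
  obtain ⟨⟨w, hw⟩, hne⟩ := exists_ne (⟨0, h0⟩ : MulAction.fixedPoints A S)
  refine ⟨w, hSN _ w.2, ?_, ?_⟩
  · intro h
    apply hne
    apply Subtype.ext
    exact Subtype.ext h
  · intro a ha
    have := hw ⟨a, ha⟩
    exact congrArg Subtype.val this

omit [Finite Y] in
/-- a commuting family has a common eigenvector -/
theorem exists_eigen [IsAlgClosed k] [FiniteDimensional k V] {T : Subgroup Y}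
    (hT : ∀ s ∈ T, ∀ t ∈ T, ∀ v, ρ s (ρ t v) = ρ t (ρ s v)) (N : Submodule k V)
    (hN : ∀ t ∈ T, ∀ v ∈ N, ρ t v ∈ N) (hN0 : N ≠ ⊥) :
    ∃ v ∈ N, v ≠ 0 ∧ ∃ χ : Y → k, ∀ t ∈ T, ρ t v = χ t • v := by
  classical
  -- a minimal nonzero T-stable subspace
  obtain ⟨L, ⟨hLN, hL0, hL⟩, hmin⟩ := (wellFounded_lt (α := Submodule k V)).has_min
    {L : Submodule k V | L ≤ N ∧ L ≠ ⊥ ∧ ∀ t ∈ T, ∀ v ∈ L, ρ t v ∈ L} ⟨N, le_rfl, hN0, hN⟩
  have key : ∀ t ∈ T, ∃ c : k, ∀ v ∈ L, ρ t v = c • v := by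
    intro t ht
    have : Nontrivial L := (Submodule.nontrivial_iff_ne_bot).2 hL0
    let f : Module.End k L := (ρ t).restrict (hL t ht)
    obtain ⟨c, hc⟩ := Module.End.exists_eigenvalue f
    let L' : Submodule k V := (Module.End.eigenspace f c).map L.subtype
    have hL'1 : L' ≤ L := by
      rintro _ ⟨x, -, rfl⟩
      exact x.2
    have hmem : ∀ v, v ∈ L' ↔ v ∈ L ∧ ρ t v = c • v := by
      intro v
      constructor
      · rintro ⟨x, hx, rfl⟩
        refine ⟨x.2, ?_⟩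
        have := Module.End.mem_eigenspace_iff.1 hx
        exact congrArg Subtype.val this
      · rintro ⟨hv, he⟩
        exact ⟨⟨v, hv⟩, Module.End.mem_eigenspace_iff.2 (Subtype.ext he), rfl⟩
    have hL'0 : L' ≠ ⊥ := by
      obtain ⟨x, hx⟩ := hc.exists_hasEigenvector
      intro h
      have h1 : (x : V) ∈ L' := ⟨x, hx.1, rfl⟩
      rw [h, Submodule.mem_bot] at h1
      exact hx.2 (Subtype.ext h1)
    have hL'2 : ∀ s ∈ T, ∀ v ∈ L', ρ s v ∈ L' := by
      intro s hs v hv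
      rw [hmem] at hv ⊢
      refine ⟨hL s hs v hv.1, ?_⟩
      rw [hT t ht s hs, hv.2, map_smul]
    have : L' = L := by
      by_contra hne
      exact hmin L' ⟨hL'1.trans hLN, hL'0, hL'2⟩ (lt_of_le_of_ne hL'1 hne)
    refine ⟨c, fun v hv => ?_⟩
    rw [← this, hmem] at hv
    exact hv.2
  choose! c hc using key
  obtain ⟨v, hv, hv0⟩ := (Submodule.ne_bot_iff L).1 hL0
  exact ⟨v, hLN hv, hv0, c, fun t ht => hc t ht v hv⟩

end Cfsg.Agent.Omega.CR
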