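import Cfsg.Agent.KFacts.RgdOpp
import Cfsg.Agent.Omega.CR.Sum

/-!
# The theorem of Curtis and Richen for root group data, part 2: the operators `T_w`

`R : RGD cs h p T n X`, `ρ : Y →* End V`, `V` a vector space over a field `k` of characteristic `p` (any field, e.g. `F_p`).

* `Simp ρ T N` : `N` is a simple `T`-invariant subspace;
* `Ti` : the operator `T_i = (∑_{x ∈ X_i} x) n_i`, `Tk` : the operator `T_w`;
* `exists_simul` : there is a simple `T`-invariant subspace of `V^U`, invariant under all `T_i`;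
* `n_mem` : then `n_i N ⊆ k[X_{-i}] N`;
* `n_stable` : then `n_i` stabilises `k[U⁻] N`.
-/

set_option autoImplicit false
set_option linter.unusedSectionVars false

namespace Cfsg.Agent.Omega.CR

open CoxeterSystem Cfsg.Agent.ChevalleyStructure.CoxeterGeom Cfsg.Agent.Tits.Roots Cfsg.Agent.Tits.Core
  Cfsg.Agent.Tits.Exchange Cfsg.Agent.Nodes.Reps Cfsg.Agent.Nodes.BNOf Cfsg.Agent.Nodes.StabComb
  Cfsg.Agent.Nodes.Bruhat Cfsg.Agent.Nodes.OppDec Cfsg.Agent.Nodes.LeviDec Cfsg.Agent.KFacts.RgdOpp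

variable {I W Y : Type*} [Fintype I] [DecidableEq I] [Group W] [Group Y] {M : CoxeterMatrix I}
  {cs : CoxeterSystem M W} {A : I → I → ℤ} {h : IsCartan M A} {p : ℕ} {T : Subgroup Y} {n : I → Y}
  {X : (I → ℤ) → Subgroup Y}

variable (R : RGD cs h p T n X)

include R

/-! ### rank one relations -/

theorem n_sq (i : I) : n i * n i ∈ T := by
  have := R.nsys.rel i i
  rwa [M.diagonal, pow_one] at this

theorem conj_n_T (i : I) {t : Y} (ht : t ∈ T) : n i * t * (n i)⁻¹ ∈ T :=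
  (Subgroup.mem_normalizer_iff.1 (R.nsys.norm i) t).1 ht

theorem conj_n_T' (i : I) {t : Y} (ht : t ∈ T) : (n i)⁻¹ * t * n i ∈ T := by
  have h4 := (Subgroup.mem_normalizer_iff.1 (inv_mem (R.nsys.norm i)) t).1 ht
  rwa [inv_inv] at h4

theorem conj_n_X (i : I) {x : Y} (hx : x ∈ X (sr i)) : n i * x * (n i)⁻¹ ∈ X (-sr i) := by
  have := R.conj_mem (rp_simple cs R.nsys i) (isRoot_sr cs h i) hx
  rwa [rep_simple_sr] at this

theorem conj_n_NX (i : I) {x : Y} (hx : x ∈ X (-sr i)) : n i * x * (n i)⁻¹ ∈ X (sr i) := by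
  have := R.conj_mem (rp_simple cs R.nsys i) (isRoot_sr cs h i).neg hx
  rwa [map_neg, rep_simple_sr, neg_neg] at this

theorem conj_n_X' (i : I) {x : Y} (hx : x ∈ X (sr i)) : (n i)⁻¹ * x * n i ∈ X (-sr i) := by
  have := R.conj_mem' (rp_simple cs R.nsys i) (isRoot_sr cs h i) hx
  rwa [inv_simple, rep_simple_sr] at this

theorem n_mul (i : I) {y : Y} (hy : y ∈ X (-sr i)) (hy1 : y ≠ 1) :
    ∃ y' ∈ X (-sr i), ∃ t ∈ T, ∃ b ∈ X (sr i), n i * y = y' * t * b := by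
  obtain ⟨a, ha, t, ht, b, hb, e⟩ := R.rk1 i y hy hy1
  refine ⟨n i * a * (n i)⁻¹, conj_n_X R i ha, n i * t * (n i)⁻¹ * (n i * n i),
    mul_mem (conj_n_T R i ht) (n_sq R i), b, hb, ?_⟩
  rw [e]; group

theorem mul_n (i : I) {x : Y} (hx : x ∈ X (sr i)) (hx1 : x ≠ 1) :
    ∃ y ∈ X (-sr i), ∃ t ∈ T, ∃ b ∈ X (sr i), x * n i = y * t * b := by
  have h1 : (n i)⁻¹ * x * n i ≠ 1 := by
    intro h
    apply hx1
    have : x = n i * ((n i)⁻¹ * x * n i) * (n i)⁻¹ := by group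
    rw [this, h]; group
  obtain ⟨y, hy, t, ht, b, hb, e⟩ := n_mul R i (conj_n_X' R i hx) h1
  refine ⟨y, hy, t, ht, b, hb, ?_⟩
  rw [← e]; group

theorem n_mul_n (i : I) {x : Y} (hx : x ∈ X (sr i)) (hx1 : x ≠ 1) :
    ∃ a ∈ X (sr i), ∃ t ∈ T, ∃ b ∈ X (sr i), n i * x * n i = a * n i * t * b := by
  obtain ⟨y, hy, t, ht, b, hb, e⟩ := mul_n R i hx hx1
  refine ⟨n i * y * (n i)⁻¹, conj_n_NX R i hy, t, ht, b, hb, ?_⟩
  rw [mul_assoc (n i), e]; group

/-! ### simple `T`-invariant subspaces -/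

section Rep

variable {k V : Type*} [Field k] [AddCommGroup V] [Module k V] (ρ : Y →* Module.End k V)

omit R in
/-- invariance -/
def Ivt (ρ : Y →* Module.End k V) (B : Subgroup Y) (N : Submodule k V) : Prop := ∀ t ∈ B, ∀ v ∈ N, ρ t v ∈ N

omit R in
/-- the fixed vectors -/
def fx (ρ : Y →* Module.End k V) (B : Subgroup Y) : Submodule k V where
  carrier := {v | ∀ b ∈ B, ρ b v = v}
  zero_mem' := fun b _ => map_zero _
  add_mem' := fun {x y} hx hy b hb => by rw [map_add, hx b hb, hy b hb]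
  smul_mem' := fun c x hx b hb => by rw [map_smul, hx b hb]

omit R in
theorem mem_fx {B : Subgroup Y} {v : V} : v ∈ fx ρ B ↔ ∀ b ∈ B, ρ b v = v := Iff.rfl

omit R in
/-- `N` is a simple `T`-invariant subspace -/
structure Simp (ρ : Y →* Module.End k V) (T : Subgroup Y) (N : Submodule k V) : Prop where
  ne : N ≠ ⊥
  inv : Ivt ρ T N
  simple : ∀ L ≤ N, Ivt ρ T L → L = ⊥ ∨ L = N

omit R in
theorem Simp.map {T : Subgroup Y} {N : Submodule k V} (hN : Simp ρ T N) (θ : Module.End k V)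
    (h1 : ∀ t ∈ T, ∃ t' ∈ T, ∀ v ∈ N, ρ t (θ v) = θ (ρ t' v))
    (h2 : ∀ t ∈ T, ∃ t' ∈ T, ∀ v ∈ N, θ (ρ t v) = ρ t' (θ v)) (h0 : N.map θ ≠ ⊥) : Simp ρ T (N.map θ) where
  ne := h0
  inv := by
    rintro t ht _ ⟨v, hv, rfl⟩
    obtain ⟨t', ht', h3⟩ := h1 t ht
    rw [h3 v hv]
    exact ⟨_, hN.inv t' ht' v hv, rfl⟩
  simple := by
    intro L hL hLi
    have h3 : Ivt ρ T (N ⊓ L.comap θ) := by
      rintro t ht v ⟨hv, hv'⟩
      obtain ⟨t', ht', h4⟩ := h2 t ht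
      refine ⟨hN.inv t ht v hv, ?_⟩
      change θ (ρ t v) ∈ L
      rw [h4 v hv]
      exact hLi t' ht' _ hv'
    have h4 : ∀ w ∈ L, ∃ v ∈ N ⊓ L.comap θ, θ v = w := by
      intro w hw
      obtain ⟨v, hv, rfl⟩ := hL hw
      exact ⟨v, ⟨hv, hw⟩, rfl⟩
    rcases hN.simple _ inf_le_left h3 with h5 | h5
    · left
      rw [eq_bot_iff]
      intro w hw
      obtain ⟨v, hv, rfl⟩ := h4 w hw
      rw [h5, Submodule.mem_bot] at hv
      rw [hv, map_zero]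
      exact Submodule.zero_mem _
    · right
      refine le_antisymm hL ?_
      rintro _ ⟨v, hv, rfl⟩
      rw [← h5] at hv
      exact hv.2

variable [Finite Y]

omit R in
/-- the operator `T_i` -/
noncomputable def Ti (n : I → Y) (X : (I → ℤ) → Subgroup Y) (ρ : Y →* Module.End k V) (i : I) : Module.End k V :=
  sg ρ (X (sr i)) * ρ (n i)

omit R in
theorem Ti_apply (i : I) (v : V) : Ti n X ρ i v = sg ρ (X (sr i)) (ρ (n i) v) := rfl

theorem rho_Ti (i : I) {t : Y} (ht : t ∈ T) (v : V) :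
    ρ t (Ti n X ρ i v) = Ti n X ρ i (ρ ((n i)⁻¹ * t * n i) v) := by
  rw [Ti_apply, Ti_apply]
  have h1 : (X (sr i)).map (MulAut.conj t).toMonoidHom = X (sr i) := R.tor _ (isRoot_sr cs h i) t ht
  rw [rho_sg, h1, ← rho_mul, ← rho_mul]
  congr 3
  group

theorem Ti_rho (i : I) {t : Y} (ht : t ∈ T) (v : V) :
    Ti n X ρ i (ρ t v) = ρ (n i * t * (n i)⁻¹) (Ti n X ρ i v) := by
  rw [rho_Ti R ρ i (conj_n_T R i ht)]
  congr 3
  group

theorem Simp.Ti {N : Submodule k V} (hN : Simp ρ T N) (i : I) (h0 : N.map (Ti n X ρ i) ≠ ⊥) :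
    Simp ρ T (N.map (CR.Ti n X ρ i)) :=
  hN.map ρ _ (fun _ ht => ⟨_, conj_n_T' R i ht, fun v _ => rho_Ti R ρ i ht v⟩)
    (fun _ ht => ⟨_, conj_n_T R i ht, fun v _ => Ti_rho R ρ i ht v⟩) h0

/-- `T_i` preserves `V^U` -/
theorem Ti_fix {v : V} (hv : v ∈ fx ρ (RGD.Sup X (RGD.Pos cs h))) (i : I) :
    Ti n X ρ i v ∈ fx ρ (RGD.Sup X (RGD.Pos cs h)) := by
  rw [mem_fx]
  have key : ∀ g ∈ RGD.Sup X (RGD.PosNe cs h i), ρ g (Ti n X ρ i v) = Ti n X ρ i v := by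
    intro g hg
    classical
    let _ := Fintype.ofFinite (X (sr i))
    rw [Ti_apply, sg_def, map_sum]
    refine Finset.sum_congr rfl fun x _ => ?_
    have h1 : (x : Y)⁻¹ * g * x ∈ RGD.Sup X (RGD.PosNe cs h i) := by
      have := R.X_le_normalizer_V i x.2
      have h2 := (Subgroup.mem_normalizer_iff.1 (inv_mem this) g).1 hg
      rwa [inv_inv] at h2
    have h2 : (n i)⁻¹ * ((x : Y)⁻¹ * g * x) * n i ∈ RGD.Sup X (RGD.PosNe cs h i) := by
      have := R.cj_n_V i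
      rw [← this, mem_cj] at h1
      exact h1
    have h3 : (n i)⁻¹ * ((x : Y)⁻¹ * g * x) * n i ∈ RGD.Sup X (RGD.Pos cs h) :=
      RGD.Sup_mono (S := RGD.PosNe cs h i) (S' := RGD.Pos cs h) (fun z hz => ⟨hz.1, hz.2.1⟩) h2
    have h4 : g * ((x : Y) * n i) = (x : Y) * n i * ((n i)⁻¹ * ((x : Y)⁻¹ * g * x) * n i) := by group
    rw [← rho_mul ρ (x : Y), ← rho_mul, h4, rho_mul, hv _ h3]
  let K : Subgroup Y :=
    { carrier := {g | ρ g (Ti n X ρ i v) = Ti n X ρ i v}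
      one_mem' := rho_one ρ _
      mul_mem' := by
        intro a b (ha : ρ a _ = _) (hb : ρ b _ = _)
        change ρ (a * b) _ = _
        rw [rho_mul, hb, ha]
      inv_mem' := by
        intro a (ha : ρ a _ = _)
        change ρ a⁻¹ _ = _
        conv_lhs => rw [← ha]
        exact rho_inv_rho ρ a _ }
  have hK : RGD.Sup X (RGD.Pos cs h) ≤ K := by
    rw [R.Upos_eq i]
    exact sup_le (fun a ha => rho_sg_of_mem ρ _ ha _) key
  exact fun u hu => hK hu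

theorem X_fix {v : V} (hv : v ∈ fx ρ (RGD.Sup X (RGD.Pos cs h))) (i : I) {x : Y} (hx : x ∈ X (sr i)) :
    ρ x v = v := hv x (RGD.le_Sup (S := RGD.Pos cs h) ⟨isRoot_sr cs h i, sr_nonneg i⟩ hx)

theorem p_dvd [Fact p.Prime] (i : I) : p ∣ Nat.card (X (sr i)) := by
  obtain ⟨u, hu, hu1⟩ := exists_ne_one R i
  have h1 : 1 < Nat.card (X (sr i)) := by
    rw [Finite.one_lt_card_iff_nontrivial]
    exact nontrivial_of_ne (⟨u, hu⟩ : ↥(X (sr i))) 1 (fun h => hu1 (congrArg Subtype.val h))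
  obtain ⟨j, hj⟩ := (IsPGroup.iff_card (p := p)).1 (R.pgrp i)
  rw [hj] at h1 ⊢
  have : j ≠ 0 := by
    rintro rfl
    simp at h1
  exact dvd_pow_self p this

/-- `T_i (T_i N) ⊆ T_i N` for a `T`-invariant `N ⊆ V^U` -/
theorem Ti_sq [Fact p.Prime] [CharP k p] {N : Submodule k V} (hN : Ivt ρ T N)
    (hU : N ≤ fx ρ (RGD.Sup X (RGD.Pos cs h))) (i : I) {v : V} (hv : v ∈ N) :
    ∃ v' ∈ N, Ti n X ρ i (Ti n X ρ i v) = Ti n X ρ i v' := by
  classical
  let _ := Fintype.ofFinite (X (sr i))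
  have key : ∀ x : X (sr i), ∃ v' ∈ N, sg ρ (X (sr i)) (ρ (n i) (ρ (x : Y) (ρ (n i) v))) = Ti n X ρ i v' := by
    intro x
    by_cases hx1 : (x : Y) = 1
    · refine ⟨0, N.zero_mem, ?_⟩
      rw [hx1, rho_one, ← rho_mul ρ (n i), map_zero, sg_fixed ρ (p_dvd R i) fun a ha => X_fix R ρ (hU
        (hN _ (n_sq R i) v hv)) i ha]
    · obtain ⟨a, ha, t, ht, b, hb, e⟩ := n_mul_n R i x.2 hx1
      refine ⟨ρ t v, hN t ht v hv, ?_⟩
      rw [← rho_mul, ← rho_mul, e, rho_mul, X_fix R ρ (hU hv) i hb, rho_mul, rho_mul, sg_rho_of_mem ρ _ ha,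
        Ti_apply]
  choose c hc hc' using key
  refine ⟨∑ x, c x, N.sum_mem fun x _ => hc x, ?_⟩
  rw [map_sum]
  have h1 : Ti n X ρ i (Ti n X ρ i v) =
      ∑ x : X (sr i), sg ρ (X (sr i)) (ρ (n i) (ρ (x : Y) (ρ (n i) v))) := by
    rw [Ti_apply ρ i (Ti n X ρ i v), Ti_apply ρ i v, sg_def ρ (X (sr i)) (ρ (n i) v), map_sum, map_sum]
  rw [h1]
  exact Finset.sum_congr rfl fun x _ => hc' x

/-! ### the operators `T_w` -/

omit R in
/-- `T_w = (∑_{u ∈ U_w} u) g`, `g` over `w` -/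
noncomputable def Tk (cs : CoxeterSystem M W) (h : IsCartan M A) (X : (I → ℤ) → Subgroup Y)
    (ρ : Y →* Module.End k V) (w : W) (g : Y) : Module.End k V :=
  sg ρ (RGD.Sup X (RGD.Inv cs h w)) * ρ g

omit R in
theorem Tk_apply (w : W) (g : Y) (v : V) :
    Tk cs h X ρ w g v = sg ρ (RGD.Sup X (RGD.Inv cs h w)) (ρ g v) := rfl

omit R [Finite Y] in
theorem rep_simple_mul_inv (w : W) (i : I) : rep cs h (cs.simple i * w)⁻¹ (sr i) = - rep cs h w⁻¹ (sr i) := by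
  rw [mul_inv_rev, cs.inv_simple, rep_mul_apply, rep_simple_sr, map_neg]

theorem Tk_up [Finite W] {w : W} {i : I} (hi : 0 ≤ rep cs h w⁻¹ (sr i)) (g : Y) (v : V) :
    Ti n X ρ i (Tk cs h X ρ w g v) = Tk cs h X ρ (cs.simple i * w) (n i * g) v := by
  rw [Ti_apply, Tk_apply, Tk_apply]
  have hneg : rep cs h (cs.simple i * w)⁻¹ (sr i) ≤ 0 := by
    rw [rep_simple_mul_inv]; exact neg_nonpos.2 hi
  have hww : cs.simple i * (cs.simple i * w) = w := by
    rw [← mul_assoc, cs.simple_mul_simple_self, one_mul]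
  have hss : ∀ y : I → ℤ, rep cs h (cs.simple i) (rep cs h (cs.simple i) y) = y := by
    intro y
    rw [← rep_mul_apply, cs.simple_mul_simple_self, map_one, Module.End.one_apply]
  have hiff : ∀ x, x ∈ RGD.Inv cs h (cs.simple i * w) ↔
      x = sr i ∨ rep cs h (cs.simple i) x ∈ RGD.Inv cs h w := by
    intro x
    rw [RGD.mem_inv_iff hneg, hww]
  have hne : ∀ z ∈ RGD.Inv cs h w, z ≠ sr i := by
    rintro z ⟨hz, h0, h1⟩ rfl
    exact ((isRoot_sr cs h i).act w⁻¹).not_pos_neg hi h1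
  rw [rho_sg, ← rho_mul]
  symm
  refine sg_mul ρ (RGD.le_Sup ((hiff _).2 (Or.inl rfl))) ?_ ?_ ?_ _
  · -- the conjugate is in
    refine cj_Sup_le R (rp_simple cs R.nsys i) (fun x hx => hx.1) ?_
    intro x hx
    rw [hiff]
    right
    rw [hss]; exact hx
  · rw [eq_bot_iff]
    rintro u ⟨hu, hu'⟩
    rw [Subgroup.mem_bot]
    refine eq_one_of_mem_PosNe R hu ?_
    refine cj_Sup_le R (rp_simple cs R.nsys i) (fun x (hx : x ∈ RGD.Inv cs h w) => hx.1) ?_ hu'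
    intro x hx
    refine ⟨hx.1.act _, hx.1.simple_nonneg hx.2.1 i (hne x hx), ?_⟩
    intro he
    have h1 : x = - sr i := by rw [← hss x, he, rep_simple_sr]
    have h2 := hx.2.1
    rw [h1] at h2
    exact (isRoot_sr cs h i).neg.not_pos_neg h2 (neg_nonpos.2 (sr_nonneg i))
  · intro a ha
    have hS : ∀ x ∈ RGD.Inv cs h (cs.simple i * w), IsRoot cs h x ∧ 0 ≤ x := fun x hx => ⟨hx.1, hx.2.1⟩
    obtain ⟨r, hr, u, hu, e⟩ := exists_mul R hS ((hiff _).2 (Or.inl rfl)) (fun y hy hyi z hz =>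
      ⟨hz.1, RGD.nonneg_of_btwn (sr_nonneg i) hy.2.1 hz, RGD.nonpos_of_btwn hneg hy.2.2 (hz.act _)⟩)
      (inv_mem ha)
    refine ⟨u⁻¹, inv_mem hu, r⁻¹, inv_mem ?_, ?_⟩
    · have hle : RGD.Sup X (RGD.Inv cs h (cs.simple i * w) \ {sr i}) ≤
          (RGD.Sup X (RGD.Inv cs h w)).map (MulAut.conj (n i)).toMonoidHom := by
        refine RGD.Sup_le ?_
        rintro z ⟨hz, hz0⟩
        have h2 := ((hiff z).1 hz).resolve_left hz0
        have h3 := cj_mono (n i) (RGD.le_Sup (X := X) h2)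
        rw [R.conj i _ h2.1, hss] at h3
        exact h3
      exact hle hr
    · rw [← mul_inv_rev, ← e, inv_inv]

/-- `T_w` of a simple `T`-invariant subspace of `V^U` -/
theorem Tk_wt [Finite W] {N : Submodule k V} (hN : Simp ρ T N) (hU : N ≤ fx ρ (RGD.Sup X (RGD.Pos cs h))) {w : W}
    {g : Y} (hg : Rp cs R.nsys w g) (h0 : N.map (Tk cs h X ρ w g) ≠ ⊥) :
    Simp ρ T (N.map (Tk cs h X ρ w g)) ∧ N.map (Tk cs h X ρ w g) ≤ fx ρ (RGD.Sup X (RGD.Pos cs h)) := by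
  induction hn : cs.length w using Nat.strong_induction_on generalizing w g with
  | _ N' ih =>
  by_cases hw1 : w = 1
  · subst hw1
    have hgT : g ∈ T := hg.mem_of_one
    have h1 : N.map (Tk cs h X ρ 1 g) = N := by
      have h2 : ∀ v, Tk cs h X ρ 1 g v = ρ g v := by
        intro v
        rw [Tk_apply, RGD.inv_one_eq, Sup_empty, sg_bot]
      apply le_antisymm
      · rintro _ ⟨v, hv, rfl⟩
        rw [h2]
        exact hN.inv g hgT v hv
      · intro v hv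
        exact ⟨_, hN.inv g⁻¹ (inv_mem hgT) v hv, by rw [h2, rho_rho_inv]⟩
    rw [h1]
    exact ⟨hN, hU⟩
  · obtain ⟨i, hi⟩ : ∃ i, cs.IsLeftDescent w i := cs.exists_leftDescent_of_ne_one hw1
    have hlt : cs.length (cs.simple i * w) < cs.length w := hi
    have hneg : rep cs h w⁻¹ (sr i) ≤ 0 := by
      refine nonpos_of_lt cs h w⁻¹ i ?_
      rw [cs.length_inv, ← cs.length_inv (w⁻¹ * cs.simple i), mul_inv_rev, inv_inv, cs.inv_simple]
      exact hlt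
    have hww : cs.simple i * (cs.simple i * w) = w := by
      rw [← mul_assoc, cs.simple_mul_simple_self, one_mul]
    have hg' : Rp cs R.nsys (cs.simple i * w) ((n i)⁻¹ * g) := by
      have := (rp_simple cs R.nsys i).inv.mul hg
      rwa [cs.inv_simple] at this
    have h2 : ∀ v, Ti n X ρ i (Tk cs h X ρ (cs.simple i * w) ((n i)⁻¹ * g) v) = Tk cs h X ρ w g v := by
      intro v
      have h3 := Tk_up R ρ (w := cs.simple i * w) (i := i) (by
        rw [rep_simple_mul_inv]; exact neg_nonneg.2 hneg) ((n i)⁻¹ * g) v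
      rwa [hww, mul_inv_cancel_left] at h3
    have h3 : (N.map (Tk cs h X ρ (cs.simple i * w) ((n i)⁻¹ * g))).map (CR.Ti n X ρ i) =
        N.map (Tk cs h X ρ w g) := by
      rw [← Submodule.map_comp]
      congr 1
      exact LinearMap.ext h2
    have h4 : N.map (Tk cs h X ρ (cs.simple i * w) ((n i)⁻¹ * g)) ≠ ⊥ := by
      intro h4
      rw [h4, Submodule.map_bot] at h3
      exact h0 h3.symm
    obtain ⟨h5, h6⟩ := ih _ (hn ▸ hlt) hg' h4 rfl
    rw [← h3] at h0 ⊢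
    refine ⟨h5.Ti R ρ i h0, ?_⟩
    rintro _ ⟨v, hv, rfl⟩
    exact Ti_fix R ρ (h6 hv) i

/-- **A simple `T`-invariant subspace of `V^U`, invariant under all `T_i`.** -/
theorem exists_simul [Finite W] [Fact p.Prime] [CharP k p] {N : Submodule k V} (hN : Simp ρ T N)
    (hU : N ≤ fx ρ (RGD.Sup X (RGD.Pos cs h))) : ∃ w : W, ∃ g ∈ Subgroup.closure (Set.range n),
      Simp ρ T (N.map (Tk cs h X ρ w g)) ∧ N.map (Tk cs h X ρ w g) ≤ fx ρ (RGD.Sup X (RGD.Pos cs h)) ∧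
      ∀ i, ∀ v ∈ N.map (Tk cs h X ρ w g), Ti n X ρ i v ∈ N.map (Tk cs h X ρ w g) := by
  classical
  let S : Set W := {w | ∃ g ∈ Subgroup.closure (Set.range n), Rp cs R.nsys w g ∧ N.map (Tk cs h X ρ w g) ≠ ⊥}
  have hS : S.Nonempty := by
    refine ⟨1, 1, one_mem _, rp_one, ?_⟩
    have h2 : Tk cs h X ρ 1 1 = 1 := by
      ext v
      rw [Tk_apply, RGD.inv_one_eq, Sup_empty, sg_bot, rho_one]; rfl
    rw [h2]
    intro h3
    apply hN.ne
    rw [eq_bot_iff, ← h3]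
    intro v hv
    exact ⟨v, hv, rfl⟩
  obtain ⟨w, ⟨g, hgc, hg, hne⟩, hmax⟩ := Set.exists_max_image S (fun w => cs.length w) (Set.toFinite S) hS
  obtain ⟨h5, h6⟩ := Tk_wt R ρ hN hU hg hne
  refine ⟨w, g, hgc, h5, h6, ?_⟩
  intro i
  have hni : n i ∈ Subgroup.closure (Set.range n) := Subgroup.subset_closure ⟨i, rfl⟩
  have hww : cs.simple i * (cs.simple i * w) = w := by
    rw [← mul_assoc, cs.simple_mul_simple_self, one_mul]
  rcases ((isRoot_sr cs h i).act w⁻¹).pos_or_neg with hpos | hneg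
  · rintro _ ⟨v, hv, rfl⟩
    have h7 : Ti n X ρ i (Tk cs h X ρ w g v) = 0 := by
      by_contra hc
      have h1 := hmax (cs.simple i * w) ⟨_, mul_mem hni hgc, (rp_simple cs R.nsys i).mul hg, fun h8 => hc (by
        rw [Tk_up R ρ hpos, ← Submodule.mem_bot k, ← h8]
        exact ⟨v, hv, rfl⟩)⟩
      have h2 := (lt_iff' cs h w⁻¹ i).2 hpos
      rw [cs.length_inv, ← cs.length_inv (w⁻¹ * cs.simple i), mul_inv_rev, inv_inv, cs.inv_simple] at h2
      exact absurd h1 (not_le.2 h2)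
    rw [h7]
    exact Submodule.zero_mem _
  · have hg' : Rp cs R.nsys (cs.simple i * w) ((n i)⁻¹ * g) := by
      have := (rp_simple cs R.nsys i).inv.mul hg
      rwa [cs.inv_simple] at this
    have h2 : ∀ v, Tk cs h X ρ w g v = Ti n X ρ i (Tk cs h X ρ (cs.simple i * w) ((n i)⁻¹ * g) v) := by
      intro v
      have h3 := Tk_up R ρ (w := cs.simple i * w) (i := i) (by
        rw [rep_simple_mul_inv]; exact neg_nonneg.2 hneg) ((n i)⁻¹ * g) v
      rw [hww, mul_inv_cancel_left] at h3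
      exact h3.symm
    have h4 : N.map (Tk cs h X ρ (cs.simple i * w) ((n i)⁻¹ * g)) ≠ ⊥ := by
      intro h4
      apply hne
      rw [eq_bot_iff]
      rintro _ ⟨v, hv, rfl⟩
      have h8 : Tk cs h X ρ (cs.simple i * w) ((n i)⁻¹ * g) v ∈
          N.map (Tk cs h X ρ (cs.simple i * w) ((n i)⁻¹ * g)) := ⟨v, hv, rfl⟩
      rw [h4, Submodule.mem_bot] at h8
      rw [h2, h8, map_zero]
      exact Submodule.zero_mem _
    obtain ⟨h8, h9⟩ := Tk_wt R ρ hN hU hg' h4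
    rintro _ ⟨v, hv, rfl⟩
    rw [h2]
    obtain ⟨v', ⟨v'', hv'', rfl⟩, hv'⟩ := Ti_sq R ρ h8.inv h9 i (v := Tk cs h X ρ (cs.simple i * w) ((n i)⁻¹ * g) v)
      ⟨v, hv, rfl⟩
    rw [hv', ← h2]
    exact ⟨_, hv'', rfl⟩

/-! ### `n_i N ⊆ k[X_{-i}] N` -/

omit R [Finite Y] in
/-- `k[B] N` -/
def Sp (ρ : Y →* Module.End k V) (B : Subgroup Y) (N : Submodule k V) : Submodule k V :=
  Submodule.span k {w | ∃ b ∈ B, ∃ v ∈ N, ρ b v = w}

omit R [Finite Y] in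
theorem mem_Sp {B : Subgroup Y} {N : Submodule k V} {a : Y} (ha : a ∈ B) {v : V} (hv : v ∈ N) : ρ a v ∈ Sp ρ B N :=
  Submodule.subset_span ⟨a, ha, v, hv, rfl⟩

omit R [Finite Y] in
theorem le_Sp {B : Subgroup Y} {N : Submodule k V} : N ≤ Sp ρ B N := fun v hv => by
  have := mem_Sp ρ (one_mem B) hv
  rwa [rho_one] at this

omit R [Finite Y] in
theorem Sp_mono {B C : Subgroup Y} (hBC : B ≤ C) (N : Submodule k V) : Sp ρ B N ≤ Sp ρ C N := by
  unfold Sp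
  rw [Submodule.span_le]
  rintro _ ⟨b, hb, v, hv, rfl⟩
  exact mem_Sp ρ (hBC hb) hv

omit R [Finite Y] in
theorem rho_mem_Sp {B : Subgroup Y} {N : Submodule k V} {a : Y} (ha : a ∈ B) {v : V} (hv : v ∈ Sp ρ B N) :
    ρ a v ∈ Sp ρ B N := by
  induction hv using Submodule.span_induction with
  | mem x hx =>
    obtain ⟨b, hb, v, hv, rfl⟩ := hx
    rw [← rho_mul]
    exact mem_Sp ρ (mul_mem ha hb) hv
  | zero => rw [map_zero]; exact Submodule.zero_mem _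
  | add x y _ _ hx hy => rw [map_add]; exact Submodule.add_mem _ hx hy
  | smul c x _ hx => rw [map_smul]; exact Submodule.smul_mem _ _ hx

theorem n_mem {N : Submodule k V} (hN : Simp ρ T N) (hU : N ≤ fx ρ (RGD.Sup X (RGD.Pos cs h))) {i : I}
    (hc : ∀ v ∈ N, Ti n X ρ i v ∈ N) {m : V} (hm : m ∈ N) : ρ (n i) m ∈ Sp ρ (X (-sr i)) N := by
  classical
  let _ := Fintype.ofFinite (X (sr i))
  have hmap : N.map (Ti n X ρ i) ≤ N := by
    rintro _ ⟨v, hv, rfl⟩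
    exact hc v hv
  rcases hN.simple _ hmap (by
    rintro t ht _ ⟨v, hv, rfl⟩
    rw [rho_Ti R ρ i ht]
    exact ⟨_, hN.inv _ (conj_n_T' R i ht) v hv, rfl⟩) with h0 | h0
  · -- all terms with `x ≠ 1` are in the span
    have hz : Ti n X ρ i m = 0 := by
      rw [← Submodule.mem_bot k, ← h0]
      exact ⟨m, hm, rfl⟩
    have hterm : ∀ x : X (sr i), x ≠ 1 → ρ (x : Y) (ρ (n i) m) ∈ Sp ρ (X (-sr i)) N := by
      intro x hx
      obtain ⟨y, hy, t, ht, b, hb, e⟩ := mul_n R i x.2 (fun h => hx (Subtype.ext h))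
      rw [← rho_mul, e, rho_mul, X_fix R ρ (hU hm) i hb, rho_mul]
      exact mem_Sp ρ hy (hN.inv t ht m hm)
    rw [Ti_apply, sg_def, ← Finset.add_sum_erase _ _ (Finset.mem_univ (1 : X (sr i))), Subgroup.coe_one,
      rho_one] at hz
    have h1 : ρ (n i) m = - ∑ x ∈ Finset.univ.erase (1 : X (sr i)), ρ (x : Y) (ρ (n i) m) :=
      eq_neg_of_add_eq_zero_left hz
    rw [h1]
    refine Submodule.neg_mem _ (Submodule.sum_mem _ fun x hx => hterm x (Finset.ne_of_mem_erase hx))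
  · have h1 : ∀ v ∈ N, ρ (n i)⁻¹ v ∈ Sp ρ (X (-sr i)) N := by
      intro v hv
      rw [← h0] at hv
      obtain ⟨v', hv', rfl⟩ := hv
      rw [Ti_apply, sg_def, map_sum]
      refine Submodule.sum_mem _ fun x _ => ?_
      rw [← rho_mul, ← rho_mul]
      exact mem_Sp ρ (conj_n_X' R i x.2) hv'
    have h3 : ρ (n i) m = ρ (n i)⁻¹ (ρ (n i * n i) m) := by
      rw [← rho_mul]
      congr 2
      group
    rw [h3]
    exact h1 _ (hN.inv _ (n_sq R i) m hm)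

/-! ### `k[C U⁻] N` is invariant -/

omit R [Finite Y] in
/-- the stabiliser of a subspace -/
def stS (ρ : Y →* Module.End k V) (N : Submodule k V) : Subgroup Y where
  carrier := {g | ∀ v, v ∈ N ↔ ρ g v ∈ N}
  one_mem' := fun v => by rw [rho_one]
  mul_mem' := by
    intro a b (ha : ∀ v, v ∈ N ↔ ρ a v ∈ N) (hb : ∀ v, v ∈ N ↔ ρ b v ∈ N) v
    rw [rho_mul, ← ha, ← hb]
  inv_mem' := by
    intro a (ha : ∀ v, v ∈ N ↔ ρ a v ∈ N) v
    rw [ha (ρ a⁻¹ v), rho_rho_inv]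

omit R [Finite Y] in
theorem mem_stS {N : Submodule k V} {g : Y} (h1 : ∀ v ∈ N, ρ g v ∈ N) (h2 : ∀ v ∈ N, ρ g⁻¹ v ∈ N) :
    g ∈ stS ρ N := fun v => ⟨h1 v, fun hv => by
      have := h2 _ hv
      rwa [rho_inv_rho] at this⟩

omit R [Finite Y] in
theorem le_stS {N : Submodule k V} {B : Subgroup Y} (h1 : Ivt ρ B N) : B ≤ stS ρ N :=
  fun _ hg => mem_stS ρ (h1 _ hg) (h1 _ (inv_mem hg))

omit R [Finite Y] in
theorem Ivt_of_le {N : Submodule k V} {B : Subgroup Y} (h1 : B ≤ stS ρ N) : Ivt ρ B N :=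
  fun _ hg v hv => (h1 hg v).1 hv

omit R [Finite Y] in
theorem T_stable {T C : Subgroup Y} {N : Submodule k V} (hN : Ivt ρ T N) (hT : ∀ t ∈ T, ∀ c ∈ C, t * c * t⁻¹ ∈ C) :
    T ≤ stS ρ (Sp ρ C N) := by
  refine le_stS ρ fun t ht v hv => ?_
  induction hv using Submodule.span_induction with
  | mem x hx =>
    obtain ⟨b, hb, v, hv, rfl⟩ := hx
    have h1 : t * (b : Y) = t * b * t⁻¹ * t := by group
    rw [← rho_mul, h1, rho_mul]
    exact mem_Sp ρ (hT t ht b hb) (hN t ht v hv)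
  | zero => rw [map_zero]; exact Submodule.zero_mem _
  | add x y _ _ hx hy => rw [map_add]; exact Submodule.add_mem _ hx hy
  | smul c x _ hx => rw [map_smul]; exact Submodule.smul_mem _ _ hx

omit [Finite Y] in
theorem T_norm_UN [Finite W] {t u : Y} (ht : t ∈ T) (hu : u ∈ UN cs h X) : t * u * t⁻¹ ∈ UN cs h X := by
  have h1 := (opp R).T_le_normalizer_U ht
  rw [U_opp] at h1
  exact (Subgroup.mem_normalizer_iff.1 h1 u).1 hu

omit [Finite Y] in
theorem exists_UN [Finite W] (i : I) {u : Y} (hu : u ∈ UN cs h X) :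
    ∃ r ∈ UN cs h X, n i * r * (n i)⁻¹ ∈ UN cs h X ∧ ∃ y ∈ X (-sr i), u = r * y := by
  rw [← U_opp] at hu ⊢
  obtain ⟨r, hr, y, hy, e⟩ := exists_mul (opp R) (S := RGD.Pos cs h) (i := i) (fun x hx => hx)
    ⟨isRoot_sr cs h i, sr_nonneg i⟩ (fun y hy _ z hz => ⟨hz.1, RGD.nonneg_of_btwn (sr_nonneg i) hy.2 hz⟩) hu
  have hr' : r ∈ RGD.Sup (fun x => X (-x)) (RGD.PosNe cs h i) := by
    refine RGD.Sup_mono ?_ hr
    rintro z ⟨hz, hz0⟩
    exact ⟨hz.1, hz.2, hz0⟩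
  have hmono : RGD.Sup (fun x => X (-x)) (RGD.PosNe cs h i) ≤ RGD.Sup (fun x => X (-x)) (RGD.Pos cs h) :=
    RGD.Sup_mono fun z hz => ⟨hz.1, hz.2.1⟩
  refine ⟨r, hmono hr', hmono ?_, y, hy, e⟩
  have h1 := (opp R).cj_n_V i
  rw [← h1]
  exact conj_mem_cj.2 hr'

omit [Finite Y] in
theorem XN_le [Finite W] (i : I) : X (-sr i) ≤ UN cs h X :=
  X_le_UN (isRoot_sr cs h i).neg (neg_nonpos.2 (sr_nonneg i))

/-- `n_i` stabilises `k[C U⁻] N`, `C` a group commuting with everything -/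
theorem n_stable [Finite W] {N : Submodule k V} (hN : Ivt ρ T N) (hU : N ≤ fx ρ (RGD.Sup X (RGD.Pos cs h)))
    {i : I} (hn : ∀ v ∈ N, ρ (n i) v ∈ Sp ρ (X (-sr i)) N) {C : Subgroup Y} (hC : ∀ c ∈ C, n i * c = c * n i)
    {B : Subgroup Y} (hBC : C ≤ B) (hBU : UN cs h X ≤ B) (hB : ∀ b ∈ B, ∃ c ∈ C, ∃ u ∈ UN cs h X, b = c * u) :
    ∀ v ∈ Sp ρ B N, ρ (n i) v ∈ Sp ρ B N := by
  intro v hv
  induction hv using Submodule.span_induction with
  | mem x hx =>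
    obtain ⟨b, hb, m, hm, rfl⟩ := hx
    obtain ⟨c, hc, u, hu, rfl⟩ := hB b hb
    obtain ⟨r, hr, hr', y, hy, e⟩ := exists_UN R i hu
    have h1 : n i * (c * u) = c * (n i * r * (n i)⁻¹ * (n i * y)) := by
      rw [e, ← mul_assoc (n i) c, hC c hc]; group
    rw [← rho_mul, h1, rho_mul, rho_mul]
    refine rho_mem_Sp ρ (hBC hc) (rho_mem_Sp ρ (hBU hr') (Sp_mono ρ ((XN_le R i).trans hBU) N ?_))
    by_cases hy1 : y = 1
    · rw [hy1, mul_one]; exact hn m hm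
    · obtain ⟨y', hy', t, ht, b, hb, e'⟩ := n_mul R i hy hy1
      rw [e', rho_mul, X_fix R ρ (hU hm) i hb, rho_mul]
      exact mem_Sp ρ hy' (hN t ht m hm)
  | zero => rw [map_zero]; exact Submodule.zero_mem _
  | add x y _ _ hx hy => rw [map_add]; exact Submodule.add_mem _ hx hy
  | smul c x _ hx => rw [map_smul]; exact Submodule.smul_mem _ _ hx

/-- **`k[C U⁻] N` is invariant.** -/
theorem stable [Finite W] {N : Submodule k V} (hN : Ivt ρ T N) (hU : N ≤ fx ρ (RGD.Sup X (RGD.Pos cs h)))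
    (hn : ∀ i, ∀ v ∈ N, ρ (n i) v ∈ Sp ρ (X (-sr i)) N) {C : Subgroup Y} (hC : ∀ i, ∀ c ∈ C, n i * c = c * n i)
    {B : Subgroup Y} (hBC : C ≤ B) (hBU : UN cs h X ≤ B) (hB : ∀ b ∈ B, ∃ c ∈ C, ∃ u ∈ UN cs h X, b = c * u)
    (hTB : ∀ t ∈ T, ∀ b ∈ B, t * b * t⁻¹ ∈ B) : GG cs h T X ≤ stS ρ (Sp ρ B N) := by
  have hUN : UN cs h X ≤ stS ρ (Sp ρ B N) := le_stS ρ fun _ hg _ hv => rho_mem_Sp ρ (hBU hg) hv
  have hT : T ≤ stS ρ (Sp ρ B N) := T_stable ρ hN hTB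
  have hn1 : ∀ i, ∀ v ∈ Sp ρ B N, ρ (n i) v ∈ Sp ρ B N := fun i =>
    n_stable R ρ hN hU (hn i) (hC i) hBC hBU hB
  have hn2 : ∀ i, n i ∈ stS ρ (Sp ρ B N) := by
    intro i
    refine mem_stS ρ (hn1 i) fun v hv => ?_
    have h1 : (n i)⁻¹ = n i * (n i * n i)⁻¹ := by group
    rw [h1, rho_mul]
    exact hn1 i _ ((hT (inv_mem (n_sq R i)) v).1 hv)
  have hU' : RGD.Sup X (RGD.Pos cs h) ≤ stS ρ (Sp ρ B N) := by
    obtain ⟨g, hg, hgR⟩ := exists_rp_closure (cs := cs) (hN := R.nsys) (w0 cs)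
    have hgS : g ∈ stS ρ (Sp ρ B N) := by
      refine (?_ : Subgroup.closure (Set.range n) ≤ _) hg
      rw [Subgroup.closure_le]
      rintro _ ⟨i, rfl⟩
      exact hn2 i
    have h1 := cj_UN R hgR
    intro u hu
    rw [← h1, mem_cj] at hu
    have h2 := mul_mem (mul_mem hgS (hUN hu)) (inv_mem hgS)
    have h3 : g * (g⁻¹ * u * g) * g⁻¹ = u := by group
    rwa [h3] at h2
  unfold GG
  refine sup_le hT (RGD.Sup_le ?_)
  intro z hz
  rcases IsRoot.pos_or_neg hz with h0 | h0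
  · exact (RGD.le_Sup (S := RGD.Pos cs h) ⟨hz, h0⟩).trans hU'
  · exact (X_le_UN hz h0).trans hUN

end Rep

end Cfsg.Agent.Omega.CR
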