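import Cfsg.Agent.Omega.CR.KDiag
import Cfsg.Agent.Omega.CR.KDOf
import Cfsg.Agent.Omega.Lie.End.OfLay

/-!
# From `KDiag` of the components to `Comps` and `KD`

`K l ≤ H` pairwise commuting, `T0` of odd order normalises them, `KDiag (S ⊓ K l) (Tact T0 (K l))`:

* `exists_comps` : `Comps` for suitable root group data;
* `exists_kd` : `KD (⨆ K l) (S ⊓ ⨆ K l) HE A₁ T0 w`, `HE` centralised by `T0`.
-/

set_option autoImplicit false
set_option linter.unusedSectionVars false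

namespace Cfsg.Agent.Omega.CR

open Subgroup CoxeterSystem Cfsg.Agent.ChevalleyStructure.CoxeterGeom Cfsg.Agent.Tits.Roots Cfsg.Agent.Tits.Core
  Cfsg.Agent.Tits.RootComb Cfsg.Agent.Nodes.Comb Cfsg.Agent.Nodes.Reps Cfsg.Agent.Nodes.BNOf
  Cfsg.Agent.Nodes.Bruhat Cfsg.Agent.KFacts.RgdAut Cfsg.Agent.KFacts.RgdDiag Cfsg.Agent.KFacts.RgdCharP
  Cfsg.Agent.Omega.Lie.End Cfsg.Agent.Omega.Lie.End.Mov Cfsg.Agent.Omega.Lie.End.OfLay
open Cfsg.Agent.Omega.HOneQ Cfsg.Agent.Omega.HOneQ.Fr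

universe u

variable {H : Type u} [Group H] [Finite H] {κ : Type*} [Fintype κ] {K : κ → Subgroup H} {S T0 : Subgroup H}

theorem mem_map_subtype {K : Subgroup H} {P : Subgroup K} {x : H} : x ∈ P.map K.subtype ↔ ∃ hx : x ∈ K, (⟨x, hx⟩ : K) ∈ P := by
  constructor
  · rintro ⟨y, hy, rfl⟩
    exact ⟨y.2, hy⟩
  · rintro ⟨hx, h⟩
    exact ⟨⟨x, hx⟩, h, rfl⟩

/-- the automorphism induced by `t` -/
theorem exists_tact {K : Subgroup H} {t : H} (ht : t ∈ T0) (hN : t ∈ normalizer (K : Set H)) :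
    ∃ γ ∈ Tact T0 K, ∀ x : K, ((γ x : K) : H) = t * x * t⁻¹ :=
  ⟨K.normalizerMonoidHom ⟨t, hN⟩, mem_Tact.2 ⟨t, ht, hN, fun _ => rfl⟩, fun _ => rfl⟩

theorem exists_comps (hcomm : ∀ l m, l ≠ m → ∀ a ∈ K l, ∀ b ∈ K m, a * b = b * a)
    (hN : ∀ l, T0 ≤ normalizer (K l : Set H)) (hodd : Odd (Nat.card T0))
    (kd : ∀ l, KDiag (S.subgroupOf (K l)) (Tact T0 (K l))) :
    ∃ (d : κ → ℕ) (M : ∀ l, CoxeterMatrix (Fin (d l))) (A : ∀ l, Fin (d l) → Fin (d l) → ℤ)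
      (h : ∀ l, IsCartan (M l) (A l)) (T : κ → Subgroup H) (n : ∀ l, Fin (d l) → H)
      (X : ∀ l, (Fin (d l) → ℤ) → Subgroup H),
      (∀ l, Finite (M l).Group) ∧ (∀ l, Conn (M l)) ∧
      Comps (fun l => (M l).toCoxeterSystem) h 2 T n X K T0 ∧
      (∀ l, K l ≤ RGD.Sup (X l) {x | IsRoot (M l).toCoxeterSystem (h l) x}) ∧
      (∀ l, RGD.Sup (X l) (RGD.Pos (M l).toCoxeterSystem (h l)) = S ⊓ K l) ∧
      (∀ l, ∀ t ∈ T0, ∀ s ∈ T l, t * s * t⁻¹ = s) := by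
  choose d M A h T n X hW hc R hG1 hU hD using kd
  have hSup : ∀ l (S' : Set (Fin (d l) → ℤ)), RGD.Sup (fun x => (X l x).map (K l).subtype) S' =
      (RGD.Sup (X l) S').map (K l).subtype := by
    intro l S'
    unfold RGD.Sup
    rw [Subgroup.map_iSup]
  have key : ∀ l, ∀ t ∈ T0, ∀ s ∈ (T l).map (K l).subtype, t * s * t⁻¹ = s := by
    rintro l t ht _ ⟨s, hs, rfl⟩
    obtain ⟨γ, hγ, e⟩ := exists_tact ht (hN l ht)
    have h1 := e s
    rw [(hD l γ hγ).2 s hs] at h1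
    exact h1.symm
  refine ⟨d, M, A, h, fun l => (T l).map (K l).subtype, fun l i => n l i, fun l x => (X l x).map (K l).subtype, hW, hc,
    ?_, ?_, ?_, key⟩
  · refine ⟨fun l => Nodes.RGDLib.rgd_map_of_injective (R l) (K l).subtype (K l).subtype_injective, fun l => ?_,
      fun l x _ => ?_, fun l i => (n l i).2, hcomm, fun l t ht s hs => ?_, fun l x hx t ht y hy => ?_,
      fun l i t ht => ?_, Nat.coprime_two_right.2 hodd⟩
    · rintro _ ⟨x, -, rfl⟩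
      exact x.2
    · rintro _ ⟨x, -, rfl⟩
      exact x.2
    · rw [key l t ht s hs]
      exact hs
    · obtain ⟨y, hy, rfl⟩ := hy
      obtain ⟨γ, hγ, e⟩ := exists_tact ht (hN l ht)
      have h1 := (Diag.mem_iff (R l) (hD l γ hγ).1 hx y).2 hy
      exact ⟨γ y, h1, e y⟩
    · obtain ⟨γ, hγ, e⟩ := exists_tact ht (hN l ht)
      have h1 := (rp_simple (M l).toCoxeterSystem (R l).nsys i).unique (Diag.rp (R := R l) (hD l γ hγ).1 i)
      refine ⟨(n l i)⁻¹ * γ (n l i), h1, ?_⟩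
      change ((n l i : K l) : H)⁻¹ * ((γ (n l i) : K l) : H) = _
      rw [e]
  · intro l
    rw [hSup, hG1]
    intro x hx
    exact ⟨⟨x, hx⟩, mem_top _, rfl⟩
  · intro l
    rw [hSup, hU, subgroupOf_map_subtype]

theorem iSup_le_norm (hcomm : ∀ l m, l ≠ m → ∀ a ∈ K l, ∀ b ∈ K m, a * b = b * a) (l : κ) :
    (⨆ m, K m) ≤ normalizer (K l : Set H) := by
  refine iSup_le fun m => ?_
  by_cases hm : m = l
  · rw [hm]; exact le_normalizer
  · refine le_normalizer_of fun x hx s hs => ?_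
    rw [hcomm m l hm x hx s hs, mul_inv_cancel_right]
    exact hs

/-- **`KD` for the product of the components.** -/
theorem exists_kd (hcomm : ∀ l m, l ≠ m → ∀ a ∈ K l, ∀ b ∈ K m, a * b = b * a)
    (hN : ∀ l, T0 ≤ normalizer (K l : Set H)) (hodd : Odd (Nat.card T0))
    (kd : ∀ l, KDiag (S.subgroupOf (K l)) (Tact T0 (K l))) (hS : IsPGroup 2 S) {A₁ : Subgroup H}
    (hne : ∀ l, A₁ ⊓ (S ⊓ K l) ≠ ⊥) (hST : ∀ t ∈ T0, ∀ s ∈ S, s⁻¹ * (t * s * t⁻¹) ∈ A₁)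
    (hA : ∀ n : H, (∀ s ∈ S ⊓ ⨆ l, K l, n * s * n⁻¹ ∈ S ⊓ ⨆ l, K l) → (∀ t ∈ T0, n * t * n⁻¹ * t⁻¹ ∈ A₁) →
      ∀ a ∈ A₁, n * a * n⁻¹ ∈ A₁) :
    ∃ (HE : Subgroup H) (w : H), KD (⨆ l, K l) (S ⊓ ⨆ l, K l) HE A₁ T0 w ∧
      (∀ t ∈ T0, ∀ s ∈ HE, t * s * t⁻¹ = s) := by
  have : Fact (Nat.Prime 2) := ⟨Nat.prime_two⟩
  obtain ⟨d, M, A, h, T, n, X, hW, hc, D, hC, hU, hT⟩ := exists_comps hcomm hN hodd kd
  have hUt : Ut (fun l => (M l).toCoxeterSystem) h X = ⨆ l, S ⊓ K l := by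
    unfold Ut
    exact iSup_congr hU
  have hUS : Ut (fun l => (M l).toCoxeterSystem) h X ≤ S ⊓ ⨆ l, K l := by
    rw [hUt]
    exact iSup_le fun l => inf_le_inf_left S (le_iSup K l)
  -- `S ⊓ E = U`
  have hSE : S ⊓ ⨆ l, K l = Ut (fun l => (M l).toCoxeterSystem) h X := by
    refine le_antisymm ?_ hUS
    rintro x ⟨hxS, hxK⟩
    have h1 : ∀ y ∈ S ⊓ ⨆ l, K l, ∀ s ∈ Ut (fun l => (M l).toCoxeterSystem) h X,
        y * s * y⁻¹ ∈ Ut (fun l => (M l).toCoxeterSystem) h X := by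
      rintro y ⟨hyS, hyK⟩
      have h2 : Ut (fun l => (M l).toCoxeterSystem) h X ≤
          (Ut (fun l => (M l).toCoxeterSystem) h X).comap (MulAut.conj y).toMonoidHom := by
        rw [hUt]
        refine iSup_le fun l s hs => (le_iSup (fun l => S ⊓ K l) l) (mem_inf.2 ⟨?_, ?_⟩)
        · exact S.mul_mem (S.mul_mem hyS hs.1) (S.inv_mem hyS)
        · exact (mem_normalizer_iff.1 (iSup_le_norm hcomm l hyK) s).1 hs.2
      exact fun s hs => h2 hs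
    have h2 : x ∈ normalizer (Ut (fun l => (M l).toCoxeterSystem) h X : Set H) := by
      refine mem_normalizer_of_le (h1 x ⟨hxS, hxK⟩) fun s hs => ?_
      have h3 := h1 x⁻¹ (inv_mem (mem_inf.2 ⟨hxS, hxK⟩)) s hs
      rwa [inv_inv] at h3
    have h3 : x ∈ Ut (fun l => (M l).toCoxeterSystem) h X ⊔ ⨆ l, T l := by
      rw [← D.normalizer_eq hC]
      exact ⟨hxK, h2⟩
    obtain ⟨k, hk⟩ := hS ⟨x, hxS⟩
    exact mem_of_pow (le_sup_right.trans D.HE_norm_Ut) D.coprime_HE h3 (congrArg Subtype.val hk)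
  have h3 : ∀ t ∈ T0, (⨆ l, T l) ≤ centralizer {t} := by
    intro t ht
    refine iSup_le fun l s hs => ?_
    rw [mem_centralizer_singleton_iff]
    exact (mul_inv_eq_iff_eq_mul.1 (hT l t ht s hs)).symm
  have h4 : ∀ t ∈ T0, ∀ s ∈ ⨆ l, T l, t * s * t⁻¹ = s := by
    intro t ht s hs
    have h5 := mem_centralizer_singleton_iff.1 (h3 t ht hs)
    rw [← h5, mul_inv_cancel_right]
  have h6 : ∀ x ∈ ⨆ l, T l, ∀ t ∈ T0, x * t * x⁻¹ * t⁻¹ ∈ A₁ := by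
    intro x hx t ht
    have h5 := h4 t ht x hx
    have h6 : x * t * x⁻¹ * t⁻¹ = 1 := by
      calc x * t * x⁻¹ * t⁻¹ = x * (t * x * t⁻¹)⁻¹ := by group
        _ = 1 := by rw [h5, mul_inv_cancel]
    rw [h6]
    exact one_mem _
  obtain ⟨w, hw⟩ := D.kd hC hc (A₁ := A₁) (fun l => by rw [hU l]; exact hne l)
    (fun u hu => by
      rw [← hSE] at hu
      refine hA u (fun s hs => mul_mem (mul_mem hu hs) (inv_mem hu)) fun t ht => ?_
      have h5 := hST t ht u⁻¹ (inv_mem hu.1)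
      have e : u⁻¹⁻¹ * (t * u⁻¹ * t⁻¹) = u * t * u⁻¹ * t⁻¹ := by group
      rwa [e] at h5)
    (fun t ht => hA t (fun s hs => by
      rw [hSE] at hs ⊢
      exact (mem_normalizer_iff.1 ((le_sup_right.trans D.HE_norm_Ut) ht) s).1 hs) (h6 t ht)) h6
  rw [← hSE] at hw
  exact ⟨_, w, hw, h4⟩

end Cfsg.Agent.Omega.CR
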