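import Cfsg.Agent.Omega.CR.Gen
import Cfsg.Agent.Omega.Hex.SZ

/-!
# Commuting components with root group data: the Borel subgroup, the longest element, generation

`D : Comps cs h 2 T n X C T0`, every `C l` generated by its root groups; `E = ⨆ C l`, `S = Ut`, `HE = ⨆ T l`.

* `Comps.cpl` : `HE` is a complement of `S` in `N_E(S)`;
* `Comps.exists_w` : the longest element;
* `Comps.gen` : `E = ⟨S⁻, A⟩`.
-/

set_option autoImplicit false
set_option linter.unusedSectionVars false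

namespace Cfsg.Agent.Omega.CR

open Subgroup CoxeterSystem Cfsg.Agent.ChevalleyStructure.CoxeterGeom Cfsg.Agent.Tits.Roots Cfsg.Agent.Tits.Core
  Cfsg.Agent.Tits.Exchange Cfsg.Agent.Nodes.Reps Cfsg.Agent.Nodes.BNOf Cfsg.Agent.Nodes.StabComb
  Cfsg.Agent.Nodes.Bruhat Cfsg.Agent.Nodes.OppDec Cfsg.Agent.Nodes.LeviDec Cfsg.Agent.Nodes.NormalForm
  Cfsg.Agent.KFacts.RgdOpp

section general

variable {G : Type*} [Group G]

theorem mem_normalizer_of_le {U : Subgroup G} {g : G} (h : ∀ x ∈ U, g * x * g⁻¹ ∈ U) (h' : ∀ x ∈ U, g⁻¹ * x * g ∈ U) :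
    g ∈ normalizer (U : Set G) := by
  rw [mem_normalizer_iff]
  intro x
  refine ⟨h x, fun hx => ?_⟩
  have h1 := h' _ hx
  have e : g⁻¹ * (g * x * g⁻¹) * g = x := by group
  rwa [e] at h1

theorem relIndex_eq_card {U H : Subgroup G} (hH : H ≤ normalizer (U : Set G)) (hinf : U ⊓ H = ⊥) :
    Nat.card H = U.relIndex (U ⊔ H) := by
  let _ := Subgroup.normal_subgroupOf_of_le_normalizer hH
  let _ := Subgroup.normal_subgroupOf_sup_of_le_normalizer hH
  have e := (QuotientGroup.quotientInfEquivProdNormalizerQuotient H U hH).toEquiv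
  have h1 : (U.subgroupOf H).index = (U.subgroupOf (H ⊔ U)).index := Nat.card_congr e
  have h2 : U.subgroupOf H = ⊥ := by
    rw [eq_bot_iff]
    intro x hx
    have h3 : (x : G) ∈ U ⊓ H := ⟨mem_subgroupOf.1 hx, x.2⟩
    rw [hinf, mem_bot] at h3
    exact Subtype.ext h3
  rw [h2, index_bot] at h1
  rw [sup_comm]
  exact h1

/-- the elements normalising `HE` and commuting with `T0` modulo `HE` -/
def NN0 (HE T0 : Subgroup G) : Subgroup G where
  carrier := {g | g ∈ normalizer (HE : Set G) ∧ ∀ t ∈ T0, g⁻¹ * (t * g * t⁻¹) ∈ HE}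
  one_mem' := ⟨one_mem _, fun t _ => by simp [one_mem]⟩
  mul_mem' := by
    rintro a b ⟨ha, ha'⟩ ⟨hb, hb'⟩
    refine ⟨mul_mem ha hb, fun t ht => ?_⟩
    have e : (a * b)⁻¹ * (t * (a * b) * t⁻¹) = b⁻¹ * (a⁻¹ * (t * a * t⁻¹)) * b * (b⁻¹ * (t * b * t⁻¹)) := by group
    rw [e]
    refine mul_mem ?_ (hb' t ht)
    have := (mem_normalizer_iff.1 (inv_mem hb) _).1 (ha' t ht)
    rwa [inv_inv] at this
  inv_mem' := by
    rintro a ⟨ha, ha'⟩
    refine ⟨inv_mem ha, fun t ht => ?_⟩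
    have e : a⁻¹⁻¹ * (t * a⁻¹ * t⁻¹) = a * (a⁻¹ * (t * a * t⁻¹))⁻¹ * a⁻¹ := by group
    rw [e]
    exact (mem_normalizer_iff.1 ha _).1 (inv_mem (ha' t ht))

end general

variable {κ : Type*} [Fintype κ] {I W : κ → Type*} {Y : Type*} [∀ l, Fintype (I l)] [∀ l, DecidableEq (I l)]
  [∀ l, Group (W l)] [Group Y] {M : ∀ l, CoxeterMatrix (I l)}
  {cs : ∀ l, CoxeterSystem (M l) (W l)} {A : ∀ l, I l → I l → ℤ} {h : ∀ l, IsCartan (M l) (A l)} {p : ℕ}
  {T : κ → Subgroup Y} {n : ∀ l, I l → Y} {X : ∀ l, (I l → ℤ) → Subgroup Y} {C : κ → Subgroup Y} {T0 : Subgroup Y}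

/-- decomposition of an element of a product of commuting subgroups -/
theorem exists_dec' {C : κ → Subgroup Y} (comm : ∀ l m, l ≠ m → ∀ a ∈ C l, ∀ b ∈ C m, a * b = b * a)
    {P : κ → Prop} {a : κ} (ha : P a) {x : Y} (hx : x ∈ ⨆ m : {m // P m}, C m) :
    ∃ c ∈ C a, ∃ y ∈ ⨆ m : {m // P m ∧ m ≠ a}, C m, x = c * y ∧ ∀ c ∈ C a, c * y = y * c := by
  have hcm : ∀ c ∈ C a, ∀ y ∈ ⨆ m : {m // P m ∧ m ≠ a}, C m, c * y = y * c := by
    intro c hc y hy
    have h1 : (⨆ m : {m // P m ∧ m ≠ a}, C m) ≤ centralizer {c} := by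
      refine iSup_le fun m y hy => ?_
      rw [mem_centralizer_iff]
      rintro _ rfl
      exact comm a m (Ne.symm m.2.2) _ hc y hy
    exact mem_centralizer_iff.1 (h1 hy) c rfl
  have h1 : (⨆ m : {m // P m}, C m) ≤ C a ⊔ ⨆ m : {m // P m ∧ m ≠ a}, C m := by
    refine iSup_le fun m => ?_
    by_cases hm : (m : κ) = a
    · rw [hm]; exact le_sup_left
    · exact (le_iSup (fun m : {m // P m ∧ m ≠ a} => C m) ⟨m, m.2, hm⟩).trans le_sup_right
  have h2 : C a ≤ normalizer ((⨆ m : {m // P m ∧ m ≠ a}, C m : Subgroup Y) : Set Y) := by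
    refine le_normalizer_of fun c hc y hy => ?_
    rw [hcm c hc y hy, mul_inv_cancel_right]
    exact hy
  have h3 := h1 hx
  rw [← SetLike.mem_coe, coe_mul_of_left_le_normalizer_right _ _ h2] at h3
  obtain ⟨c, hc, y, hy, e⟩ := Set.mem_mul.1 h3
  exact ⟨c, hc, y, hy, e.symm, fun c hc => hcm c hc y hy⟩

namespace Comps

variable (D : Comps cs h p T n X C T0)
include D

theorem GG_le (l : κ) : GG (cs l) (h l) (T l) (X l) ≤ C l := by
  unfold GG
  exact sup_le (D.T_le l) (RGD.Sup_le fun x hx => D.X_le l x hx)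

theorem U_le (l : κ) : RGD.Sup (X l) (RGD.Pos (cs l) (h l)) ≤ C l := RGD.Sup_le fun x hx => D.X_le l x hx.1

theorem Ut_le : Ut cs h X ≤ ⨆ l, C l := iSup_mono D.U_le

theorem HE_le : (⨆ l, T l) ≤ ⨆ l, C l := iSup_mono D.T_le

theorem HE_norm_Ut : T0 ⊔ ⨆ l, T l ≤ normalizer (Ut cs h X : Set Y) := by
  exact le_normalizer_of fun t ht u hu => D.fam.T_norm_Ut ht hu

theorem coprime_HE : (Nat.card ↥(⨆ l, T l : Subgroup Y)).Coprime p :=
  Nat.Coprime.coprime_dvd_left (card_dvd_of_le le_sup_right) D.coprime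

theorem T0_HE {t : Y} (ht : t ∈ T0) {s : Y} (hs : s ∈ ⨆ l, T l) : t * s * t⁻¹ ∈ ⨆ l, T l := by
  have h4 : (⨆ m, T m : Subgroup Y) ≤ (⨆ m, T m : Subgroup Y).comap (MulAut.conj t).toMonoidHom := by
    refine iSup_le fun m s hs => ?_
    exact (le_iSup T m) (D.T0_T m t ht s hs)
  exact h4 hs

variable [Finite Y] [∀ l, Finite (W l)] [Fact p.Prime]

theorem Ut_inf_HE : Ut cs h X ⊓ ⨆ l, T l = ⊥ := by
  apply inf_eq_bot_of_coprime
  obtain ⟨k, hk⟩ := IsPGroup.iff_card.1 D.fam.isPGroup_Ut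
  rw [hk]
  exact (Nat.Coprime.pow_right k D.coprime_HE).symm

variable (hC : ∀ l, C l ≤ RGD.Sup (X l) {x | IsRoot (cs l) (h l) x})
include hC

theorem C_eq (l : κ) : GG (cs l) (h l) (T l) (X l) = C l :=
  le_antisymm (D.GG_le l) ((hC l).trans le_sup_right)

theorem Ut_inf_C (l : κ) : Ut cs h X ⊓ C l = RGD.Sup (X l) (RGD.Pos (cs l) (h l)) := by
  refine eq_U_of_isPGroup (D.rgd l) (D.fam.isPGroup_Ut.to_le inf_le_left) (le_inf (U_le_Ut l) (D.U_le l)) ?_
  rw [D.C_eq hC l]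
  exact inf_le_right

theorem normalizer_le : (⨆ l, C l) ⊓ normalizer (Ut cs h X : Set Y) ≤ Ut cs h X ⊔ ⨆ l, T l := by
  classical
  rintro x ⟨hx, hxN⟩
  have hTN : Ut cs h X ⊔ ⨆ l, T l ≤ normalizer (Ut cs h X : Set Y) :=
    sup_le le_normalizer (le_sup_right.trans D.HE_norm_Ut)
  have key : ∀ s : Finset κ, ∃ b ∈ Ut cs h X ⊔ ⨆ l, T l, b⁻¹ * x ∈ ⨆ m : {m // m ∉ s}, C m := by
    intro s
    induction s using Finset.induction_on with
    | empty =>
      refine ⟨1, one_mem _, ?_⟩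
      rw [inv_one, one_mul]
      have h1 : (⨆ l, C l) ≤ ⨆ m : {m // m ∉ (∅ : Finset κ)}, C m :=
        iSup_le fun l => le_iSup (fun m : {m // m ∉ (∅ : Finset κ)} => C m) ⟨l, Finset.notMem_empty l⟩
      exact h1 hx
    | insert a s ha ih =>
      obtain ⟨b, hb, hbx⟩ := ih
      obtain ⟨c, hc, y, hy, e, hcy⟩ := exists_dec' D.comm (P := fun m => m ∉ s) ha hbx
      have hcN : c ∈ RGD.B (cs a) (h a) (T a) (X a) := by
        rw [← normalizer_U (D.rgd a)]
        refine ⟨?_, by rw [D.C_eq hC a]; exact hc⟩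
        have h1 : b⁻¹ * x ∈ normalizer (Ut cs h X : Set Y) := mul_mem (inv_mem (hTN hb)) hxN
        refine mem_normalizer_of_le ?_ ?_
        · intro u hu
          have h2 := (mem_normalizer_iff.1 h1 u).1 (U_le_Ut a hu)
          have h3 : b⁻¹ * x * u * (b⁻¹ * x)⁻¹ = c * u * c⁻¹ := by
            have h4 := hcy _ (D.U_le a hu)
            have h5 : y * u * y⁻¹ = u := by rw [← h4, mul_inv_cancel_right]
            calc b⁻¹ * x * u * (b⁻¹ * x)⁻¹ = c * (y * u * y⁻¹) * c⁻¹ := by rw [e]; group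
              _ = _ := by rw [h5]
          rw [h3] at h2
          have h5 : c * u * c⁻¹ ∈ C a := mul_mem (mul_mem hc (D.U_le a hu)) (inv_mem hc)
          have h4 : c * u * c⁻¹ ∈ Ut cs h X ⊓ C a := ⟨h2, h5⟩
          rwa [D.Ut_inf_C hC] at h4
        · intro u hu
          have h2 := (mem_normalizer_iff.1 (inv_mem h1) u).1 (U_le_Ut a hu)
          have h3 : (b⁻¹ * x)⁻¹ * u * (b⁻¹ * x)⁻¹⁻¹ = c⁻¹ * u * c := by
            have h4 := hcy _ (mul_mem (mul_mem (inv_mem hc) (D.U_le a hu)) hc)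
            calc (b⁻¹ * x)⁻¹ * u * (b⁻¹ * x)⁻¹⁻¹ = y⁻¹ * ((c⁻¹ * u * c) * y) := by rw [e]; group
              _ = y⁻¹ * (y * (c⁻¹ * u * c)) := by rw [h4]
              _ = _ := by group
          rw [h3] at h2
          have h5 : c⁻¹ * u * c ∈ C a := mul_mem (mul_mem (inv_mem hc) (D.U_le a hu)) hc
          have h4 : c⁻¹ * u * c ∈ Ut cs h X ⊓ C a := ⟨h2, h5⟩
          rwa [D.Ut_inf_C hC] at h4
      have hcB : c ∈ Ut cs h X ⊔ ⨆ l, T l := by
        refine (?_ : RGD.B (cs a) (h a) (T a) (X a) ≤ _) hcN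
        unfold RGD.B
        exact sup_le ((le_iSup T a).trans le_sup_right) ((U_le_Ut a).trans le_sup_left)
      refine ⟨b * c, mul_mem hb hcB, ?_⟩
      have h2 : (b * c)⁻¹ * x = y := by
        have : (b * c)⁻¹ * x = c⁻¹ * (b⁻¹ * x) := by group
        rw [this, e]; group
      rw [h2]
      have h3 : (⨆ m : {m // m ∉ s ∧ m ≠ a}, C m) ≤ ⨆ m : {m // m ∉ insert a s}, C m :=
        iSup_le fun m => le_iSup (fun m : {m // m ∉ insert a s} => C m) ⟨m, by
          rw [Finset.mem_insert, not_or]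
          exact ⟨m.2.2, m.2.1⟩⟩
      exact h3 hy
  obtain ⟨b, hb, hbx⟩ := key Finset.univ
  have h1 : (⨆ m : {m // m ∉ (Finset.univ : Finset κ)}, C m) = ⊥ := by
    rw [eq_bot_iff]
    exact iSup_le fun m => absurd (Finset.mem_univ _) m.2
  rw [h1, mem_bot] at hbx
  have h2 : x = b := by
    have := inv_mul_eq_one.1 hbx
    exact this.symm
  rw [h2]; exact hb

theorem normalizer_eq : (⨆ l, C l) ⊓ normalizer (Ut cs h X : Set Y) = Ut cs h X ⊔ ⨆ l, T l :=
  le_antisymm (D.normalizer_le hC) (le_inf (sup_le D.Ut_le D.HE_le)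
    (sup_le le_normalizer (le_sup_right.trans D.HE_norm_Ut)))

/-- **`HE` is a complement of `S` in `N_E(S)`.** -/
theorem cpl : Hex.Cpl (Ut cs h X) ((⨆ l, C l) ⊓ normalizer (Ut cs h X : Set Y)) (⨆ l, T l) := by
  rw [D.normalizer_eq hC]
  exact ⟨le_sup_right, relIndex_eq_card (le_sup_right.trans D.HE_norm_Ut) D.Ut_inf_HE⟩

/-- **Generation.** -/
theorem gen (hconn : ∀ l, ∀ J : Set (I l), J.Nonempty → J ≠ Set.univ → ∃ a ∈ J, ∃ b, b ∉ J ∧ M l a b ≠ 2)
    {A₁ : Subgroup Y} (hne : ∀ l, A₁ ⊓ RGD.Sup (X l) (RGD.Pos (cs l) (h l)) ≠ ⊥)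
    (hU : ∀ u ∈ Ut cs h X, ∀ a ∈ A₁, u * a * u⁻¹ ∈ A₁) (hT : ∀ t ∈ ⨆ l, T l, ∀ a ∈ A₁, t * a * t⁻¹ ∈ A₁)
    {L : Subgroup Y} (hN : UNt cs h X ≤ L) (hAL : A₁ ≤ L) : ⨆ l, C l ≤ L := by
  refine iSup_le fun l => (hC l).trans (RGD.Sup_le fun x hx => ?_)
  refine gen_of_normal (D.rgd l) (hconn l) (A₁ := A₁ ⊓ RGD.Sup (X l) (RGD.Pos (cs l) (h l))) inf_le_right (hne l) ?_ ?_
    ((UN_le_UNt l).trans hN) (inf_le_left.trans hAL) hx
  · rintro u hu a ⟨ha, ha'⟩
    have h5 : u * a * u⁻¹ ∈ RGD.Sup (X l) (RGD.Pos (cs l) (h l)) := mul_mem (mul_mem hu ha') (inv_mem hu)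
    exact ⟨hU u (U_le_Ut l hu) a ha, h5⟩
  · rintro t ht a ⟨ha, ha'⟩
    exact ⟨hT t ((le_iSup T l) ht) a ha, (mem_normalizer_iff.1 ((D.rgd l).T_le_normalizer_U ht) a).1 ha'⟩

omit [Finite Y] [∀ l, Finite (W l)] [Fact p.Prime] hC in
theorem n_mem_NN0 (l : κ) (i : I l) : n l i ∈ NN0 (⨆ m, T m) T0 := by
  refine ⟨?_, fun t ht => (le_iSup T l) (D.T0_n l i t ht)⟩
  have hnl := (D.rgd l).nsys.norm i
  have key : ∀ g ∈ C l, g ∈ normalizer (T l : Set Y) → (⨆ m, T m : Subgroup Y) ≤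
      (⨆ m, T m : Subgroup Y).comap (MulAut.conj g).toMonoidHom := by
    intro g hg hgN
    refine iSup_le fun m t ht => ?_
    change g * t * g⁻¹ ∈ (⨆ m, T m : Subgroup Y)
    by_cases hm : m = l
    · subst hm
      exact (le_iSup T m) ((mem_normalizer_iff.1 hgN t).1 ht)
    · rw [← D.comm m l hm t (D.T_le m ht) g hg, mul_inv_cancel_right]
      exact (le_iSup T m) ht
  refine mem_normalizer_of_le (fun x hx => key _ (D.n_mem l i) hnl hx) fun x hx => ?_
  have h1 := key _ (inv_mem (D.n_mem l i)) (inv_mem hnl) hx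
  change (n l i)⁻¹ * x * (n l i)⁻¹⁻¹ ∈ (⨆ m, T m : Subgroup Y) at h1
  rwa [inv_inv] at h1

omit [Finite Y] [Fact p.Prime] hC in
/-- **The longest element.** -/
theorem exists_w : ∃ w ∈ ⨆ l, C l, w ∈ NN0 (⨆ m, T m) T0 ∧ cj w (Ut cs h X) = UNt cs h X := by
  classical
  have hg : ∀ l, ∃ g ∈ C l, g ∈ NN0 (⨆ m, T m) T0 ∧
      cj g (RGD.Sup (X l) (RGD.Pos (cs l) (h l))) = UN (cs l) (h l) (X l) := by
    intro l
    obtain ⟨g, hg, hgR⟩ := exists_rp_closure (cs := cs l) (hN := (D.rgd l).nsys) (w0 (cs l))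
    have h1 : g ∈ C l ⊓ NN0 (⨆ m, T m) T0 := by
      refine (?_ : closure (Set.range (n l)) ≤ _) hg
      rw [closure_le]
      rintro _ ⟨i, rfl⟩
      exact ⟨D.n_mem l i, D.n_mem_NN0 l i⟩
    refine ⟨g⁻¹, inv_mem h1.1, inv_mem h1.2, ?_⟩
    rw [← cj_UN (D.rgd l) hgR, ← cj_mul, inv_mul_cancel, cj_one]
  choose g hgC hgN hgU using hg
  have key : ∀ s : Finset κ, ∃ w ∈ ⨆ l ∈ s, C l, w ∈ NN0 (⨆ m, T m) T0 ∧
      ∀ l ∈ s, cj w (RGD.Sup (X l) (RGD.Pos (cs l) (h l))) = UN (cs l) (h l) (X l) := by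
    intro s
    induction s using Finset.induction_on with
    | empty => exact ⟨1, one_mem _, one_mem _, fun l hl => absurd hl (Finset.notMem_empty l)⟩
    | insert a s ha ih =>
      obtain ⟨w, hw, hwN, hwU⟩ := ih
      have hcomm : ∀ c ∈ C a, c * w = w * c := by
        intro c hc
        have h1 : (⨆ l ∈ s, C l) ≤ centralizer {c} := by
          refine iSup₂_le fun m hm y hy => ?_
          rw [mem_centralizer_iff]
          rintro _ rfl
          have hne : a ≠ m := by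
            rintro rfl
            exact ha hm
          exact D.comm a m hne _ hc y hy
        exact mem_centralizer_iff.1 (h1 hw) c rfl
      refine ⟨g a * w, ?_, mul_mem (hgN a) hwN, ?_⟩
      · rw [Finset.iSup_insert]
        exact mul_mem (mem_sup_left (hgC a)) (mem_sup_right hw)
      · intro l hl
        rw [cj_mul]
        by_cases hla : l = a
        · subst hla
          have h1 : cj w (RGD.Sup (X l) (RGD.Pos (cs l) (h l))) = RGD.Sup (X l) (RGD.Pos (cs l) (h l)) := by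
            apply le_antisymm
            · rintro _ ⟨u, hu, rfl⟩
              change w * u * w⁻¹ ∈ _
              rw [← hcomm u (D.U_le l hu), mul_inv_cancel_right]
              exact hu
            · intro u hu
              rw [mem_cj]
              have := hcomm u (D.U_le l hu)
              rw [mul_assoc, this, inv_mul_cancel_left]
              exact hu
          rw [h1, hgU]
        · rw [hwU l ((Finset.mem_insert.1 hl).resolve_left hla)]
          have hm : ∀ u ∈ UN (cs l) (h l) (X l), g a * u = u * g a := fun u hu =>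
            (D.comm l a hla u (D.fam.UN_le l hu) (g a) (hgC a)).symm
          apply le_antisymm
          · rintro _ ⟨u, hu, rfl⟩
            change g a * u * (g a)⁻¹ ∈ _
            rw [hm u hu, mul_inv_cancel_right]
            exact hu
          · intro u hu
            rw [mem_cj, mul_assoc, ← hm u hu, inv_mul_cancel_left]
            exact hu
  obtain ⟨w, hw, hwN, hwU⟩ := key Finset.univ
  refine ⟨w, ?_, hwN, ?_⟩
  · refine (?_ : (⨆ l ∈ (Finset.univ : Finset κ), C l) ≤ ⨆ l, C l) hw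
    exact iSup₂_le fun l _ => le_iSup C l
  · unfold Ut UNt
    rw [cj_iSup]
    exact iSup_congr fun l => hwU l (Finset.mem_univ l)

end Comps

end Cfsg.Agent.Omega.CR
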