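import Cfsg.Agent.Omega.CR.BlK
import Cfsg.Agent.Omega.ML.LieRow.CRB.AbB
import Cfsg.Agent.Omega.ML.MinIrr
import Cfsg.Agent.MinSimple.MinParabolic

/-!
# Lie type in characteristic two: subgroups of the module normalised by the small overgroups of `T` (helper264)

`K ⊴ H`, `H = KT`, `T` a Sylow 2-subgroup, `M` an elementary abelian 2-group, `C_M(T ∩ K)` a simple `N_K(T ∩ K)`-module,
`N_K(T ∩ K) / (T ∩ K)` abelian.

* **`sub_ab`** : `Y ≠ 1` a subgroup of `M` normalised by `N_H(T)`, such that every minimal parabolic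
  `P ≤ N_H(T ∩ K)` over `T` normalises `Y` or fixes a vector `≠ 1`: then `C_M(T ∩ K) ≤ Y`;
* `comm_split` : `N_K(S) / S` is abelian for the Sylow 2-subgroups `S` of the groups with `HasSplitAb 2`;
* **`sub_lie2`** : the case `K` simple of Lie type in characteristic two, `M|_K` irreducible.
-/

set_option autoImplicit false
set_option linter.unusedSectionVars false

namespace Cfsg.Agent.Omega.CR.SubY

open Subgroup Cfsg Cfsg.Agent.ClassTwoFusion.Quad Cfsg.Agent.FixBN Cfsg.Agent.Omega.ML.LieRow.CRB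
open Cfsg.Agent.MinSimple.MinParabolic (IsMinPar le_of_forall)

universe u v

section

variable {H : Type u} [Group H] {M : Type v} [Group M] [MulDistribMulAction H M]

/-- the stabiliser of a subgroup of `M` -/
def st (H : Type u) [Group H] {M : Type v} [Group M] [MulDistribMulAction H M] (Z : Subgroup M) : Subgroup H where
  carrier := {h | ∀ m : M, h • m ∈ Z ↔ m ∈ Z}
  one_mem' := fun m => by rw [one_smul]
  mul_mem' := fun {a b} ha hb m => by rw [mul_smul, ha, hb]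
  inv_mem' := fun {a} ha m => by rw [← ha (a⁻¹ • m), smul_inv_smul]

theorem mem_st {Z : Subgroup M} {h : H} : h ∈ st H Z ↔ ∀ m : M, h • m ∈ Z ↔ m ∈ Z := Iff.rfl

theorem le_st {Z : Subgroup M} {R : Subgroup H} (h : ∀ r ∈ R, ∀ z ∈ Z, r • z ∈ Z) : R ≤ st H Z := by
  intro r hr m
  refine ⟨fun h1 => ?_, fun h1 => h r hr m h1⟩
  have h2 := h r⁻¹ (inv_mem hr) _ h1
  rwa [inv_smul_smul] at h2

variable {K T : Subgroup H}

/-- `N_H(T ∩ K)` acts on `C_M(T ∩ K)` -/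
theorem smul_mem_cv {n : H} (hn : n ∈ normalizer ((T ⊓ K : Subgroup H) : Set H)) {m : M}
    (hm : m ∈ cv M ((T ⊓ K : Subgroup H) : Set H)) : n • m ∈ cv M ((T ⊓ K : Subgroup H) : Set H) := by
  intro s hs
  have h1 : n⁻¹ * s * n ∈ T ⊓ K := by
    have := (mem_normalizer_iff.1 (inv_mem hn) s).1 hs
    rwa [inv_inv] at this
  have h2 : s * n = n * (n⁻¹ * s * n) := by group
  rw [← mul_smul, h2, mul_smul, hm _ h1]

/-- **the abstract form** -/
theorem sub_ab [Finite H] [Finite M] (hK : K.Normal) (hKT : K ⊔ T = ⊤) (hT : IsPGroup 2 T) (sq : ∀ m : M, m * m = 1)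
    (hcr : ∀ W : Subgroup M, (∀ w ∈ W, ∀ s ∈ T ⊓ K, s • w = w) →
      (∀ n ∈ normalizer ((T ⊓ K : Subgroup H) : Set H), n ∈ K → ∀ w ∈ W, n • w ∈ W) → W ≠ ⊥ →
      ∀ m : M, (∀ s ∈ T ⊓ K, s • m = m) → m ∈ W)
    (hab : ∀ a ∈ normalizer ((T ⊓ K : Subgroup H) : Set H), a ∈ K →
      ∀ b ∈ normalizer ((T ⊓ K : Subgroup H) : Set H), b ∈ K → a * b * a⁻¹ * b⁻¹ ∈ T)
    {Y : Subgroup M} (hY : Y ≠ ⊥) (hN : ∀ n ∈ normalizer (T : Set H), ∀ y ∈ Y, n • y ∈ Y)
    (hP : ∀ P : Subgroup H, IsMinPar T P → P ≤ normalizer ((T ⊓ K : Subgroup H) : Set H) →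
      (∀ p ∈ P, ∀ y ∈ Y, p • y ∈ Y) ∨ ∃ x : M, x ≠ 1 ∧ ∀ p ∈ P, p • x = x) :
    cv M ((T ⊓ K : Subgroup H) : Set H) ≤ Y := by
  have hTX : T ≤ normalizer ((T ⊓ K : Subgroup H) : Set H) := by
    intro t ht
    rw [mem_normalizer_iff]
    intro x
    constructor
    · rintro ⟨hx, hxK⟩
      exact ⟨T.mul_mem (T.mul_mem ht hx) (T.inv_mem ht), hK.conj_mem x hxK t⟩
    · rintro ⟨hx, hxK⟩
      refine ⟨?_, ?_⟩
      · have := mul_mem (mul_mem (inv_mem ht) hx) ht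
        have e : t⁻¹ * (t * x * t⁻¹) * t = x := by group
        rwa [e] at this
      · have := hK.conj_mem _ hxK t⁻¹
        have e : t⁻¹ * (t * x * t⁻¹) * t⁻¹⁻¹ = x := by group
        rwa [e] at this
  have hTN : ∀ t ∈ T, ∀ y ∈ Y, t • y ∈ Y := fun t ht => hN t (le_normalizer ht)
  have key : normalizer ((T ⊓ K : Subgroup H) : Set H) ≤
      st H (Y ⊓ cv M ((T ⊓ K : Subgroup H) : Set H)) := by
    refine le_of_forall hTX ?_ fun P hPm hPX => ?_
    · refine le_st ?_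
      rintro n ⟨hn, hnT⟩ z ⟨hz, hz'⟩
      exact ⟨hN n hnT z hz, smul_mem_cv hn hz'⟩
    · rcases hP P hPm hPX with h1 | ⟨x, hx1, hx⟩
      · refine le_st ?_
        rintro p hp z ⟨hz, hz'⟩
        exact ⟨h1 p hp z hz, smul_mem_cv (hPX hp) hz'⟩
      · -- `C(P ∩ K)` on `C_M(T ∩ K)`
        let W : Subgroup M :=
          { carrier := {w | w ∈ cv M ((T ⊓ K : Subgroup H) : Set H) ∧ ∀ d ∈ P ⊓ K, d • w = w}
            one_mem' := ⟨one_mem _, fun d _ => smul_one d⟩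
            mul_mem' := fun {a b} ha hb => ⟨mul_mem ha.1 hb.1, fun d hd => by
              rw [smul_mul', ha.2 d hd, hb.2 d hd]⟩
            inv_mem' := fun {a} ha => ⟨inv_mem ha.1, fun d hd => by rw [smul_inv', ha.2 d hd]⟩ }
        have hWm : ∀ w, w ∈ W ↔ w ∈ cv M ((T ⊓ K : Subgroup H) : Set H) ∧ ∀ d ∈ P ⊓ K, d • w = w := fun _ => Iff.rfl
        have hxW : x ∈ W := (hWm x).2 ⟨fun s hs => hx s (hPm.le hs.1), fun d hd => hx d hd.1⟩
        have hW := hcr W (fun w hw s hs => ((hWm w).1 hw).1 s hs) (by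
          intro b hb hbK w hw
          rw [hWm] at hw ⊢
          refine ⟨smul_mem_cv hb hw.1, fun d hd => ?_⟩
          have hdX := hPX hd.1
          have h2 := hab d⁻¹ (inv_mem hdX) (inv_mem hd.2) b⁻¹ (inv_mem hb) (inv_mem hbK)
          rw [inv_inv, inv_inv] at h2
          have h3 : d⁻¹ * b⁻¹ * d * b ∈ T ⊓ K :=
            ⟨h2, K.mul_mem (K.mul_mem (K.mul_mem (K.inv_mem hd.2) (K.inv_mem hbK)) hd.2) hbK⟩
          have h4 : d * b = b * (d * (d⁻¹ * b⁻¹ * d * b)) := by group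
          rw [← mul_smul, h4, mul_smul, mul_smul, hw.1 _ h3, hw.2 d hd]) (by
          intro h2
          rw [h2, mem_bot] at hxW
          exact hx1 hxW)
        refine le_st ?_
        rintro p hp z ⟨hz, hz'⟩
        have h2 : p ∈ K ⊔ T := by rw [hKT]; trivial
        obtain ⟨d, hd, t, ht, rfl⟩ := mem_sup_of_normal_left.1 h2
        have hdP : d ∈ P := by
          have := mul_mem hp (inv_mem (hPm.le ht))
          rwa [mul_inv_cancel_right] at this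
        have h3 : t • z ∈ cv M ((T ⊓ K : Subgroup H) : Set H) := smul_mem_cv (hTX ht) hz'
        have h4 : d • t • z = t • z := ((hWm _).1 (hW (t • z) h3)).2 d ⟨hdP, hd⟩
        rw [mul_smul, h4]
        exact ⟨hTN t ht z hz, h3⟩
  -- the end
  have hne : Y ⊓ cv M ((T ⊓ K : Subgroup H) : Set H) ≠ ⊥ := by
    obtain ⟨y, hy, hy1, hyT⟩ := ML.MinFrame.exists_fixed sq hT hY hTN
    intro h1
    have h2 : y ∈ Y ⊓ cv M ((T ⊓ K : Subgroup H) : Set H) := ⟨hy, fun s hs => hyT s hs.1⟩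
    rw [h1, mem_bot] at h2
    exact hy1 h2
  intro m hm
  exact (hcr (Y ⊓ cv M ((T ⊓ K : Subgroup H) : Set H)) (fun w hw s hs => hw.2 s hs)
    (fun n hn _ w hw => (key hn w).2 hw) hne m fun s hs => hm s hs).1

end

/-! ### `N_K(S) / S` is abelian -/

theorem isSylow_of_split {K : Type u} [Group K] [Finite K] {P : Cfsg.BNPair K} {U : Subgroup K} (h : Split P 2 U)
    {Q : Subgroup K} (hQ : IsPGroup 2 Q) (hUQ : U ≤ Q) : Q = U := by
  have : Fact (Nat.Prime 2) := ⟨Nat.prime_two⟩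
  by_contra hne
  have hlt : U.subgroupOf Q < ⊤ := by
    rw [lt_top_iff_ne_top, Ne, subgroupOf_eq_top]
    exact fun h1 => hne (le_antisymm h1 hUQ)
  have hnil : Group.IsNilpotent Q := hQ.isNilpotent
  have h1 := Group.normalizerCondition_of_isNilpotent (G := Q) _ hlt
  obtain ⟨⟨q, hq⟩, hqn, hqU⟩ := SetLike.exists_of_lt h1
  rw [mem_normalizer_iff] at hqn
  apply hqU
  rw [mem_subgroupOf]
  have h2 : q ∈ normalizer (U : Set K) := by
    rw [mem_normalizer_iff]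
    intro x
    constructor
    · intro hx
      exact (hqn ⟨x, hUQ hx⟩).1 hx
    · intro hx
      have hxQ : x ∈ Q := by
        have := mul_mem (mul_mem (inv_mem hq) (hUQ hx)) hq
        have e : q⁻¹ * (q * x * q⁻¹) * q = x := by group
        rwa [e] at this
      exact (hqn ⟨x, hxQ⟩).2 hx
  rw [h.normalizer_eq] at h2
  obtain ⟨n, hn⟩ := hQ ⟨q, hq⟩
  exact h.mem_of_pow h2 (n := n) (congrArg Subtype.val hn)

/-- `N_K(S) / S` is abelian -/
theorem comm_split {K : Type u} [Group K] [Finite K] (h : HasSplitAb 2 K) {S : Subgroup K} (hS : IsPGroup 2 S)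
    (hSi : ¬ 2 ∣ S.index) : ∀ a ∈ normalizer (S : Set K), ∀ b ∈ normalizer (S : Set K), a * b * a⁻¹ * b⁻¹ ∈ S := by
  have : Fact (Nat.Prime 2) := ⟨Nat.prime_two⟩
  obtain ⟨P, U, -, hs, hc⟩ := h
  let U' : Sylow 2 K := ⟨U, hs.isP, fun hQ hUQ => isSylow_of_split hs hQ hUQ⟩
  obtain ⟨g, hg⟩ := MulAction.exists_smul_eq K U' (hS.toSylow hSi)
  have hmem : ∀ x : K, x ∈ S ↔ g⁻¹ * x * g ∈ U := by
    intro x
    have h1 : x ∈ S ↔ x ∈ ((g • U' : Sylow 2 K) : Subgroup K) := by rw [hg]; rfl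
    rw [h1, Sylow.coe_subgroup_smul, mem_pointwise_smul_iff_inv_smul_mem, ← map_inv, MulAut.smul_def,
      MulAut.conj_apply, inv_inv]
  have hnor : ∀ a ∈ normalizer (S : Set K), g⁻¹ * a * g ∈ P.B := by
    intro a ha
    rw [← hs.normalizer_eq, mem_normalizer_iff]
    intro x
    have h1 := (mem_normalizer_iff.1 ha) (g * x * g⁻¹)
    change g * x * g⁻¹ ∈ S ↔ a * (g * x * g⁻¹) * a⁻¹ ∈ S at h1
    rw [hmem, hmem] at h1
    have e1 : g⁻¹ * (g * x * g⁻¹) * g = x := by group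
    have e2 : g⁻¹ * (a * (g * x * g⁻¹) * a⁻¹) * g = g⁻¹ * a * g * x * (g⁻¹ * a * g)⁻¹ := by group
    rw [e1, e2] at h1
    exact h1
  intro a ha b hb
  rw [hmem]
  have h1 := hc _ (hnor a ha) _ (hnor b hb)
  have e : g⁻¹ * (a * b * a⁻¹ * b⁻¹) * g =
      g⁻¹ * a * g * (g⁻¹ * b * g) * (g⁻¹ * a * g)⁻¹ * (g⁻¹ * b * g)⁻¹ := by group
  rw [e]
  exact h1

/-- **`K` simple of Lie type in characteristic two.** -/
theorem sub_lie2 {H : Type u} [Group H] [Finite H] {M : Type v} [Group M] [Finite M] [MulDistribMulAction H M]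
    {K T : Subgroup H} (hK : K.Normal) (hs : IsSimpleGroup K) (hl : IsLieTypeChar 2 K) (hKT : K ⊔ T = ⊤)
    (hT : IsPGroup 2 T) (hTi : ¬ 2 ∣ T.index) (sq : ∀ m : M, m * m = 1)
    (irr : ∀ W : Subgroup M, (∀ k ∈ K, ∀ w ∈ W, k • w ∈ W) → W = ⊥ ∨ W = ⊤)
    {Y : Subgroup M} (hY : Y ≠ ⊥) (hN : ∀ n ∈ normalizer (T : Set H), ∀ y ∈ Y, n • y ∈ Y)
    (hP : ∀ P : Subgroup H, IsMinPar T P → P ≤ normalizer ((T ⊓ K : Subgroup H) : Set H) →
      (∀ p ∈ P, ∀ y ∈ Y, p • y ∈ Y) ∨ ∃ x : M, x ≠ 1 ∧ ∀ p ∈ P, p • x = x) :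
    cv M ((T ⊓ K : Subgroup H) : Set H) ≤ Y := by
  have : Fact (Nat.Prime 2) := ⟨Nat.prime_two⟩
  refine sub_ab hK hKT hT sq (fun W hW hN' hne m hm => Bl.cr_lie hK hs hl hT hTi sq irr hW hN' hne m hm) ?_ hY hN hP
  intro a ha haK b hb hbK
  have hV : IsPGroup 2 (T.subgroupOf K) := hT.comap_of_injective _ K.subtype_injective
  have h2 : ¬ 2 ∣ (T.subgroupOf K).index := Lib.SylowNormalInf.not_dvd_relIndex (hT.toSylow hTi) K
  have hn : ∀ c ∈ normalizer ((T ⊓ K : Subgroup H) : Set H), ∀ hc : c ∈ K,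
      (⟨c, hc⟩ : K) ∈ normalizer ((T.subgroupOf K : Subgroup K) : Set K) := by
    intro c hc hcK
    rw [mem_normalizer_iff] at hc ⊢
    rintro ⟨x, hx⟩
    constructor
    · intro h3
      exact ((hc x).1 ⟨h3, hx⟩).1
    · intro h3
      exact ((hc x).2 ⟨h3, K.mul_mem (K.mul_mem hcK hx) (K.inv_mem hcK)⟩).1
  exact comm_split (hasSplitAb_of_lie hs hl) hV h2 _ (hn a ha haK) _ (hn b hb hbK)

end Cfsg.Agent.Omega.CR.SubY
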