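import Cfsg.Agent.Omega.CR.SubY
import Cfsg.Agent.Omega.ML.Ex.IrrK

/-!
# Subgroups of the module normalised by the small overgroups of `T`, in the situation `InX` (helper264)

**`sub_inX`** : `InX H M K T A`, `K` of Lie type in characteristic two, `Y ≠ 1` normalised by `N_H(T)`, every minimal
parabolic `P ≤ N_H(T ∩ K)` over `T` normalises `Y` or fixes a vector `≠ 1`: then `C_M(T ∩ K) ≤ Y`;
`sub_inX_fix` : so all `T`-fixed vectors are in `Y`.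
-/

set_option autoImplicit false

namespace Cfsg.Agent.Omega.CR.SubY

open Subgroup Cfsg Cfsg.Agent.ClassTwoFusion.Quad Cfsg.Agent.Omega.ML.Ex
open Cfsg.Agent.Omega.ML.Final (MLK)
open Cfsg.Agent.MinSimple.MinParabolic (IsMinPar)

universe u v

variable {H : Type u} [Group H] [Finite H] {M : Type v} [Group M] [Finite M] [MulDistribMulAction H M]
  {K T A : Subgroup H}

theorem sub_inX (ml : MLK.{u, v}) (hKG : IsKGroup H) (h : InX H M K T A) (hl : IsLieTypeChar 2 K) {Y : Subgroup M}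
    (hY : Y ≠ ⊥) (hN : ∀ n ∈ normalizer (T : Set H), ∀ y ∈ Y, n • y ∈ Y)
    (hP : ∀ P : Subgroup H, IsMinPar T P → P ≤ normalizer ((T ⊓ K : Subgroup H) : Set H) →
      (∀ p ∈ P, ∀ y ∈ Y, p • y ∈ Y) ∨ ∃ x : M, x ≠ 1 ∧ ∀ p ∈ P, p • x = x) :
    cv M ((T ⊓ K : Subgroup H) : Set H) ≤ Y :=
  sub_lie2 h.norm h.simple hl h.gen h.two h.syl h.sq (h.irr_K ml hKG) hY hN hP

theorem sub_inX_fix (ml : MLK.{u, v}) (hKG : IsKGroup H) (h : InX H M K T A) (hl : IsLieTypeChar 2 K)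
    {Y : Subgroup M} (hY : Y ≠ ⊥) (hN : ∀ n ∈ normalizer (T : Set H), ∀ y ∈ Y, n • y ∈ Y)
    (hP : ∀ P : Subgroup H, IsMinPar T P → P ≤ normalizer ((T ⊓ K : Subgroup H) : Set H) →
      (∀ p ∈ P, ∀ y ∈ Y, p • y ∈ Y) ∨ ∃ x : M, x ≠ 1 ∧ ∀ p ∈ P, p • x = x) {z : M}
    (hz : ∀ t ∈ T, t • z = z) : z ∈ Y :=
  sub_inX ml hKG h hl hY hN hP fun s hs => hz s hs.1

end Cfsg.Agent.Omega.CR.SubY
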